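import Mathlib
import Cfsg.Agent.Lib.ThreeTrans.TypeTop.BaseThompson
import Cfsg.Agent.Lib.ThreeTrans.Tower.BasePairs
import Cfsg.Agent.Lib.ThreeTrans.Tower.Orders

/-! Bases in type M(22): all are conjugate, their stabilisers are transitive on ordered triples, their number
is odd, and the elements centralising a base are short products of its members. -/

set_option autoImplicit false

namespace CfsgLib.ThreeTrans.FiCent23

open CfsgLib.ThreeTrans CfsgLib.ThreeTrans.Tower CfsgLib.ThreeTrans.TypeTop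

universe u

variable {Y : Type u} [Group Y] {E : Set Y}

/-- A primitive class of type M(22). -/
structure M22 (E : Set Y) : Prop where
  group : Cfsg.IsThreeTranspositionGroup E
  prim : Cfsg.IsPrimitiveUnderConj E
  typ : Cfsg.IsOfTypeM22 Y E

/-- Conjugation as a function. -/
def cj (g : Y) (y : Y) : Y := g * y * g⁻¹

theorem cj_inj (g : Y) : Function.Injective (cj g) :=
  fun u v k => mul_left_cancel (mul_right_cancel k)

theorem cj_cj (g k y : Y) : cj g (cj k y) = cj (g * k) y := by simp [cj, mul_assoc]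

theorem cj_image_comp (g k : Y) (B : Set Y) : cj g '' (cj k '' B) = cj (g * k) '' B := by
  rw [Set.image_image]; simp only [cj_cj]

/-- Three distinct pairwise commuting members. -/
def Triple (E : Set Y) (a b c : Y) : Prop :=
  a ∈ E ∧ b ∈ E ∧ c ∈ E ∧ a ≠ b ∧ a ≠ c ∧ b ≠ c ∧ Commute a b ∧ Commute a c ∧ Commute b c

theorem triple_of_base {B : Set Y} (hB : IsBase22 E B) {a b c : Y} (ha : a ∈ B) (hb : b ∈ B) (hc : c ∈ B)
    (nab : a ≠ b) (nac : a ≠ c) (nbc : b ≠ c) : Triple E a b c :=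
  ⟨hB.sub ha, hB.sub hb, hB.sub hc, nab, nac, nbc, hB.comm a ha b hb, hB.comm a ha c hc, hB.comm b hb c hc⟩

theorem Triple.mem_Dd {a b c : Y} (t : Triple E a b c) : b ∈ Dd E a ∧ c ∈ Dd E a ∩ Dd E b := by
  obtain ⟨-, hb, hc, nab, nac, nbc, cab, cac, cbc⟩ := t
  exact ⟨⟨hb, Ne.symm nab, cab⟩, ⟨hc, Ne.symm nac, cac⟩, ⟨hc, Ne.symm nbc, cbc⟩⟩

theorem base_conj (hc : ConjClosed E) {B : Set Y} (hB : IsBase22 E B) (g : Y) : IsBase22 E (cj g '' B) := by
  refine ⟨?_, ?_, ?_, ?_⟩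
  · rintro _ ⟨x, hx, rfl⟩; exact hc.conj g x (hB.sub hx)
  · rintro _ ⟨x, hx, rfl⟩ _ ⟨y, hy, rfl⟩; exact (commute_conj_iff g x y).2 (hB.comm x hx y hy)
  · rw [Set.ncard_image_of_injective _ (cj_inj g), hB.card]
  · rintro e he hne _ ⟨x, hx, rfl⟩ hcx
    obtain ⟨e', rfl⟩ : ∃ e', cj g e' = e := ⟨g⁻¹ * e * g, by simp [cj, mul_assoc]⟩
    have he' : e' ∈ E := by
      have := hc.conj' g he
      simpa [cj, mul_assoc] using this
    have h6 := hB.outside e' he' (fun k => hne ⟨e', k, rfl⟩) x hx ((commute_conj_iff g e' x).1 hcx)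
    rw [show {y | y ∈ cj g '' B ∧ Commute (cj g e') y} = cj g '' {y | y ∈ B ∧ Commute e' y} from ?_,
      Set.ncard_image_of_injective _ (cj_inj g), h6]
    ext y
    constructor
    · rintro ⟨⟨z, hz, rfl⟩, hcz⟩
      exact ⟨z, ⟨hz, (commute_conj_iff g e' z).1 hcz⟩, rfl⟩
    · rintro ⟨z, ⟨hz, hcz⟩, rfl⟩
      exact ⟨⟨z, hz, rfl⟩, (commute_conj_iff g e' z).2 hcz⟩

variable [Finite Y]

namespace M22

variable (h : M22 E)
include h

theorem set : Cfsg.IsThreeTranspositionSet E := h.group.1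

theorem closed : ConjClosed E := conjClosed_of_group h.group

theorem loc : Local E 3510 693 180 126 := local22 h.group h.prim h.typ

theorem rel {j : ℕ} (hj : j ≤ 5) (h2 : 2 ≤ j) : NoRel E j := (good22 h.group h.typ).rel j hj h2

theorem exists_K : ∃ (F : Type) (_ : Field F) (_ : Fintype F), Data22 E F :=
  exists_data22 h.group h.prim h.typ

theorem classify {x : Y} (hx : x * x = 1) (h1 : x ≠ 1) : ∃ n, 1 ≤ n ∧ n ≤ 3 ∧ IsProd E n x :=
  classify22 h.group h.prim h.typ hx h1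

theorem len_unique {n n' : ℕ} {x : Y} (hn : 1 ≤ n) (hn3 : n ≤ 3) (hn' : 1 ≤ n') (hn3' : n' ≤ 3)
    (hp : IsProd E n x) (hp' : IsProd E n' x) : n = n' :=
  length_unique h.set (h.rel (by norm_num) (by norm_num)) (h.rel (by norm_num) (by norm_num))
    (h.rel le_rfl (by norm_num)) hn hn3 hn' hn3' hp hp'

theorem ncard_hex {a b c : Y} (t : Triple E a b c) : (hex E a b c).ncard = 6 := by
  obtain ⟨F, _, _, K⟩ := h.exists_K
  obtain ⟨ha, hb, hc, nab, nac, nbc, cab, cac, cbc⟩ := t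
  exact K.ncard_hex ha hb hc nab nac nbc cab cac cbc

/-- A base through three commuting members. -/
theorem exists_outer {a b c : Y} (t : Triple E a b c) :
    ∃ w ∈ E, Commute w a ∧ Commute w b ∧ Commute w c ∧ w ∉ hex E a b c := by
  obtain ⟨F, _, _, K⟩ := h.exists_K
  obtain ⟨ha, hb, hc, nab, nac, nbc, cab, cac, cbc⟩ := t
  obtain ⟨w, ⟨hw, wa, wb, wc⟩, hwH⟩ :
      ({y | y ∈ E ∧ Commute y a ∧ Commute y b ∧ Commute y c} \ hex E a b c).Nonempty :=
    Set.nonempty_of_ncard_ne_zero (by rw [K.ncard_outer ha hb hc nab nac nbc cab cac cbc]; norm_num)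
  exact ⟨w, hw, wa, wb, wc, hwH⟩

theorem base_of_outer {a b c w : Y} (t : Triple E a b c) (hw : w ∈ E) (wa : Commute w a) (wb : Commute w b)
    (wc : Commute w c) (hwH : w ∉ hex E a b c) :
    IsBase22 E {y | y ∈ E ∧ Commute y a ∧ Commute y b ∧ Commute y c ∧ Commute y w} := by
  obtain ⟨F, _, _, K⟩ := h.exists_K
  obtain ⟨ha, hb, hc, nab, nac, nbc, cab, cac, cbc⟩ := t
  exact K.exists_base22 ha hb hc nab nac nbc cab cac cbc hw wa wb wc hwH

theorem exists_base_through {a b c : Y} (t : Triple E a b c) : ∃ B, IsBase22 E B ∧ a ∈ B ∧ b ∈ B ∧ c ∈ B := by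
  obtain ⟨w, hw, wa, wb, wc, hwH⟩ := h.exists_outer t
  refine ⟨_, h.base_of_outer t hw wa wb wc hwH, ?_⟩
  obtain ⟨ha, hb, hc, -, -, -, cab, cac, cbc⟩ := t
  exact ⟨⟨ha, Commute.refl a, cab, cac, wa.symm⟩, ⟨hb, cab.symm, Commute.refl b, cbc, wb.symm⟩,
    hc, cac.symm, cbc.symm, Commute.refl c, wc.symm⟩

theorem exists_base : ∃ B, IsBase22 E B := TypeTop.exists_base h.group h.prim h.typ

/-- Any member lies in a commuting triple, and so does any commuting pair. -/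
theorem exists_third {a b : Y} (ha : a ∈ E) (hb : b ∈ E) (nab : a ≠ b) (cab : Commute a b) :
    ∃ c, Triple E a b c := by
  obtain ⟨c, hca, hcb⟩ : (Dd E a ∩ Dd E b).Nonempty :=
    Set.nonempty_of_ncard_ne_zero (by rw [h.loc.lam a ha b ⟨hb, Ne.symm nab, cab⟩]; norm_num)
  exact ⟨c, ha, hb, hca.1, nab, Ne.symm hca.2.1, Ne.symm hcb.2.1, cab, hca.2.2, hcb.2.2⟩

theorem exists_second {a : Y} (ha : a ∈ E) : ∃ b ∈ E, a ≠ b ∧ Commute a b := by
  obtain ⟨b, hb⟩ : (Dd E a).Nonempty := Set.nonempty_of_ncard_ne_zero (by rw [h.loc.deg a ha]; norm_num)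
  exact ⟨b, hb.1, Ne.symm hb.2.1, hb.2.2⟩

variable {B : Set Y} (hB : IsBase22 E B)
include hB

theorem exists_outer_mem {a b c : Y} (t : Triple E a b c) : ∃ w ∈ B, w ∉ hex E a b c :=
  Set.exists_mem_notMem_of_ncard_lt_ncard (by rw [hB.card, h.ncard_hex t]; norm_num) (Set.toFinite _)

theorem hex_subset {a b c : Y} (ha : a ∈ B) (hb : b ∈ B) (hc : c ∈ B) : hex E a b c ⊆ B := by
  obtain ⟨F, _, _, K⟩ := h.exists_K
  exact (K.six_in_base hB ha hb hc).1

theorem eq_through {a b c w : Y} (ha : a ∈ B) (hb : b ∈ B) (hc : c ∈ B) (hw : w ∈ B) (t : Triple E a b c)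
    (hwH : w ∉ hex E a b c) : B = {y | y ∈ E ∧ Commute y a ∧ Commute y b ∧ Commute y c ∧ Commute y w} := by
  have hb' := h.base_of_outer t (hB.sub hw) (hB.comm w hw a ha) (hB.comm w hw b hb) (hB.comm w hw c hc) hwH
  refine Set.eq_of_subset_of_ncard_le (fun y hy => ⟨hB.sub hy, hB.comm y hy a ha, hB.comm y hy b hb,
    hB.comm y hy c hc, hB.comm y hy w hw⟩) ?_ (Set.toFinite _)
  rw [hb'.card, hB.card]

/-- Two bases through three members are conjugate by an element centralising the three. -/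
theorem fix_move {B' : Set Y} (hB' : IsBase22 E B') {a b c : Y} (t : Triple E a b c) (ha : a ∈ B) (hb : b ∈ B)
    (hc : c ∈ B) (ha' : a ∈ B') (hb' : b ∈ B') (hc' : c ∈ B') :
    ∃ g : Y, cj g a = a ∧ cj g b = b ∧ cj g c = c ∧ cj g '' B' = B := by
  obtain ⟨w, hw, hwH⟩ := h.exists_outer_mem hB t
  obtain ⟨w', hw', hwH'⟩ := h.exists_outer_mem hB' t
  by_cases hcom : Commute w w'
  · refine ⟨1, by simp [cj], by simp [cj], by simp [cj], ?_⟩
    have hw'B : w' ∈ B := by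
      rw [h.eq_through hB ha hb hc hw t hwH]
      exact ⟨hB'.sub hw', hB'.comm w' hw' a ha', hB'.comm w' hw' b hb', hB'.comm w' hw' c hc', hcom.symm⟩
    rw [h.eq_through hB ha hb hc hw'B t hwH', ← h.eq_through hB' ha' hb' hc' hw' t hwH']
    ext y
    simp [cj]
  · have hs := h.set
    have hfix : ∀ x ∈ B, x ∈ B' → cj (w' * w) x = x := fun x hx hx' => by
      rw [cj, ((hB'.comm w' hw' x hx').mul_left (hB.comm w hw x hx)).eq, mul_inv_cancel_right]
    have hmove : cj (w' * w) w' = w := by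
      have br := braid hs (hB.sub hw) (hB'.sub hw') hcom
      rw [cj, mul_inv_rev, inv_eq hs (hB.sub hw), inv_eq hs (hB'.sub hw'),
        show w' * w * w' * (w * w') = (w' * w * w') * (w * w') by simp [mul_assoc], ← br]
      simp [mul_assoc, mul_self_mul hs (hB.sub hw), mul_self hs (hB'.sub hw'), mul_self_mul hs (hB'.sub hw')]
    refine ⟨w' * w, hfix a ha ha', hfix b hb hb', hfix c hc hc', ?_⟩
    have hI := base_conj h.closed hB' (w' * w)
    rw [h.eq_through hI ⟨a, ha', hfix a ha ha'⟩ ⟨b, hb', hfix b hb hb'⟩ ⟨c, hc', hfix c hc hc'⟩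
      ⟨w', hw', hmove⟩ t hwH, ← h.eq_through hB ha hb hc hw t hwH]

/-- The stabiliser of a base is transitive on ordered triples, and bases are conjugate. -/
theorem triples_conj {B' : Set Y} (hB' : IsBase22 E B') {a b c a' b' c' : Y} (t : Triple E a b c)
    (ha : a ∈ B) (hb : b ∈ B) (hc : c ∈ B) (t' : Triple E a' b' c') (ha' : a' ∈ B') (hb' : b' ∈ B')
    (hc' : c' ∈ B') : ∃ g : Y, cj g a = a' ∧ cj g b = b' ∧ cj g c = c' ∧ cj g '' B = B' := by
  obtain ⟨F, _, _, K⟩ := h.exists_K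
  obtain ⟨E', S, -⟩ := K.stage
  obtain ⟨g, rfl, rfl, rfl⟩ := triple_transitive S K.loc t.1 t.mem_Dd.1 t.mem_Dd.2 t'.1 t'.mem_Dd.1 t'.mem_Dd.2
  obtain ⟨k, k1, k2, k3, k4⟩ := h.fix_move hB' (base_conj h.closed hB g) t' ha' hb' hc'
    ⟨a, ha, rfl⟩ ⟨b, hb, rfl⟩ ⟨c, hc, rfl⟩
  refine ⟨k * g, ?_, ?_, ?_, ?_⟩
  · rw [← cj_cj]; exact k1
  · rw [← cj_cj]; exact k2
  · rw [← cj_cj]; exact k3
  · rw [← cj_image_comp]; exact k4

theorem exists_triple : ∃ a b c, a ∈ B ∧ b ∈ B ∧ c ∈ B ∧ Triple E a b c := by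
  obtain ⟨a, b, c, ha, hb, hc, nab, nac, nbc⟩ :=
    (Set.two_lt_ncard_iff (Set.toFinite B)).1 (by rw [hB.card]; norm_num)
  exact ⟨a, b, c, ha, hb, hc, triple_of_base hB ha hb hc nab nac nbc⟩

theorem bases_conj {B' : Set Y} (hB' : IsBase22 E B') : ∃ g : Y, cj g '' B = B' := by
  obtain ⟨a, b, c, ha, hb, hc, t⟩ := h.exists_triple hB
  obtain ⟨a', b', c', ha', hb', hc', t'⟩ := h.exists_triple hB'
  obtain ⟨g, -, -, -, e⟩ := h.triples_conj hB hB' t ha hb hc t' ha' hb' hc'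
  exact ⟨g, e⟩

/-- An involution centralising a base is a product of at most three of its members. -/
theorem centralizing {y : Y} (hy : y * y = 1) (hc : ∀ b ∈ B, Commute y b) :
    y = 1 ∨ y ∈ B ∨ (∃ a ∈ B, ∃ b ∈ B, a ≠ b ∧ y = a * b) ∨
      ∃ a ∈ B, ∃ b ∈ B, ∃ c ∈ B, a ≠ b ∧ a ≠ c ∧ b ≠ c ∧ y = a * b * c := by
  by_cases h1 : y = 1
  · exact Or.inl h1
  obtain ⟨n, hn1, hn3, hn⟩ := h.classify hy h1
  interval_cases n
  · exact Or.inr (Or.inl (hB.maximal (isProd_one.1 hn) hc))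
  · obtain ⟨a, ha, b, hb, rfl⟩ := isProd_two.1 hn
    have key := fun x (hx : x ∈ B) =>
      commute_of_commute_two h.set ha hb.1 (hB.sub hx) (Ne.symm hb.2.1) hb.2.2 (hc x hx).symm
    exact Or.inr (Or.inr (Or.inl ⟨a, hB.maximal ha fun x hx => (key x hx).1.symm, b,
      hB.maximal hb.1 fun x hx => (key x hx).2.symm, Ne.symm hb.2.1, rfl⟩))
  · obtain ⟨a, ha, b, hb, c, ⟨hca, hcb⟩, rfl⟩ := isProd_three.1 hn
    have key : ∀ x ∈ B, Commute x a ∧ Commute x b ∧ Commute x c := fun x hx => by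
      by_cases e : x = c
      · subst e; exact ⟨hca.2.2.symm, hcb.2.2.symm, Commute.refl x⟩
      exact commute_of_commute_three h.set ha hb.1 hca.1 (hB.sub hx) (Ne.symm hb.2.1) (Ne.symm hca.2.1)
        (Ne.symm hcb.2.1) hb.2.2 hca.2.2 hcb.2.2 e (hc x hx).symm
    exact Or.inr (Or.inr (Or.inr ⟨a, hB.maximal ha fun x hx => (key x hx).1.symm, b,
      hB.maximal hb.1 fun x hx => (key x hx).2.1.symm, c, hB.maximal hca.1 fun x hx => (key x hx).2.2.symm,
      Ne.symm hb.2.1, Ne.symm hca.2.1, Ne.symm hcb.2.1, rfl⟩))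

omit hB in
/-- Equal products of triples have the second inside the six of the first. -/
theorem triple_eq {a b c p q r : Y} (t : Triple E a b c) (t' : Triple E p q r) (e : a * b * c = p * q * r) :
    p ∈ hex E a b c ∧ q ∈ hex E a b c ∧ r ∈ hex E a b c := by
  obtain ⟨hp, hq, hr, npq, npr, nqr, cpq, cpr, cqr⟩ := t'
  have key : ∀ z ∈ E, Commute z a → Commute z b → Commute z c → Commute z p ∧ Commute z q ∧ Commute z r := by
    intro z hz za zb zc
    by_cases ez : z = r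
    · subst ez; exact ⟨cpr.symm, cqr.symm, Commute.refl z⟩
    exact commute_of_commute_three h.set hp hq hr hz npq npr nqr cpq cpr cqr ez
      (e ▸ (za.mul_right zb).mul_right zc)
  exact ⟨⟨hp, fun z hz za zb zc => (key z hz za zb zc).1.symm⟩,
    ⟨hq, fun z hz za zb zc => (key z hz za zb zc).2.1.symm⟩,
    ⟨hr, fun z hz za zb zc => (key z hz za zb zc).2.2.symm⟩⟩

omit hB in
/-- The six of two of its members and another of it is the same. -/
theorem hex_exchange {a b c x : Y} (t : Triple E a b c) (hx : x ∈ hex E a b c) (xa : x ≠ a) (xb : x ≠ b) :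
    hex E a b x = hex E a b c := by
  obtain ⟨F, _, _, K⟩ := h.exists_K
  obtain ⟨ha, hb, hc, nab, nac, nbc, cab, cac, cbc⟩ := t
  obtain ⟨-, -, -, -, -, -, rep⟩ := K.hex_spec ha hb hc nab nac nbc cab cac cbc
  have t' : Triple E a b x := ⟨ha, hb, hx.1, nab, Ne.symm xa, Ne.symm xb, cab,
    (hx.2 a ha (Commute.refl a) cab cac).symm, (hx.2 b hb cab.symm (Commute.refl b) cbc).symm⟩
  refine (Set.eq_of_subset_of_ncard_le ?_ ?_ (Set.toFinite _)).symm
  · intro y hy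
    refine ⟨hy.1, ?_⟩
    intro z hz za zb zx
    exact hy.2 z hz za zb (rep x hx xa xb z hz za zb zx)
  · rw [h.ncard_hex t', h.ncard_hex ⟨ha, hb, hc, nab, nac, nbc, cab, cac, cbc⟩]

end M22

variable (h : M22 E)
include h
set_option linter.unusedSectionVars false

/-- Three bases through three commuting members. -/
theorem M22.ncard_bases_through {a b c : Y} (t : Triple E a b c) :
    {B : Set Y | IsBase22 E B ∧ a ∈ B ∧ b ∈ B ∧ c ∈ B}.ncard = 3 := by
  obtain ⟨F, _, _, K⟩ := h.exists_K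
  obtain ⟨ha, hb, hc, nab, nac, nbc, cab, cac, cbc⟩ := id t
  have h16 : ∀ B ∈ {B : Set Y | IsBase22 E B ∧ a ∈ B ∧ b ∈ B ∧ c ∈ B},
      {w | w ∈ ({y | y ∈ E ∧ Commute y a ∧ Commute y b ∧ Commute y c} \ hex E a b c) ∧ w ∈ B}.ncard = 16 := by
    rintro B ⟨hB, xa, xb, xc⟩
    rw [show {w | w ∈ ({y | y ∈ E ∧ Commute y a ∧ Commute y b ∧ Commute y c} \ hex E a b c) ∧ w ∈ B} =
      B \ hex E a b c from Set.ext fun w => ⟨fun k => ⟨k.2, k.1.2⟩, fun k =>
        ⟨⟨⟨hB.sub k.1, hB.comm w k.1 a xa, hB.comm w k.1 b xb, hB.comm w k.1 c xc⟩, k.2⟩, k.1⟩⟩,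
      Set.ncard_sdiff (h.hex_subset hB xa xb xc), hB.card, h.ncard_hex t]
  have h1 : ∀ w ∈ ({y | y ∈ E ∧ Commute y a ∧ Commute y b ∧ Commute y c} \ hex E a b c),
      {B | B ∈ {B : Set Y | IsBase22 E B ∧ a ∈ B ∧ b ∈ B ∧ c ∈ B} ∧ w ∈ B}.ncard = 1 := by
    rintro w ⟨⟨hw, wa, wb, wc⟩, hwH⟩
    rw [Set.ncard_eq_one]
    refine ⟨{y | y ∈ E ∧ Commute y a ∧ Commute y b ∧ Commute y c ∧ Commute y w}, Set.ext fun B => ?_⟩
    constructor
    · rintro ⟨⟨hB, xa, xb, xc⟩, xw⟩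
      exact h.eq_through hB xa xb xc xw t hwH
    · rintro rfl
      exact ⟨⟨h.base_of_outer t hw wa wb wc hwH, ⟨ha, Commute.refl a, cab, cac, wa.symm⟩,
        ⟨hb, cab.symm, Commute.refl b, cbc, wb.symm⟩, hc, cac.symm, cbc.symm, Commute.refl c, wc.symm⟩,
        hw, wa, wb, wc, Commute.refl w⟩
  have := count_eq _ _ (fun w B => w ∈ B) h1 h16
  rw [K.ncard_outer ha hb hc nab nac nbc cab cac cbc] at this
  omega

theorem ordered_triples_card {B : Set Y} (hB : IsBase22 E B) :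
    {p : Y × Y × Y | p.1 ∈ B ∧ p.2.1 ∈ B \ {p.1} ∧ p.2.2 ∈ B \ {p.1, p.2.1}}.ncard = 9240 := by
  have h1 : ∀ a ∈ B, {q : Y × Y | q.1 ∈ B \ {a} ∧ q.2 ∈ B \ {a, q.1}}.ncard = 21 * 20 := by
    intro a ha
    rw [ncard_fibred (B \ {a}) (fun b => B \ {a, b}) (n := 20) fun b hb => ?_,
      Set.ncard_sdiff_singleton_of_mem ha, hB.card]
    rw [Set.ncard_sdiff (by rintro y (rfl | rfl); exacts [ha, hb.1]), hB.card,
      Set.ncard_pair fun e => hb.2 e.symm]
  have := ncard_fibred B (fun a => {q : Y × Y | q.1 ∈ B \ {a} ∧ q.2 ∈ B \ {a, q.1}}) h1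
  rw [hB.card] at this
  exact this

/-- The number of bases is odd. -/
theorem M22.odd_bases : Odd {B : Set Y | IsBase22 E B}.ncard := by
  have := count_eq {p : Y × Y × Y | p.1 ∈ E ∧ p.2.1 ∈ Dd E p.1 ∧ p.2.2 ∈ Dd E p.1 ∩ Dd E p.2.1}
    {B : Set Y | IsBase22 E B} (fun p B => p.1 ∈ B ∧ p.2.1 ∈ B ∧ p.2.2 ∈ B) (p := 3) (q := 9240) ?_ ?_
  · rw [ncard_triples h.loc] at this
    rw [Nat.odd_iff]
    omega
  · rintro ⟨a, b, c⟩ ⟨ha, hb, hca, hcb⟩
    exact h.ncard_bases_through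
      ⟨ha, hb.1, hca.1, Ne.symm hb.2.1, Ne.symm hca.2.1, Ne.symm hcb.2.1, hb.2.2, hca.2.2, hcb.2.2⟩
  · rintro B (hB : IsBase22 E B)
    rw [← ordered_triples_card h hB]
    congr 1
    ext ⟨a, b, c⟩
    constructor
    · rintro ⟨⟨-, hb, hca, hcb⟩, xa, xb, xc⟩
      exact ⟨xa, ⟨xb, hb.2.1⟩, xc, by rintro (e | e); exacts [hca.2.1 e, hcb.2.1 e]⟩
    · rintro ⟨xa, ⟨xb, nb⟩, xc, nc⟩
      simp only [Set.mem_singleton_iff, Set.mem_insert_iff, not_or] at nb nc
      exact ⟨⟨hB.sub xa, ⟨hB.sub xb, nb, hB.comm a xa b xb⟩, ⟨hB.sub xc, nc.1, hB.comm a xa c xc⟩,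
        ⟨hB.sub xc, nc.2, hB.comm b xb c xc⟩⟩, xa, xb, xc⟩

/-- A 2-subgroup preserves some base. -/
theorem M22.exists_base_fixed {P : Subgroup Y} (hP : IsPGroup 2 P) :
    ∃ B : Set Y, IsBase22 E B ∧ ∀ g ∈ P, cj g '' B = B := by
  let X := {B : Set Y // IsBase22 E B}
  letI : MulAction P X :=
    { smul := fun g B => ⟨cj (g : Y) '' B.1, base_conj h.closed B.2 _⟩
      one_smul := fun B => Subtype.ext (by
        show cj ((1 : P) : Y) '' B.1 = B.1
        rw [OneMemClass.coe_one]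
        ext y
        simp [cj])
      mul_smul := fun g k B => Subtype.ext (cj_image_comp (g : Y) k B.1).symm }
  haveI : Fact (Nat.Prime 2) := ⟨Nat.prime_two⟩
  obtain ⟨B, hB⟩ := hP.nonempty_fixed_point_of_prime_not_dvd_card X (by
    show ¬ 2 ∣ Nat.card {B : Set Y | IsBase22 E B}
    rw [Nat.card_coe_set_eq, ← even_iff_two_dvd, Nat.not_even_iff_odd]
    exact h.odd_bases)
  exact ⟨B.1, B.2, fun g hg => congrArg Subtype.val (hB ⟨g, hg⟩)⟩

end CfsgLib.ThreeTrans.FiCent23
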