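import Mathlib
import Cfsg.Agent.Lib.ThreeTrans.FiCent23.Base22
import Cfsg.Agent.Lib.ThreeTrans.Classif.Sporadic
import Cfsg.Agent.Lib.ThreeTrans.Classif.StepUSix
import Cfsg.Agent.Lib.ThreeTrans.Classif.UnitKindPoints
import Cfsg.Agent.Lib.ThreeTrans.Classif.FromRefl.Main

/-! A primitive class of type M(22) is good and its common neighbours look like reflections of a
six-dimensional space. -/

set_option autoImplicit false
set_option linter.unusedSectionVars false

namespace CfsgLib.ThreeTrans.FiCent23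

open CfsgLib.ThreeTrans CfsgLib.ThreeTrans.Classif
open CfsgLib.ThreeTrans.LocalSymThree (nbr)
open CfsgLib.ThreeTrans.USix (IsTvAt TClass)

universe u

open Matrix in
/-- The transvection class, read through an isomorphism. -/
theorem kindPSU_of_class {Y : Type u} [Group Y] {E : Set Y} {F : Type} [Field F] [Fintype F]
    (hF : Fintype.card F = 2 ^ 2) (e : Y ≃* Cfsg.PSU 6 F 2) (hT : TClass (e '' E)) : KindPSU E 6 := by
  classical
  have hF4 : Fintype.card F = 4 := by rw [hF]; norm_num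
  refine ⟨F, inferInstance, inferInstance, hF4, e, ?_⟩
  obtain ⟨τ, hB, hτ, -, -, key, -⟩ := PolarTwins.Models.psu_model (n := 6) hF4 (by norm_num)
  refine Set.Subset.antisymm (fun a ha => ?_) ?_
  · obtain ⟨v, A, hA, rfl⟩ := hT.rep hF ha
    refine ⟨A, (key A).2 ⟨v, hA.1, ?_, fun x => ?_⟩, rfl⟩
    · rw [CfsgLib.UnitaryEmbed.hermSesq_apply τ hτ]; exact hA.2.1
    · rw [CfsgLib.UnitaryEmbed.hermSesq_apply τ hτ, one_mul, CfsgLib.Unitary.suEquiv_apply]
      exact hA.apply x
  · rintro _ ⟨A, hA, rfl⟩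
    obtain ⟨v, hv0, hvv, hv⟩ := (key A).1 hA
    rw [CfsgLib.UnitaryEmbed.hermSesq_apply τ hτ] at hvv
    refine hT.hall hF (v := v) ⟨hv0, hvv, Matrix.ext_of_mulVec_single fun i => ?_⟩
    rw [USix.tv_apply, ← CfsgLib.Unitary.suEquiv_apply A, hv (Pi.single i 1),
      CfsgLib.UnitaryEmbed.hermSesq_apply τ hτ, one_mul]

namespace M22

variable {Y : Type u} [Group Y] [Finite Y] {E : Set Y} (h : M22 E)
include h

theorem good : Classif.Good E := by
  have hL := h.loc
  obtain ⟨d, hd, -⟩ := h.prim.2.1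
  obtain ⟨b, hb, hne, hc⟩ := h.exists_second hd
  exact ⟨⟨classTwo_of_primitive h.group h.prim, h.prim, d, hd, b, hb, hne, hc⟩, hL.center⟩

/-- What the type M(22) passes on. -/
theorem level : LevelTwentyTwo E := by
  obtain ⟨-, d, hd, -, -, -, ⟨F, iF, iF', hF, ⟨e⟩⟩, -⟩ := h.typ
  have hF2 : Fintype.card F = 2 ^ 2 := hF
  have hG := h.good
  set π := QuotientGroup.mk' (Subgroup.center (Hd E d)) with hπ
  have hB := isBase_mk h.group hd
  have hNT := hG.noTwins
  have hcls := h.prim.1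
  have hphi : ∀ a (ha : a ∈ nbr E d), Tower.phi π a = π ⟨a, Subgroup.subset_closure ha⟩ :=
    fun a ha => Tower.phi_of_mem π (x := ⟨a, Subgroup.subset_closure ha⟩) ha
  have C : Chart E d (Tower.phi π) (imgSet E d π) := by
    refine ⟨hd, ⟨fun a ha => ?_, fun a ha b hb k => ?_, ?_⟩, fun a ha b hb => ?_, fun a ha b hb => ?_⟩
    · rw [hphi a ha]; exact hB.img_mem hcls hNT ha
    · rw [hphi a ha, hphi b hb] at k
      exact congrArg Subtype.val (hB.img_injective hcls hNT (x := ⟨a, Subgroup.subset_closure ha⟩)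
        (y := ⟨b, Subgroup.subset_closure hb⟩) ha hb k)
    · rintro _ ⟨-, y, hy, rfl⟩
      exact ⟨y, hy, hphi _ hy⟩
    · rw [hphi a ha, hphi b hb]
      exact hB.commute_img (x := ⟨a, Subgroup.subset_closure ha⟩) (y := ⟨b, Subgroup.subset_closure hb⟩) ha hb
    · rw [hphi a ha, hphi b hb, hphi _ (nbr_closed hG.set.hD.closed ha hb), ← map_mul, ← map_mul]
      rfl
  have hB' := isBase_of_equiv h.group hd e
  have himg : e '' imgSet E d π = imgSet E d (e.toMonoidHom.comp π) := by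
    ext y
    constructor
    · rintro ⟨_, ⟨hne, x, hx, rfl⟩, rfl⟩
      exact ⟨fun k => hne ((MulEquiv.map_eq_one_iff e).1 k), x, hx, rfl⟩
    · rintro ⟨hne, x, hx, rfl⟩
      exact ⟨_, ⟨fun k => hne ((congrArg e k).trans (map_one e)), x, hx, rfl⟩, rfl⟩
  have hK : KindPSU (imgSet E d π) 6 := kindPSU_of_class hF2 e (himg ▸
    ⟨hB'.img_isThreeTranspositionSet, hB'.img_conj, hB'.exists_img_ne (psu_six_noncomm hF2)⟩)
  obtain ⟨hcard, hdeg, hmu⟩ := uSix_step hK
  exact level_twentyTwo (FromRefl.lift_refl le_rfl) hG C hK hcard hdeg hmu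

end M22

end CfsgLib.ThreeTrans.FiCent23
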