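import Mathlib
import Cfsg.Agent.Lib.ThreeTrans.FiCent23.LevelE

/-! A subset of the commuting graph of type M(22) in which each member has 126 neighbours: it has between 351
and 675 members, it is connected, and if it has 351 every other member has 63 neighbours in it. -/

set_option autoImplicit false
set_option linter.unusedSectionVars false

namespace CfsgLib.ThreeTrans.FiCent23

open CfsgLib.ThreeTrans
open CfsgLib.ThreeTrans.LocalSymThree (nbr)

universe u

/-- The number of members of a set related to a point. -/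
noncomputable def deg' {α : Type*} (R : α → α → Prop) (S : Finset α) (w : α) : ℕ := {a | a ∈ S ∧ R a w}.ncard

/-- First and second moments of the numbers of neighbours in a regular subset. -/
theorem srg_sums {α : Type*} [Finite α] (EF : Finset α) (R : α → α → Prop) {k l m t : ℕ} (S : Finset α)
    (hS : S ⊆ EF) (hsymm : ∀ a b, R a b → R b a) (hirr : ∀ a, ¬ R a a)
    (hk : ∀ a ∈ EF, {w | w ∈ EF ∧ R a w}.ncard = k)
    (hl : ∀ a ∈ EF, ∀ b ∈ EF, R a b → {w | w ∈ EF ∧ R a w ∧ R b w}.ncard = l)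
    (hm : ∀ a ∈ EF, ∀ b ∈ EF, a ≠ b → ¬ R a b → {w | w ∈ EF ∧ R a w ∧ R b w}.ncard = m)
    (ht : ∀ a ∈ S, deg' R S a = t) :
    ∑ w ∈ EF, deg' R S w = S.card * k ∧
      ((∑ w ∈ EF, deg' R S w * deg' R S w : ℕ) : ℤ) = S.card * (k + t * l + ((S.card : ℤ) - 1 - t) * m) := by
  classical
  have hn : ∀ w, deg' R S w = ∑ a ∈ S, if R a w then 1 else 0 := fun w => by
    rw [deg', show {a | a ∈ S ∧ R a w} = ↑(S.filter fun a => R a w) by ext; simp, Set.ncard_coe_finset,
      Finset.card_filter]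
  have hcnt : ∀ P : α → Prop, (∑ w ∈ EF, if P w then 1 else 0 : ℕ) = {w | w ∈ EF ∧ P w}.ncard := fun P => by
    rw [show {w | w ∈ EF ∧ P w} = ↑(EF.filter P) by ext; simp, Set.ncard_coe_finset, Finset.card_filter]
  refine ⟨?_, ?_⟩
  · rw [Finset.sum_congr rfl fun w _ => hn w, Finset.sum_comm,
      Finset.sum_congr rfl fun a ha => (hcnt fun w => R a w).trans (hk a (hS ha)), Finset.sum_const, smul_eq_mul]
  have h2 : ∑ w ∈ EF, deg' R S w * deg' R S w = ∑ a ∈ S, ∑ b ∈ S, {w | w ∈ EF ∧ R a w ∧ R b w}.ncard := by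
    simp only [hn, Finset.sum_mul_sum]
    rw [Finset.sum_comm]
    refine Finset.sum_congr rfl fun a _ => ?_
    rw [Finset.sum_comm]
    refine Finset.sum_congr rfl fun b _ => ?_
    rw [← hcnt fun w => R a w ∧ R b w]
    exact Finset.sum_congr rfl fun w _ => by split_ifs <;> simp_all
  rw [h2, Nat.cast_sum, Finset.sum_congr rfl fun a ha => ?_, Finset.sum_const, nsmul_eq_mul]
  show ((∑ b ∈ S, {w | w ∈ EF ∧ R a w ∧ R b w}.ncard : ℕ) : ℤ) = _
  rw [← Finset.sum_erase_add S _ ha, ← Finset.sum_filter_add_sum_filter_not (S.erase a) (fun b => R a b)]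
  have hf : (S.erase a).filter (fun b => R a b) = S.filter fun b => R a b := by
    ext b
    simp only [Finset.mem_filter, Finset.mem_erase]
    exact ⟨fun h => ⟨h.1.2, h.2⟩, fun h => ⟨⟨fun e => hirr a (e ▸ h.2), h.1⟩, h.2⟩⟩
  have hcard1 : (S.filter fun b => R a b).card = t := by
    rw [← ht a ha, deg', ← Set.ncard_coe_finset]
    congr 1
    ext b
    simp only [Finset.coe_filter, Set.mem_ofPred_eq]
    exact ⟨fun h => ⟨h.1, hsymm _ _ h.2⟩, fun h => ⟨h.1, hsymm _ _ h.2⟩⟩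
  have hcard2 : ((S.erase a).filter fun b => ¬ R a b).card + t + 1 = S.card := by
    have := Finset.card_filter_add_card_filter_not (s := S.erase a) (p := fun b => R a b)
    rw [hf, hcard1] at this
    have := Finset.card_erase_add_one ha
    omega
  rw [hf, Finset.sum_congr rfl fun b hb => hl a (hS ha) b (hS (Finset.mem_filter.1 hb).1) (Finset.mem_filter.1 hb).2,
    Finset.sum_congr rfl fun b hb => hm a (hS ha) b (hS (Finset.mem_erase.1 (Finset.mem_filter.1 hb).1).2)
      (Ne.symm (Finset.mem_erase.1 (Finset.mem_filter.1 hb).1).1) (Finset.mem_filter.1 hb).2,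
    Finset.sum_const, Finset.sum_const, hcard1, smul_eq_mul, smul_eq_mul,
    show {w | w ∈ EF ∧ R a w ∧ R a w} = {w | w ∈ EF ∧ R a w} by simp, hk a (hS ha)]
  have e : (((S.erase a).filter fun b => ¬ R a b).card : ℤ) = (S.card : ℤ) - 1 - t := by omega
  push_cast
  rw [e]
  ring

namespace M22

variable {Y : Type u} [Group Y] [Finite Y] {E : Set Y} (h : M22 E)
include h

/-- Bounds for a subset of inner degree 126. -/
theorem bound {S : Set Y} (hS : S ⊆ E) (hne : S.Nonempty) (ht : ∀ a ∈ S, (S ∩ nbr E a).ncard = 126) :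
    351 ≤ S.ncard ∧ S.ncard ≤ 675 ∧ (S.ncard = 351 → ∀ w ∈ E, w ∉ S → (S ∩ nbr E w).ncard = 63) := by
  classical
  let EF := E.toFinite.toFinset
  let SF := S.toFinite.toFinset
  let R : Y → Y → Prop := fun a b => a ∈ E ∧ b ∈ E ∧ b ≠ a ∧ Commute a b
  have hsub : SF ⊆ EF := fun x hx => by
    simp only [SF, EF, Set.Finite.mem_toFinset] at hx ⊢; exact hS hx
  have hdeg : ∀ w ∈ E, deg' R SF w = (S ∩ nbr E w).ncard := fun w hw => by
    rw [deg']
    congr 1
    ext a
    simp only [SF, R, Set.Finite.mem_toFinset, Set.mem_ofPred_eq, Set.mem_inter_iff]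
    exact ⟨fun k => ⟨k.1, k.2.1, Ne.symm k.2.2.2.1, k.2.2.2.2.symm⟩,
      fun k => ⟨k.1, k.2.1, hw, Ne.symm k.2.2.1, k.2.2.2.symm⟩⟩
  have hnbr : ∀ a ∈ E, {w | w ∈ EF ∧ R a w} = Dd E a := fun a ha => by
    ext w
    simp only [EF, R, Set.Finite.mem_toFinset, Set.mem_ofPred_eq]
    exact ⟨fun k => ⟨k.1, k.2.2.2.1, k.2.2.2.2⟩, fun k => ⟨k.1, ha, k.1, k.2.1, k.2.2⟩⟩
  have hpair : ∀ a ∈ E, ∀ b ∈ E, {w | w ∈ EF ∧ R a w ∧ R b w} = Dd E a ∩ Dd E b := fun a ha b hb => by
    ext w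
    rw [← hnbr a ha, ← hnbr b hb]
    simp only [Set.mem_ofPred_eq, Set.mem_inter_iff]
    exact ⟨fun k => ⟨⟨k.1, k.2.1⟩, k.1, k.2.2⟩, fun k => ⟨k.1.1, k.1.2, k.2.2⟩⟩
  have hmem : ∀ {a}, a ∈ EF → a ∈ E := fun ha => by simpa [EF] using ha
  have hmemS : ∀ {a}, a ∈ SF ↔ a ∈ S := fun {a} => by simp [SF]
  obtain ⟨h1, h2⟩ := srg_sums (k := 693) (l := 180) (m := 126) (t := 126) EF R SF hsub
    (fun a b k => ⟨k.2.1, k.1, Ne.symm k.2.2.1, k.2.2.2.symm⟩) (fun a k => k.2.2.1 rfl)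
    (fun a ha => by rw [hnbr a (hmem ha)]; exact h.loc.deg a (hmem ha))
    (fun a ha b hb k => by
      rw [hpair a (hmem ha) b (hmem hb)]; exact h.loc.lam a (hmem ha) b ⟨hmem hb, k.2.2.1, k.2.2.2⟩)
    (fun a ha b hb hne k => by
      rw [hpair a (hmem ha) b (hmem hb)]
      exact h.loc.mu a (hmem ha) b (hmem hb) fun c => k ⟨hmem ha, hmem hb, Ne.symm hne, c⟩)
    (fun a ha => (hdeg a (hS (hmemS.1 ha))).trans (ht a (hmemS.1 ha)))
  have hcard : SF.card = S.ncard := by rw [← Set.ncard_coe_finset]; simp [SF]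
  have hin : ∀ w ∈ SF, deg' R SF w = 126 := fun a ha => (hdeg a (hS (hmemS.1 ha))).trans (ht a (hmemS.1 ha))
  set s := S.ncard with hs
  have hE : (EF \ SF).card = 3510 - s ∧ s ≤ 3510 := by
    rw [Finset.card_sdiff_of_subset hsub, hcard, show EF.card = 3510 by
      rw [← Set.ncard_coe_finset]; simpa [EF] using h.loc.card]
    exact ⟨rfl, by
      have := Set.ncard_le_ncard hS (Set.toFinite _)
      rw [h.loc.card] at this; exact this⟩
  rw [← Finset.sum_sdiff hsub, Finset.sum_congr rfl (fun w hw => hin w hw), Finset.sum_const, smul_eq_mul,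
    hcard] at h1
  rw [← Finset.sum_sdiff hsub, Finset.sum_congr rfl (fun w hw => by rw [hin w hw] : ∀ w ∈ SF, deg' R SF w * deg' R SF w = 126 * 126),
    Finset.sum_const, smul_eq_mul, hcard] at h2
  set O := EF \ SF with hO
  have hs1 : (∑ w ∈ O, (deg' R SF w : ℤ)) = 567 * s := by
    have := congrArg (fun z : ℕ => (z : ℤ)) h1
    push_cast at this
    linarith
  have hs2 : (∑ w ∈ O, (deg' R SF w : ℤ) ^ 2) = 126 * (s : ℤ) ^ 2 - 8505 * s := by
    push_cast at h2
    simp only [pow_two]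
    linarith
  have hOc : (O.card : ℤ) = 3510 - s := by omega
  have hcs : (567 * (s : ℤ)) ^ 2 ≤ (3510 - s) * (126 * (s : ℤ) ^ 2 - 8505 * s) := by
    rw [← hs1, ← hs2, ← hOc]
    exact sq_sum_le_card_mul_sum_sq
  have hpos : 0 < (s : ℤ) := by exact_mod_cast (Set.ncard_pos (Set.toFinite _)).2 hne
  have hb : ((s : ℤ) - 351) * ((s : ℤ) - 675) ≤ 0 := by
    by_contra hlt
    push Not at hlt
    nlinarith [mul_pos hpos hlt]
  refine ⟨?_, ?_, fun e w hw hwS => ?_⟩
  · by_contra hlt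
    push Not at hlt
    have h1 : (s : ℤ) - 351 < 0 := by omega
    have h2 : (s : ℤ) - 675 < 0 := by omega
    nlinarith
  · by_contra hlt
    push Not at hlt
    have h1 : 0 < (s : ℤ) - 351 := by omega
    have h2 : 0 < (s : ℤ) - 675 := by omega
    nlinarith
  · have hz : ∑ x ∈ O, ((deg' R SF x : ℤ) - 63) ^ 2 = 0 := by
      simp only [sub_sq, Finset.sum_add_distrib, Finset.sum_sub_distrib, ← Finset.sum_mul, ← Finset.mul_sum,
        Finset.sum_const, nsmul_eq_mul, hs1, hs2, hOc, e]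
      norm_num
    have hwO : w ∈ O := by
      simp only [hO, Finset.mem_sdiff, hmemS]
      exact ⟨by simpa [EF] using hw, hwS⟩
    have := (Finset.sum_eq_zero_iff_of_nonneg fun x _ => sq_nonneg _).1 hz w hwO
    rw [← hdeg w hw]
    have := pow_eq_zero_iff (n := 2) (by norm_num) |>.1 this
    omega

end M22

end CfsgLib.ThreeTrans.FiCent23
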