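import Mathlib
import Cfsg.Agent.Lib.ThreeTrans.FiCent23.Srg

/-! A closed subset of a class of type M(22) whose neighbourhoods are images of sets of common neighbours of two
non-commuting members has 351 members. -/

set_option autoImplicit false
set_option linter.unusedSectionVars false

namespace CfsgLib.ThreeTrans.FiCent23

open CfsgLib.ThreeTrans CfsgLib.ThreeTrans.Classif
open CfsgLib.ThreeTrans.LocalSymThree (nbr nbr_symm)

universe u

variable {Y : Type u} [Group Y] [Finite Y] {E : Set Y}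

namespace M22

variable (h : M22 E)
include h

/-- At each member the set looks like reflections of a six-dimensional space. -/
theorem muSet_local {S : Set Y} {s : ℕ} (hS : MuData E S s) :
    (∀ a ∈ S, (S ∩ nbr E a).ncard = 126 ∧ ∀ b ∈ S ∩ nbr E a, ((S ∩ nbr E a) ∩ nbr E b).ncard = 45) ∧
      LocalRefl E S id 6 := by
  classical
  obtain ⟨-, -, hmu⟩ := h.level
  have main : ∀ a ∈ S, ((S ∩ nbr E a).ncard = 126 ∧ ∀ b ∈ S ∩ nbr E a, ((S ∩ nbr E a) ∩ nbr E b).ncard = 45) ∧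
      ∃ (Q : QuadraticForm (ZMod 3) (Fin 6 → ZMod 3)) (e : ZMod 3) (ψ : Y → Fin 6 → ZMod 3),
        ReflPts (S ∩ nbr E a) Q e ψ := by
    intro a ha
    obtain ⟨p, hp, hap, θ, hθ, hθc, hθm, hθS⟩ := hS.swap a ha
    obtain ⟨h1, h2, Q, e, ψ, hψ, -⟩ := hmu a (hS.sub ha) p hp hap
    set M := nbr E a ∩ nbr E p
    have hbij : Set.BijOn θ M (θ '' M) := (hθ.injOn.mono Set.inter_subset_left).bijOn_image
    obtain ⟨θ', hθ'⟩ : ∃ θ' : Y → Y, θ' = Function.invFunOn θ M := ⟨_, rfl⟩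
    have hleft : ∀ y ∈ M, θ' (θ y) = y := fun y hy => hθ' ▸ hbij.injOn.leftInvOn_invFunOn hy
    have hbij' : Set.BijOn θ' (θ '' M) M := by
      refine ⟨?_, ?_, fun y hy => ⟨θ y, ⟨y, hy, rfl⟩, hleft y hy⟩⟩
      · rintro _ ⟨y, hy, rfl⟩; rwa [hleft y hy]
      · rintro _ ⟨y, hy, rfl⟩ _ ⟨y', hy', rfl⟩ k; rw [hleft y hy, hleft y' hy'] at k; rw [k]
    refine ⟨⟨by rw [hθS, hbij.injOn.ncard_image, h1], ?_⟩, Q, e, ψ ∘ θ', ?_⟩
    · intro b hb
      rw [hθS] at hb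
      obtain ⟨b', hb', rfl⟩ := hb
      rw [← h2 b' hb', hθS, ← (hbij.injOn.mono Set.inter_subset_left).ncard_image (f := θ)
        (s := M ∩ nbr E b')]
      congr 1
      ext y
      constructor
      · rintro ⟨⟨x, hx, rfl⟩, -, hne, hc⟩
        exact ⟨x, ⟨hx, hx.1.1, fun k => hne (by rw [k]), (hθc b' hb'.1 x hx.1).1 hc⟩, rfl⟩
      · rintro ⟨x, ⟨hx, -, hne, hc⟩, rfl⟩
        exact ⟨⟨x, hx, rfl⟩, (hθ.mapsTo hx.1).1, fun k => hne (hθ.injOn hx.1 hb'.1 k),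
          (hθc b' hb'.1 x hx.1).2 hc⟩
    · rw [hθS]
      refine hψ.transport θ' hbij' ?_ ?_
      · rintro _ ⟨u, hu, rfl⟩ _ ⟨w, hw, rfl⟩
        rw [hleft u hu, hleft w hw, hθc u hu.1 w hw.1]
      · rintro _ ⟨u, hu, rfl⟩ _ ⟨w, hw, rfl⟩
        have hmem : θ u * θ w * θ u ∈ θ '' M := by
          rw [← hθS]
          exact ⟨hS.closed _ (hθS.ge ⟨u, hu, rfl⟩).1 _ (hθS.ge ⟨w, hw, rfl⟩).1,
            nbr_closed h.closed (hθS.ge ⟨u, hu, rfl⟩).2 (hθS.ge ⟨w, hw, rfl⟩).2⟩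
        obtain ⟨v, hv, ev⟩ := hmem
        rw [hleft u hu, hleft w hw, ← ev, hleft v hv]
        exact hθ.injOn hv.1 (nbr_closed h.closed hu.1 hw.1) (by rw [ev, hθm u hu.1 w hw.1])
  refine ⟨fun a ha => (main a ha).1, hS.sub, hS.ne, hS.closed, fun a _ b _ k => k, fun a _ b _ => Iff.rfl,
    fun a _ b _ => rfl, fun a ha => ?_⟩
  obtain ⟨Q, e, ψ, hψ⟩ := (main a ha).2
  exact ⟨Q, e, ψ, by rwa [Set.image_id]⟩

/-- Such a set has 351 members. -/
theorem muSet_card {S : Set Y} {s : ℕ} (hS : MuData E S s) : S.ncard = 351 := by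
  classical
  obtain ⟨hloc, hL⟩ := h.muSet_local hS
  obtain ⟨h351, h675, -⟩ := h.bound hS.sub hS.ne fun a ha => (hloc a ha).1
  obtain ⟨hsemi, hcard, hcomm, -⟩ := hL.semi h.closed (by norm_num) (k := 126) (by norm_num)
    (fun a ha => (hloc a ha).1) (by omega)
  set T := subImage S with hT
  have hmem : ∀ {x}, x ∈ T → ∃ a : ↥(Subgroup.closure S), (a : Y) ∈ S ∧ (a : ↥(Subgroup.closure S) ⧸
      Subgroup.center ↥(Subgroup.closure S)) = x := fun {x} hx => hx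
  let q : ↥(Subgroup.closure S) → _ := fun a => (a : ↥(Subgroup.closure S) ⧸ Subgroup.center ↥(Subgroup.closure S))
  have hin : ∀ {a}, a ∈ S → a ∈ Subgroup.closure S := fun ha => Subgroup.subset_closure ha
  let τ : Y → ↥(Subgroup.closure S) ⧸ Subgroup.center ↥(Subgroup.closure S) := fun a =>
    if ha : a ∈ S then q ⟨a, hin ha⟩ else q 1
  have hτ : ∀ a (ha : a ∈ S), τ a = q ⟨a, hin ha⟩ := fun a ha => by simp only [τ, dif_pos ha]
  have himg : τ '' S = T := by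
    ext x
    constructor
    · rintro ⟨a, ha, rfl⟩
      exact ⟨⟨a, hin ha⟩, ha, (hτ a ha).symm⟩
    · rintro ⟨⟨a, ha'⟩, ha, rfl⟩
      exact ⟨a, ha, hτ a ha⟩
  have hinj : Set.InjOn τ S := (Set.ncard_image_iff (Set.toFinite _)).1 (by rw [himg, hcard])
  have hc : ∀ a ∈ S, ∀ b ∈ S, (Commute (τ a) (τ b) ↔ Commute a b) := fun a ha b hb => by
    rw [hτ a ha, hτ b hb]; exact hcomm ⟨a, hin ha⟩ ⟨b, hin hb⟩ ha hb
  have hnbr : ∀ a ∈ S, nbr T (τ a) = τ '' (S ∩ nbr E a) := by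
    intro a ha
    ext x
    constructor
    · rintro ⟨hx, hne, hcx⟩
      obtain ⟨b, hb, rfl⟩ := himg.ge hx
      exact ⟨b, ⟨hb, hS.sub hb, fun e => hne (e ▸ rfl), (hc a ha b hb).1 hcx⟩, rfl⟩
    · rintro ⟨b, ⟨hb, -, hne, hcb⟩, rfl⟩
      exact ⟨himg.le ⟨b, hb, rfl⟩, fun e => hne (hinj hb ha e), (hc a ha b hb).2 hcb⟩
  -- connected
  have hconn : (Cfsg.commutingGraph T).Connected := by
    obtain ⟨a₀, ha₀⟩ := hS.ne
    have : Nonempty T := ⟨⟨τ a₀, himg.le ⟨a₀, ha₀, rfl⟩⟩⟩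
    set K := {b | b ∈ S ∧ ∀ (h0 : τ a₀ ∈ T) (hb : τ b ∈ T),
      (Cfsg.commutingGraph T).Reachable ⟨τ a₀, h0⟩ ⟨τ b, hb⟩} with hK
    have hadj : ∀ b ∈ S, ∀ c ∈ S ∩ nbr E b, ∀ (hb' : τ b ∈ T) (hc' : τ c ∈ T),
        (Cfsg.commutingGraph T).Adj ⟨τ b, hb'⟩ ⟨τ c, hc'⟩ := by
      rintro b hb c ⟨hcS, -, hne, hbc⟩ hb' hc'
      rw [Cfsg.commutingGraph, SimpleGraph.fromRel_adj]
      exact ⟨fun e => hne (hinj hcS hb (congrArg Subtype.val e).symm), Or.inl ((hc b hb c hcS).2 hbc)⟩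
    have hKstep : ∀ b ∈ S, ∀ c ∈ S ∩ nbr E b, (b ∈ K ↔ c ∈ K) := by
      intro b hb c hcm
      have hb' := himg.le ⟨b, hb, rfl⟩
      have hc' := himg.le ⟨c, hcm.1, rfl⟩
      exact ⟨fun k => ⟨hcm.1, fun h0 hc2 => (k.2 h0 hb').trans (hadj b hb c hcm hb' hc2).reachable⟩,
        fun k => ⟨hb, fun h0 hb2 => (k.2 h0 hc').trans (hadj b hb c hcm hb2 hc').symm.reachable⟩⟩
    have hall : K = S := by
      refine Set.Subset.antisymm (fun b hb => hb.1) fun b hb => by_contra fun hbK => ?_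
      have hA : ∀ (P : Set Y), P ⊆ S → (∀ x ∈ S, ∀ y ∈ S ∩ nbr E x, x ∈ P → y ∈ P) → P.Nonempty → 351 ≤ P.ncard := by
        intro P hP hcl hne
        refine (h.bound (hP.trans hS.sub) hne fun x hx => ?_).1
        rw [← (hloc x (hP hx)).1]
        congr 1
        exact Set.Subset.antisymm (fun y hy => ⟨hP hy.1, hy.2⟩) fun y hy => ⟨hcl x (hP hx) y hy hx, hy.2⟩
      have k1 := hA K (fun x hx => hx.1) (fun x hx y hy k => (hKstep x hx y hy).1 k)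
        ⟨a₀, ha₀, fun h0 _ => SimpleGraph.Reachable.refl _⟩
      have k2 := hA (S \ K) Set.sdiff_subset
        (fun x hx y hy k => ⟨hy.1, fun k' => k.2 ((hKstep x hx y hy).2 k')⟩) ⟨b, hb, hbK⟩
      have := Set.ncard_sdiff (show K ⊆ S from fun x hx => hx.1) (Set.toFinite _)
      omega
    refine ⟨fun x y => ?_⟩
    obtain ⟨x, hx⟩ := x
    obtain ⟨y, hy⟩ := y
    obtain ⟨b, hb, rfl⟩ := himg.ge hx
    obtain ⟨c, hcS, rfl⟩ := himg.ge hy
    exact ((hall.ge hb).2 (himg.le ⟨a₀, ha₀, rfl⟩) hx).symm.trans ((hall.ge hcS).2 _ hy)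
  have hgood := hsemi.good hconn
  obtain ⟨v, k, l, m, P, hm, hmk⟩ := exists_params hgood
  obtain ⟨a, ha⟩ := hS.ne
  obtain ⟨b, hb⟩ := (Set.ncard_pos (Set.toFinite _)).1 (show 0 < (S ∩ nbr E a).ncard by rw [(hloc a ha).1]; norm_num)
  have hk : k = 126 := by
    rw [← P.deg (τ a) (himg.le ⟨a, ha, rfl⟩), hnbr a ha,
      (hinj.mono Set.inter_subset_left).ncard_image, (hloc a ha).1]
  have hl : l = 45 := by
    rw [← P.lam (τ a) (himg.le ⟨a, ha, rfl⟩) (τ b) (hnbr a ha ▸ ⟨b, hb, rfl⟩), hnbr a ha, hnbr b hb.1,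
      ← hinj.image_inter Set.inter_subset_left Set.inter_subset_left,
      (hinj.mono (Set.inter_subset_left.trans Set.inter_subset_left)).ncard_image, ← (hloc a ha).2 b hb]
    congr 1
    ext z
    exact ⟨fun k => ⟨k.1, k.2.2⟩, fun k => ⟨k.1, k.1.1, k.2⟩⟩
  subst hk hl
  have hm45 : m = 45 := List.mem_singleton.1 (mem_of_srgTest hgood P hm hmk (ms := [45]) 8 (by norm_num)
    (by norm_num) (by norm_num) (by decide +kernel))
  obtain ⟨-, -, heq⟩ := Params.card_eq hgood P hmk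
  rw [← hcard, P.card]
  subst hm45
  omega

end M22

end CfsgLib.ThreeTrans.FiCent23
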