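import Mathlib
import Cfsg.Prelude.Def_CaseTheorems
import Cfsg.Agent.Lib.ThreeTrans.TypeTop.CoverLift22
import Cfsg.Agent.Lib.ThreeTrans.FiCent23.Base22

/-! The centraliser of the given involution as a double cover of a group of type M(22): the lifts of members
are involutions, lifts of commuting members commute, and they fall into two classes. -/

set_option autoImplicit false
set_option linter.unusedSectionVars false

namespace CfsgLib.ThreeTrans.FiCent23

open CfsgLib.ThreeTrans CfsgLib.ThreeTrans.Tower CfsgLib.ThreeTrans.TypeTop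
open scoped commutatorElement

universe u v

/-- The centraliser of an element. -/
abbrev Cd {G : Type u} [Group G] (d : G) : Subgroup G := Subgroup.centralizer ({d} : Set G)

variable {G : Type u} [Group G] {Y : Type v} [Group Y]

/-- The element as a member of its centraliser. -/
def dC (d : G) : Cd d := ⟨d, Subgroup.mem_centralizer_singleton_iff.2 rfl⟩

/-- The hypotheses: a perfect centraliser of an involution, modulo it of type M(22). -/
structure Cov (d : G) (φ : Cd d →* Y) (E : Set Y) : Prop where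
  ord : orderOf d = 2
  m22 : M22 E
  surj : Function.Surjective φ
  ker : ∀ g : Cd d, φ g = 1 ↔ g = 1 ∨ g = dC d
  perfect : commutator (Cd d) = ⊤
  nwc : ∃ g : G, g * d * g⁻¹ ∈ Cd d ∧ g * d * g⁻¹ ≠ d

variable [Finite Y] {d : G} {φ : Cd d →* Y} {E : Set Y}

namespace Cov

variable (h : Cov d φ E)
include h

theorem dd : d * d = 1 := by rw [← pow_two]; exact h.ord ▸ pow_orderOf_eq_one d

theorem d_ne_one : d ≠ 1 := fun e => by
  have := h.ord
  rw [e, orderOf_one] at this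
  norm_num at this

theorem dC_sq : dC d * dC d = 1 := Subtype.ext h.dd

theorem dC_ne : dC d ≠ 1 := fun e => h.d_ne_one (congrArg Subtype.val e)

theorem cen (g : Cd d) : Commute g (dC d) := Subtype.ext (Subgroup.mem_centralizer_singleton_iff.1 g.2)

theorem map_dC : φ (dC d) = 1 := (h.ker _).2 (Or.inr rfl)

theorem ker' (g : Cd d) (hg : φ g = 1) : g = 1 ∨ g = dC d := (h.ker g).1 hg

theorem same {g g' : Cd d} (e : φ g = φ g') : g' = g ∨ g' = g * dC d := by
  rcases h.ker' (g⁻¹ * g') (by rw [map_mul, map_inv, e, inv_mul_cancel]) with k | k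
  · exact Or.inl (inv_mul_eq_one.1 k).symm
  · exact Or.inr (inv_mul_eq_iff_eq_mul.1 k)

theorem commute_lift {a g : Cd d} (ha : φ a ∈ E) (hg : Commute (φ g) (φ a)) : Commute g a := by
  obtain ⟨F, _, _, K⟩ := h.m22.exists_K
  exact Cover22.commute_lift K h.m22.set h.surj h.dC_sq h.cen h.ker' ha hg

theorem lift_sq_one {x : Cd d} (hx : φ x ∈ E) : x * x = 1 := by
  classical
  obtain ⟨F, _, _, D22⟩ := h.m22.exists_K
  have hD := h.m22.group
  have hprim := h.m22.prim
  have h22 := h.m22.typ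
  have hs := h.m22.set
  have hφ := h.surj
  have hdd := h.dd
  have hdC2 := h.dC_sq
  have hne1 := h.d_ne_one
  have hcen := h.cen
  have hker := h.ker'
  have hnwc := h.nwc
  let C := Cd d
  let dC : C := FiCent23.dC d
  have hself : ∀ a ∈ E, a ∈ Hd E a := fun a ha => ((main22 hD hprim h22).2 a ha).1
  have commute_lift := fun {a g : C} => Cover22.commute_lift (a := a) (g := g) D22 hs hφ hdC2 hcen hker
  have hsame := fun {g g' : C} => Cover22.same (g := g) (g' := g') hs hφ hdC2 hcen hker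
  have hprod := fun {n : ℕ} {z : C} (hz : IsProd E n (φ z)) =>
    Cover22.isProd_sq D22 hs hφ hdC2 hcen hker hz hx
  let x₀ := x
  have hx₀E : φ x₀ ∈ E := hx
  have hx₀ : φ x₀ = φ x := rfl
  have ha₀ : φ x ∈ E := hx
  refine (hker (x₀ * x₀) (by rw [map_mul, hx₀, mul_self hs ha₀])).resolve_right fun hsq => ?_
  have pair : ∀ x : C, x * x = 1 → φ x ≠ 1 → ∃ a b : Y, a ∈ E ∧ b ∈ Dd E a ∧ φ x = a * b := by
    intro x hx hx1
    obtain ⟨n, hn1, hn3, hn⟩ := classify22 hD hprim h22 (x := φ x) (by rw [← map_mul, hx, map_one]) hx1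
    have h := hprod hn
    rw [hx, hsq] at h
    have hd1 : dC ≠ 1 := fun e => hne1 (congrArg Subtype.val e)
    interval_cases n
    · exact absurd (by rw [h, pow_one]) hd1
    · obtain ⟨l, hl, hlen, hmem, hcomm, hlp⟩ := hn
      match l, hlen, hl, hmem, hcomm, hlp with
      | [a, b], _, hl, hmem, hcomm, hlp =>
        exact ⟨a, b, hmem a (by simp), ⟨hmem b (by simp), fun e => (List.nodup_cons.1 hl).1 (by simp [e]),
          hcomm a (by simp) b (by simp)⟩, by rw [← hlp]; simp⟩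
    · exact absurd (by rw [h, pow_succ, pow_two, hdC2, one_mul]) hd1
  obtain ⟨g, hgC, hgne⟩ := hnwc
  have hgg : g * d * g⁻¹ * (g * d * g⁻¹) = 1 := by
    rw [show g * d * g⁻¹ * (g * d * g⁻¹) = g * (d * d) * g⁻¹ by group, hdd, mul_one, mul_inv_cancel]
  let y : C := ⟨g * d * g⁻¹, hgC⟩
  have hy1 : φ y ≠ 1 := fun h => by
    rcases hker y h with k | k
    · exact hne1 (conj_eq_one_iff.1 (congrArg Subtype.val k))
    · exact hgne (congrArg Subtype.val k)
  obtain ⟨a, b, ha, hb, hyab⟩ := pair y (Subtype.ext hgg) hy1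
  have hgd : g⁻¹ * d * g ∈ C := Subgroup.mem_centralizer_singleton_iff.2 (by
    have h := (commute_conj_iff g⁻¹ (g * d * g⁻¹) d).2 (Subgroup.mem_centralizer_singleton_iff.1 hgC)
    rw [inv_inv, show g⁻¹ * (g * d * g⁻¹) * g = d by group] at h
    exact h.symm.eq)
  let y' : C := ⟨g⁻¹ * d * g, hgd⟩
  have hy'1 : φ y' ≠ 1 := fun h => by
    rcases hker y' h with k | k
    · exact hne1 (by rw [show d = g * (g⁻¹ * d * g) * g⁻¹ by group, show g⁻¹ * d * g = 1 from congrArg Subtype.val k]; group)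
    · have k' : g⁻¹ * d * g = d := congrArg Subtype.val k
      exact hgne (by conv_lhs => rw [← k']
                     group)
  obtain ⟨a', b', ha', hb', hy'ab⟩ := pair y' (Subtype.ext (by
    show g⁻¹ * d * g * (g⁻¹ * d * g) = 1
    rw [show g⁻¹ * d * g * (g⁻¹ * d * g) = g⁻¹ * (d * d) * g by group, hdd, mul_one, inv_mul_cancel])) hy'1
  obtain ⟨u, hu⟩ := hφ a'
  have huy' : Commute (y' : C) u := commute_lift (hu ▸ ha') (by
    rw [hu, hy'ab]; exact (Commute.refl a').mul_left hb'.2.2.symm)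
  have huu : u * u = dC := (Cover22.sq_const D22 hs hφ hdC2 hcen hker hx₀E (hu ▸ ha')).trans hsq
  have hwC : g * (u : G) * g⁻¹ ∈ C := Subgroup.mem_centralizer_singleton_iff.2 (by
    have h := (commute_conj_iff g (u : G) (g⁻¹ * d * g)).2 (congrArg Subtype.val huy'.symm.eq)
    rw [show g * (g⁻¹ * d * g) * g⁻¹ = d by group] at h
    exact h.eq)
  let w : C := ⟨g * (u : G) * g⁻¹, hwC⟩
  have hww : w * w = y := Subtype.ext (by
    show g * (u : G) * g⁻¹ * (g * (u : G) * g⁻¹) = g * d * g⁻¹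
    rw [show g * (u : G) * g⁻¹ * (g * (u : G) * g⁻¹) = g * ((u : G) * u) * g⁻¹ by group,
      show (u : G) * u = d from congrArg Subtype.val huu])
  refine Cover22.root_false D22 hs hself ha hb (c := φ w) (by rw [← map_mul, hww, hyab])
    (good := fun h => ∃ k : C, φ k = h ∧ Commute k w) ?_ ?_ ?_ ?_ ?_
  · rintro h ⟨k, rfl, hk⟩
    exact (hk.map φ).symm
  · intro h h' ha1 hb1 ha2 hb2 n1 n2
    obtain ⟨k, rfl⟩ := hφ h
    obtain ⟨k', rfl⟩ := hφ h'
    have key : ∀ k : C, Commute (φ k) a → Commute (φ k) b →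
        ∃ j : C, (j : G) = g⁻¹ * (k : G) * g ∧ Commute (φ j) (a' * b') := by
      intro k ka kb
      obtain ⟨la, hla⟩ := hφ a
      obtain ⟨lb, hlb⟩ := hφ b
      have kla : Commute k la := commute_lift (hla ▸ ha) (hla ▸ ka)
      have klb : Commute k lb := commute_lift (hlb ▸ hb.1) (hlb ▸ kb)
      have ky : Commute k y := by
        rcases hsame (g := la * lb) (g' := y) (by rw [map_mul, hla, hlb, hyab]) with e | e <;> rw [e]
        exacts [kla.mul_right klb, (kla.mul_right klb).mul_right (hcen k)]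
      have h1 := (commute_conj_iff g⁻¹ (k : G) (g * d * g⁻¹)).2 (congrArg Subtype.val ky.eq)
      rw [inv_inv, show g⁻¹ * (g * d * g⁻¹) * g = d by group] at h1
      refine ⟨⟨g⁻¹ * (k : G) * g, Subgroup.mem_centralizer_singleton_iff.2 h1.eq⟩, rfl, ?_⟩
      rw [← hy'ab]
      refine Commute.map (show Commute (⟨g⁻¹ * (k : G) * g, _⟩ : C) y' from Subtype.ext ?_) φ
      have h2 := (commute_conj_iff g⁻¹ (k : G) d).2 (congrArg Subtype.val (hcen k).eq)
      rw [inv_inv] at h2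
      exact h2.eq
    have hgoodfix : ∀ k : C, ∀ j : C, (j : G) = g⁻¹ * (k : G) * g → Commute (φ j) a' → Commute k w := by
      intro k j hj hc'
      have h1 : Commute j u := commute_lift (hu ▸ ha') (hu ▸ hc')
      have h2 := (commute_conj_iff g (j : G) (u : G)).2 (congrArg Subtype.val h1.eq)
      rw [hj, show g * (g⁻¹ * (k : G) * g) * g⁻¹ = k by group] at h2
      exact Subtype.ext h2.eq
    obtain ⟨j, hj, hjc⟩ := key k ha1 hb1
    obtain ⟨j', hj', hjc'⟩ := key k' ha2 hb2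
    have swap : ∀ (k : C) (j : C), (j : G) = g⁻¹ * (k : G) * g → Commute (φ j) (a' * b') →
        (¬ ∃ l : C, φ l = φ k ∧ Commute l w) → φ j * a' * (φ j)⁻¹ = b' ∧ φ j * b' * (φ j)⁻¹ = a' := by
      intro k j hj hjc hn
      rcases CfsgLib.ThreeTrans.Tower.pair_unique hs D22.rel ha' hb'.1 (Ne.symm hb'.2.1) hb'.2.2
        (D22.closed.conj (φ j) a' ha') (D22.closed.conj (φ j) b' hb'.1) ((commute_conj_iff _ a' b').2 hb'.2.2)
        (by rw [show φ j * a' * (φ j)⁻¹ * (φ j * b' * (φ j)⁻¹) = φ j * (a' * b') * (φ j)⁻¹ by group, hjc.eq,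
          mul_inv_cancel_right]) with h | h
      · exact absurd ⟨k, rfl, hgoodfix k j hj (mul_inv_eq_iff_eq_mul.1 h.1)⟩ hn
      · exact h
    obtain ⟨s1, s2⟩ := swap k j hj hjc n1
    obtain ⟨t1, t2⟩ := swap k' j' hj' hjc' n2
    refine ⟨k * k', map_mul φ k k', hgoodfix (k * k') (j * j') (by
      rw [Subgroup.coe_mul, hj, hj', Subgroup.coe_mul]; group) (mul_inv_eq_iff_eq_mul.1 ?_)⟩
    rw [map_mul, show φ j * φ j' * a' * (φ j * φ j')⁻¹ = φ j * (φ j' * a' * (φ j')⁻¹) * (φ j)⁻¹ by group, t1, s2]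
  · rintro h h' ⟨k, rfl, hk⟩ ⟨k', rfl, hk'⟩
    exact ⟨k * k', map_mul φ k k', hk.mul_left hk'⟩
  · rintro h ⟨k, rfl, hk⟩
    exact ⟨k⁻¹, map_inv φ k, hk.inv_left⟩
  · intro hwa
    obtain ⟨la, hla⟩ := hφ a
    exact ⟨la, hla, (commute_lift (hla ▸ ha) (hla ▸ hwa)).symm⟩

theorem surj_conj (k : Cd d) {a : Cd d} : φ (k * a * k⁻¹) = φ k * φ a * (φ k)⁻¹ := by
  rw [map_mul, map_mul, map_inv]

end Cov

open Classical in
/-- The lift of a member conjugate to a given lift. -/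
noncomputable def lift (φ : Cd d →* Y) (x₀ : Cd d) (e : Y) : Cd d :=
  if he : ∃ x, IsConj x₀ x ∧ φ x = e then he.choose else 1

namespace Cov

variable (h : Cov d φ E) {x₀ : Cd d} (hx₀ : φ x₀ ∈ E)
include h hx₀

theorem lift_spec {e : Y} (he : e ∈ E) : IsConj x₀ (lift φ x₀ e) ∧ φ (lift φ x₀ e) = e := by
  have hex : ∃ x, IsConj x₀ x ∧ φ x = e := by
    obtain ⟨g, hg⟩ := h.m22.prim.1 _ hx₀ e he
    obtain ⟨k, rfl⟩ := h.surj g
    exact ⟨k * x₀ * k⁻¹, isConj_iff.2 ⟨k, rfl⟩, by rw [h.surj_conj, hg]⟩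
  rw [lift, dif_pos hex]
  exact hex.choose_spec

theorem map_lift {e : Y} (he : e ∈ E) : φ (lift φ x₀ e) = e := (h.lift_spec hx₀ he).2

theorem lift_unique {x : Cd d} (hc : IsConj x₀ x) {e : Y} (hxe : φ x = e) : lift φ x₀ e = x := by
  obtain ⟨k, rfl⟩ := isConj_iff.1 hc
  have he : e ∈ E := by
    rw [← hxe, h.surj_conj]
    exact h.m22.closed.conj _ _ hx₀
  obtain ⟨hc', hmap⟩ := h.lift_spec hx₀ he
  obtain ⟨j, hj⟩ := isConj_iff.1 hc'
  rw [← hj] at hmap ⊢
  rcases h.same (hxe.trans hmap.symm) with e1 | e1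
  · exact e1
  · exfalso
    have hcomm : Commute (k⁻¹ * j) x₀ := by
      refine h.commute_lift hx₀ ?_
      have e2 : φ j * φ x₀ * (φ j)⁻¹ = φ k * φ x₀ * (φ k)⁻¹ := by
        rw [← h.surj_conj, ← h.surj_conj, hmap, hxe]
      rw [map_mul, map_inv]
      have e3 := congrArg (fun t => (φ k)⁻¹ * t * φ j) e2
      simp only [mul_assoc, inv_mul_cancel_left, inv_mul_cancel, mul_one] at e3
      show (φ k)⁻¹ * φ j * φ x₀ = φ x₀ * ((φ k)⁻¹ * φ j)
      rw [mul_assoc, e3]
    have e4 : k⁻¹ * (j * x₀ * j⁻¹) * k = x₀ := by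
      rw [show k⁻¹ * (j * x₀ * j⁻¹) * k = (k⁻¹ * j) * x₀ * (k⁻¹ * j)⁻¹ by group, hcomm.eq, mul_inv_cancel_right]
    rw [e1, show k⁻¹ * (k * x₀ * k⁻¹ * dC d) * k = x₀ * (k⁻¹ * dC d * k) by group,
      show k⁻¹ * dC d * k = dC d by rw [(h.cen k⁻¹).eq, inv_mul_cancel_right]] at e4
    exact h.dC_ne (mul_eq_left.1 e4)

theorem lift_self : lift φ x₀ (φ x₀) = x₀ := h.lift_unique hx₀ (IsConj.refl _) rfl

theorem lift_inj {a b : Y} (ha : a ∈ E) (hb : b ∈ E) (e : lift φ x₀ a = lift φ x₀ b) : a = b := by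
  rw [← h.map_lift hx₀ ha, e, h.map_lift hx₀ hb]

theorem lift_conj (g : Cd d) {a : Y} (ha : a ∈ E) :
    g * lift φ x₀ a * g⁻¹ = lift φ x₀ (φ g * a * (φ g)⁻¹) := by
  refine (h.lift_unique hx₀ ((h.lift_spec hx₀ ha).1.trans (isConj_iff.2 ⟨g, rfl⟩)) ?_).symm
  rw [h.surj_conj, h.map_lift hx₀ ha]

theorem lift_sq {a : Y} (ha : a ∈ E) : lift φ x₀ a * lift φ x₀ a = 1 :=
  h.lift_sq_one (by rw [h.map_lift hx₀ ha]; exact ha)

theorem lift_comm {a b : Y} (ha : a ∈ E) (hb : b ∈ E) :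
    Commute (lift φ x₀ a) (lift φ x₀ b) ↔ Commute a b := by
  constructor
  · intro hc
    have := hc.map φ
    rwa [h.map_lift hx₀ ha, h.map_lift hx₀ hb] at this
  · intro hc
    refine h.commute_lift (by rw [h.map_lift hx₀ hb]; exact hb) ?_
    rwa [h.map_lift hx₀ ha, h.map_lift hx₀ hb]

theorem lift_braid {a b : Y} (ha : a ∈ E) (hb : b ∈ E) :
    lift φ x₀ a * lift φ x₀ b * lift φ x₀ a = lift φ x₀ (a * b * a) := by
  have := h.lift_conj hx₀ (lift φ x₀ a) hb
  rwa [h.map_lift hx₀ ha, inv_eq_of_mul_eq_one_right (h.lift_sq hx₀ ha), inv_eq h.m22.set ha] at this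

theorem lift_triple {a b : Y} (ha : a ∈ E) (hb : b ∈ E) (hab : ¬ Commute a b) :
    (lift φ x₀ a * lift φ x₀ b) ^ 3 = 1 := by
  have e : lift φ x₀ a * lift φ x₀ b * lift φ x₀ a = lift φ x₀ b * lift φ x₀ a * lift φ x₀ b := by
    rw [h.lift_braid hx₀ ha hb, h.lift_braid hx₀ hb ha, braid h.m22.set ha hb hab]
  have ha2 := h.lift_sq hx₀ ha
  have hb2 := h.lift_sq hx₀ hb
  calc (lift φ x₀ a * lift φ x₀ b) ^ 3
      = (lift φ x₀ a * lift φ x₀ b * lift φ x₀ a) * (lift φ x₀ b * lift φ x₀ a * lift φ x₀ b) := by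
        simp [pow_succ, mul_assoc]
    _ = 1 := by
      rw [← e]
      calc lift φ x₀ a * lift φ x₀ b * lift φ x₀ a * (lift φ x₀ a * lift φ x₀ b * lift φ x₀ a)
          = lift φ x₀ a * (lift φ x₀ b * (lift φ x₀ a * lift φ x₀ a) * lift φ x₀ b) * lift φ x₀ a := by
            simp only [mul_assoc]
        _ = 1 := by rw [ha2, mul_one, hb2, mul_one, ha2]

/-- The other class of lifts. -/
theorem other : φ (x₀ * dC d) ∈ E ∧ ∀ e ∈ E, lift φ (x₀ * dC d) e = lift φ x₀ e * dC d := by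
  have hm : φ (x₀ * dC d) = φ x₀ := by rw [map_mul, h.map_dC, mul_one]
  refine ⟨hm ▸ hx₀, fun e he => h.lift_unique (hm ▸ hx₀) ?_ ?_⟩
  · obtain ⟨g, hg⟩ := isConj_iff.1 (h.lift_spec hx₀ he).1
    refine isConj_iff.2 ⟨g, ?_⟩
    rw [show g * (x₀ * dC d) * g⁻¹ = g * x₀ * g⁻¹ * (g * dC d * g⁻¹) by group, hg, (h.cen g).eq,
      mul_inv_cancel_right]
  · rw [map_mul, h.map_lift hx₀ he, h.map_dC, mul_one]

/-- Every lift of a member is in one of the two classes. -/
theorem lift_cases {x : Cd d} (hx : φ x ∈ E) : x = lift φ x₀ (φ x) ∨ x = lift φ x₀ (φ x) * dC d :=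
  h.same (h.map_lift hx₀ hx)

/-- The lifts generate. -/
theorem closure_lifts : Subgroup.closure (lift φ x₀ '' E) = ⊤ := by
  set H := Subgroup.closure (lift φ x₀ '' E) with hH
  have hmap : H.map φ = ⊤ := by
    rw [hH, MonoidHom.map_closure, Set.image_image, ← h.m22.group.2.2]
    congr 1
    exact (Set.image_congr fun e he => h.map_lift hx₀ he).trans (Set.image_id _)
  have hdec : ∀ g : Cd d, ∃ k ∈ H, g = k ∨ g = k * dC d := fun g => by
    obtain ⟨k, hk, e⟩ := (hmap.ge (Subgroup.mem_top (φ g)) : φ g ∈ H.map φ)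
    exact ⟨k, hk, h.same e⟩
  rw [eq_top_iff, ← h.perfect, commutator_def, Subgroup.commutator_le]
  intro g _ g' _
  have strip : ∀ k : Cd d, ∀ t : Cd d, ⁅k * dC d, t⁆ = ⁅k, t⁆ := fun k t => by
    simp only [commutatorElement_def, mul_inv_rev]
    rw [show k * dC d * t = k * t * dC d by rw [mul_assoc, ← (h.cen t).eq, ← mul_assoc]]
    group
  have strip' : ∀ k t : Cd d, ⁅t, k * dC d⁆ = ⁅t, k⁆ := fun k t => by
    rw [← commutatorElement_inv, strip, commutatorElement_inv]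
  obtain ⟨k, hk, e | e⟩ := hdec g <;> obtain ⟨k', hk', e' | e'⟩ := hdec g' <;> rw [e, e'] <;>
    (try simp only [strip, strip']) <;>
    exact mul_mem (mul_mem (mul_mem hk hk') (inv_mem hk)) (inv_mem hk')

end Cov

end CfsgLib.ThreeTrans.FiCent23
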