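import Mathlib
import Cfsg.Agent.Lib.ThreeTrans.FiCent23.Cover

/-! Products over subsets of a base, upstairs and downstairs, and their relations. -/

set_option autoImplicit false
set_option linter.unusedSectionVars false

namespace CfsgLib.ThreeTrans.FiCent23

open CfsgLib.ThreeTrans CfsgLib.ThreeTrans.Tower CfsgLib.ThreeTrans.TypeTop
open scoped symmDiff

universe u v

variable {G : Type u} [Group G] {Y : Type v} [Group Y] [Finite Y] {d : G} {φ : Cd d →* Y} {E : Set Y}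

open Classical in
/-- The product of the lifts of a set of pairwise commuting members. -/
noncomputable def sp (φ : Cd d →* Y) (x₀ : Cd d) (S : Finset Y) : Cd d :=
  if hS : (S : Set Y).Pairwise (Function.onFun Commute (lift φ x₀)) then S.noncommProd (lift φ x₀) hS else 1

variable (h : Cov d φ E) {x₀ : Cd d} (hx₀ : φ x₀ ∈ E) {B : Set Y} (hB : IsBase22 E B)
include h hx₀ hB

namespace Cov

theorem lift_comm_base {a b : Y} (ha : a ∈ B) (hb : b ∈ B) : Commute (lift φ x₀ a) (lift φ x₀ b) :=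
  (h.lift_comm hx₀ (hB.sub ha) (hB.sub hb)).2 (hB.comm a ha b hb)

theorem pairwise_base {S : Finset Y} (hS : ↑S ⊆ B) : (S : Set Y).Pairwise (Function.onFun Commute (lift φ x₀)) :=
  fun _ ha _ hb _ => h.lift_comm_base hx₀ hB (hS ha) (hS hb)

theorem sp_eq {S : Finset Y} (hS : ↑S ⊆ B) :
    sp φ x₀ S = S.noncommProd (lift φ x₀) (h.pairwise_base hx₀ hB hS) := by rw [sp, dif_pos]

theorem sp_empty : sp φ x₀ (∅ : Finset Y) = 1 := by
  rw [h.sp_eq hx₀ hB (by simp), Finset.noncommProd_empty]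

theorem sp_insert [DecidableEq Y] {S : Finset Y} {a : Y} (ha : a ∈ B) (hS : ↑S ⊆ B) (haS : a ∉ S) :
    sp φ x₀ (insert a S) = lift φ x₀ a * sp φ x₀ S := by
  rw [h.sp_eq hx₀ hB (by rw [Finset.coe_insert]; exact Set.insert_subset ha hS), h.sp_eq hx₀ hB hS,
    Finset.noncommProd_insert_of_notMem _ _ _ _ haS]

theorem sp_union [DecidableEq Y] {S T : Finset Y} (hS : ↑S ⊆ B) (hT : ↑T ⊆ B) (hd : Disjoint S T) :
    sp φ x₀ (S ∪ T) = sp φ x₀ S * sp φ x₀ T := by
  rw [h.sp_eq hx₀ hB (by rw [Finset.coe_union]; exact Set.union_subset hS hT), h.sp_eq hx₀ hB hS,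
    h.sp_eq hx₀ hB hT, Finset.noncommProd_union_of_disjoint hd]

theorem lift_commute_sp {S : Finset Y} (hS : ↑S ⊆ B) {a : Y} (ha : a ∈ B) :
    Commute (lift φ x₀ a) (sp φ x₀ S) := by
  rw [h.sp_eq hx₀ hB hS]
  exact Finset.noncommProd_commute _ _ _ _ fun b hb => h.lift_comm_base hx₀ hB ha (hS hb)

theorem sp_commute {S T : Finset Y} (hS : ↑S ⊆ B) (hT : ↑T ⊆ B) : Commute (sp φ x₀ S) (sp φ x₀ T) := by
  rw [h.sp_eq hx₀ hB hT]
  exact Finset.noncommProd_commute _ _ _ _ fun b hb => (h.lift_commute_sp hx₀ hB hS (hT hb)).symm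

theorem sp_sq {S : Finset Y} (hS : ↑S ⊆ B) : sp φ x₀ S * sp φ x₀ S = 1 := by
  classical
  induction S using Finset.induction with
  | empty => rw [h.sp_empty hx₀ hB, one_mul]
  | @insert a S ha ih =>
    rw [Finset.coe_insert, Set.insert_subset_iff] at hS
    rw [h.sp_insert hx₀ hB hS.1 hS.2 ha]
    exact mul_sq_one (h.lift_sq hx₀ (hB.sub hS.1)) (ih hS.2) (h.lift_commute_sp hx₀ hB hS.2 hS.1)

theorem sp_symmDiff [DecidableEq Y] {S T : Finset Y} (hS : ↑S ⊆ B) (hT : ↑T ⊆ B) :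
    sp φ x₀ (S ∆ T) = sp φ x₀ S * sp φ x₀ T := by
  have h1 : ↑(S \ T) ⊆ B := (Finset.coe_subset.2 Finset.sdiff_subset).trans hS
  have h2 : ↑(T \ S) ⊆ B := (Finset.coe_subset.2 Finset.sdiff_subset).trans hT
  have h3 : ↑(S ∩ T) ⊆ B := (Finset.coe_subset.2 Finset.inter_subset_left).trans hS
  have eS : sp φ x₀ S = sp φ x₀ (S \ T) * sp φ x₀ (S ∩ T) := by
    rw [← h.sp_union hx₀ hB h1 h3 (Finset.disjoint_sdiff_inter S T), Finset.sdiff_union_inter]
  have eT : sp φ x₀ T = sp φ x₀ (S ∩ T) * sp φ x₀ (T \ S) := by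
    rw [← h.sp_union hx₀ hB h3 h2 ?_]
    · congr 1
      rw [Finset.inter_comm, Finset.union_comm, Finset.sdiff_union_inter]
    · rw [Finset.inter_comm]
      exact (Finset.disjoint_sdiff_inter T S).symm
  rw [symmDiff_def, Finset.sup_eq_union, h.sp_union hx₀ hB h1 h2 disjoint_sdiff_sdiff, eS, eT, mul_assoc,
    ← mul_assoc (sp φ x₀ (S ∩ T)), h.sp_sq hx₀ hB h3, one_mul]

theorem sp_single {a : Y} (ha : a ∈ B) : sp φ x₀ ({a} : Finset Y) = lift φ x₀ a := by
  classical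
  rw [← Finset.insert_empty, h.sp_insert hx₀ hB ha (by simp) (by simp), h.sp_empty hx₀ hB, mul_one]

theorem sp_pair [DecidableEq Y] {a b : Y} (ha : a ∈ B) (hb : b ∈ B) (nab : a ≠ b) :
    sp φ x₀ ({a, b} : Finset Y) = lift φ x₀ a * lift φ x₀ b := by
  rw [h.sp_insert hx₀ hB ha (by simpa using hb) (by simpa using nab), h.sp_single hx₀ hB hb]

theorem sp_triple [DecidableEq Y] {a b c : Y} (ha : a ∈ B) (hb : b ∈ B) (hc : c ∈ B) (nab : a ≠ b) (nac : a ≠ c)
    (nbc : b ≠ c) : sp φ x₀ ({a, b, c} : Finset Y) = lift φ x₀ a * lift φ x₀ b * lift φ x₀ c := by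
  rw [h.sp_insert hx₀ hB ha (by simp [Set.insert_subset_iff, hb, hc]) (by simp [nab, nac]),
    h.sp_pair hx₀ hB hb hc nbc, mul_assoc]

theorem sp_conj [DecidableEq Y] (g : Cd d) {B' : Set Y} (hB' : IsBase22 E B') {S : Finset Y} (hS : ↑S ⊆ B)
    (him : cj (φ g) '' B = B') : g * sp φ x₀ S * g⁻¹ = sp φ x₀ (S.image (cj (φ g))) := by
  induction S using Finset.induction with
  | empty => rw [Finset.image_empty, h.sp_empty hx₀ hB, mul_one, mul_inv_cancel]
  | @insert a S ha ih =>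
    rw [Finset.coe_insert, Set.insert_subset_iff] at hS
    have hS' : ↑(S.image (cj (φ g))) ⊆ B' := by
      rw [Finset.coe_image, ← him]; exact Set.image_mono hS.2
    rw [Finset.image_insert, h.sp_insert hx₀ hB hS.1 hS.2 ha,
      h.sp_insert hx₀ hB' (him ▸ ⟨a, hS.1, rfl⟩) hS' (by simp [(cj_inj (φ g)).eq_iff, ha]), ← ih hS.2,
      show g * (lift φ x₀ a * sp φ x₀ S) * g⁻¹ = g * lift φ x₀ a * g⁻¹ * (g * sp φ x₀ S * g⁻¹) by group,
      h.lift_conj hx₀ g (hB.sub hS.1)]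
    rfl

/-- Two of a base have product different from one, as do four. -/
theorem no_rel_small [DecidableEq Y] {S : Finset Y} (hS : ↑S ⊆ B) (hne : S.Nonempty) (hk : S.card ≤ 5) :
    φ (sp φ x₀ S) ≠ 1 := by
  classical
  have hp : φ (sp φ x₀ S) = S.noncommProd id fun a ha b hb _ => hB.comm a (hS ha) b (hS hb) := by
    rw [h.sp_eq hx₀ hB hS, Finset.map_noncommProd]
    exact Finset.noncommProd_congr rfl (fun a ha => h.map_lift hx₀ (hB.sub (hS ha))) _
  rw [hp]
  rcases Nat.eq_or_lt_of_le (Finset.card_pos.2 hne) with h1 | h1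
  · obtain ⟨a, rfl⟩ := Finset.card_eq_one.1 h1.symm
    rw [Finset.noncommProd_singleton]
    exact ne_one h.m22.set (hB.sub (hS (by simp)))
  have h2 := h.m22.rel hk h1 S.toList (Finset.nodup_toList S) (Finset.length_toList S)
    (fun x hx => hB.sub (hS (Finset.mem_toList.1 hx)))
    fun x hx y hy => hB.comm x (hS (Finset.mem_toList.1 hx)) y (hS (Finset.mem_toList.1 hy))
  intro e
  refine h2 (Eq.trans ?_ e)
  have hl := Finset.noncommProd_toFinset S.toList (id : Y → Y)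
    (fun a ha b hb _ => hB.comm a (hS (by simpa using ha)) b (hS (by simpa using hb))) (Finset.nodup_toList S)
  rw [List.map_id] at hl
  rw [← hl]
  exact Finset.noncommProd_congr (Finset.toList_toFinset S) (fun _ _ => rfl) _

end Cov

end CfsgLib.ThreeTrans.FiCent23
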