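import Mathlib
import Cfsg.Agent.Lib.ThreeTrans.FiCent23.Sets
import Cfsg.Agent.Lib.ThreeTrans.TypeTop.CoverBase
import Cfsg.Agent.Lib.ThreeTrans.Uniq.PairCover

/-! In a perfect double cover of type M(22) the six lifts of a six have product the central involution. -/

set_option autoImplicit false
set_option linter.unusedSectionVars false

namespace CfsgLib.ThreeTrans.FiCent23

open CfsgLib.ThreeTrans CfsgLib.ThreeTrans.Tower CfsgLib.ThreeTrans.TypeTop
open scoped symmDiff

universe u v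

variable {G : Type u} [Group G] {Y : Type v} [Group Y] [Finite Y] {d : G} {φ : Cd d →* Y} {E : Set Y}

/-- The six of three members, as a finite set. -/
noncomputable def hexF (E : Set Y) (a b c : Y) : Finset Y := (hex E a b c).toFinite.toFinset

theorem mem_hexF {a b c y : Y} : y ∈ hexF E a b c ↔ y ∈ hex E a b c := Set.Finite.mem_toFinset _

theorem coe_hexF {a b c : Y} : (↑(hexF E a b c) : Set Y) = hex E a b c := Set.Finite.coe_toFinset _

theorem cj_mem_hex (hc : ConjClosed E) (g : Y) {a b c y : Y} (hy : y ∈ hex E a b c) :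
    cj g y ∈ hex E (cj g a) (cj g b) (cj g c) := by
  refine ⟨hc.conj g y hy.1, fun z hz za zb zc => ?_⟩
  obtain ⟨z', rfl⟩ : ∃ z', cj g z' = z := ⟨g⁻¹ * z * g, by simp [cj, mul_assoc]⟩
  have hz' : z' ∈ E := by
    have := hc.conj' g hz
    simpa [cj, mul_assoc] using this
  exact (commute_conj_iff g y z').2 (hy.2 z' hz' ((commute_conj_iff g z' a).1 za)
    ((commute_conj_iff g z' b).1 zb) ((commute_conj_iff g z' c).1 zc))

namespace M22

variable (hm : M22 E)
include hm

theorem card_hexF {a b c : Y} (t : Triple E a b c) : (hexF E a b c).card = 6 := by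
  rw [← Set.ncard_coe_finset, coe_hexF, hm.ncard_hex t]

/-- A set of at least three pairwise commuting members lies in a base. -/
theorem exists_base_containing {S : Finset Y} (hSE : ↑S ⊆ E) (hc : ∀ x ∈ S, ∀ y ∈ S, Commute x y)
    (hk : 2 < S.card) : ∃ B, IsBase22 E B ∧ ↑S ⊆ B := by
  classical
  obtain ⟨a, b, c, ha, hb, hcS, nab, nac, nbc⟩ := Finset.two_lt_card_iff.1 hk
  have t : Triple E a b c := ⟨hSE ha, hSE hb, hSE hcS, nab, nac, nbc, hc a ha b hb, hc a ha c hcS, hc b hb c hcS⟩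
  by_cases hall : ∀ w ∈ S, w ∈ hex E a b c
  · obtain ⟨B, hB, xa, xb, xc⟩ := hm.exists_base_through t
    exact ⟨B, hB, fun w hw => hm.hex_subset hB xa xb xc (hall w hw)⟩
  push Not at hall
  obtain ⟨w, hw, hwH⟩ := hall
  exact ⟨_, hm.base_of_outer t (hSE hw) (hc w hw a ha) (hc w hw b hb) (hc w hw c hcS) hwH, fun y hy =>
    ⟨hSE hy, hc y hy a ha, hc y hy b hb, hc y hy c hcS, hc y hy w hw⟩⟩

end M22

namespace Cov

variable (h : Cov d φ E) {x₀ : Cd d} (hx₀ : φ x₀ ∈ E) {B : Set Y} (hB : IsBase22 E B)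
include h hx₀ hB

theorem map_triple [DecidableEq Y] {a b c : Y} (ha : a ∈ B) (hb : b ∈ B) (hc : c ∈ B) (nab : a ≠ b) (nac : a ≠ c)
    (nbc : b ≠ c) : φ (sp φ x₀ ({a, b, c} : Finset Y)) = a * b * c := by
  rw [h.sp_triple hx₀ hB ha hb hc nab nac nbc, map_mul, map_mul, h.map_lift hx₀ (hB.sub ha),
    h.map_lift hx₀ (hB.sub hb), h.map_lift hx₀ (hB.sub hc)]

theorem hexF_sub {a b c : Y} (ha : a ∈ B) (hb : b ∈ B) (hc : c ∈ B) : ↑(hexF E a b c) ⊆ B := by
  rw [coe_hexF]; exact h.m22.hex_subset hB ha hb hc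

theorem hex_rel {a b c : Y} (ha : a ∈ B) (hb : b ∈ B) (hc : c ∈ B) (t : Triple E a b c) :
    φ (sp φ x₀ (hexF E a b c)) = 1 := by
  classical
  obtain ⟨F, _, _, K⟩ := h.m22.exists_K
  obtain ⟨haE, hbE, hcE, nab, nac, nbc, cab, cac, cbc⟩ := id t
  obtain ⟨f, g, k, hL, hprod, hset, -⟩ := K.hex_spec haE hbE hcE nab nac nbc cab cac cbc
  have hsub := h.m22.hex_subset hB ha hb hc
  have hin : ∀ x ∈ [f, g, k], x ∈ hex E a b c := fun x hx => by
    rw [hset]; exact List.mem_cons_of_mem _ (List.mem_cons_of_mem _ (List.mem_cons_of_mem _ hx))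
  have hf := hsub (hin f (by simp))
  have hg := hsub (hin g (by simp))
  have hk := hsub (hin k (by simp))
  have hnd := (List.nodup_cons.1 hL.nodup)
  have hnd2 := (List.nodup_cons.1 hnd.2)
  simp only [List.nodup_cons, List.mem_cons, List.not_mem_nil, or_false, not_or] at hnd hnd2
  obtain ⟨nfg, nfk⟩ : f ≠ g ∧ f ≠ k := hnd.2.2.1
  have ngk : g ≠ k := hnd.2.2.2.1
  have e : hexF E a b c = ({a, b, c} : Finset Y) ∪ {f, g, k} := by
    ext y
    rw [mem_hexF, hset]
    simp only [Set.mem_ofPred_eq, List.mem_cons, List.not_mem_nil, or_false, Finset.mem_union, Finset.mem_insert,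
      Finset.mem_singleton]
    tauto
  have hdis : Disjoint ({a, b, c} : Finset Y) {f, g, k} := by
    have h6 := h.m22.card_hexF t
    rw [e] at h6
    rw [Finset.disjoint_iff_inter_eq_empty, ← Finset.card_eq_zero]
    have h1 := Finset.card_union_add_card_inter ({a, b, c} : Finset Y) {f, g, k}
    rw [h6, show ({a, b, c} : Finset Y).card = 3 by simp [nab, nac, nbc],
      show ({f, g, k} : Finset Y).card = 3 by simp [nfg, nfk, ngk]] at h1
    omega
  rw [e, h.sp_union hx₀ hB (by simp [Set.insert_subset_iff, ha, hb, hc]) (by simp [Set.insert_subset_iff, hf, hg, hk])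
    hdis, map_mul, h.map_triple hx₀ hB ha hb hc nab nac nbc, h.map_triple hx₀ hB hf hg hk nfg nfk ngk, ← hprod]
  simp [mul_assoc]

theorem hex_cases {a b c : Y} (ha : a ∈ B) (hb : b ∈ B) (hc : c ∈ B) (t : Triple E a b c) :
    sp φ x₀ (hexF E a b c) = 1 ∨ sp φ x₀ (hexF E a b c) = dC d :=
  h.ker' _ (h.hex_rel hx₀ hB ha hb hc t)

/-- A six-element relation in a base is a six. -/
theorem rel_six {S : Finset Y} (hS : ↑S ⊆ B) (h6 : S.card = 6) (hr : φ (sp φ x₀ S) = 1) {a b c : Y}
    (ha : a ∈ S) (hb : b ∈ S) (hc : c ∈ S) (nab : a ≠ b) (nac : a ≠ c) (nbc : b ≠ c) :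
    S = hexF E a b c := by
  classical
  have hsub : ({a, b, c} : Finset Y) ⊆ S := by simp [Finset.insert_subset_iff, ha, hb, hc]
  have h3 : (S \ {a, b, c}).card = 3 := by
    rw [Finset.card_sdiff_of_subset hsub, h6, show ({a, b, c} : Finset Y).card = 3 by simp [nab, nac, nbc]]
  obtain ⟨p, q, r, npq, npr, nqr, e⟩ := Finset.card_eq_three.1 h3
  have hpqr : ∀ x ∈ ({p, q, r} : Finset Y), x ∈ B := fun x hx => hS (Finset.mem_sdiff.1 (e ▸ hx)).1
  have hp := hpqr p (by simp)
  have hq := hpqr q (by simp)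
  have hrr := hpqr r (by simp)
  have hU : ({a, b, c} : Finset Y) ∪ {p, q, r} = S := by rw [← e, Finset.union_sdiff_of_subset hsub]
  rw [← hU, h.sp_union hx₀ hB ((Finset.coe_subset.2 hsub).trans hS) (fun x hx => hpqr x hx)
    (by rw [← e]; exact Finset.disjoint_sdiff), map_mul, h.map_triple hx₀ hB (hS ha) (hS hb) (hS hc) nab nac nbc,
    h.map_triple hx₀ hB hp hq hrr npq npr nqr] at hr
  have hsq : p * q * r * (p * q * r) = 1 := by
    have := congrArg φ (h.sp_sq hx₀ hB (S := ({p, q, r} : Finset Y)) fun x hx => hpqr x hx)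
    rwa [map_mul, map_one, h.map_triple hx₀ hB hp hq hrr npq npr nqr] at this
  have t := triple_of_base hB (hS ha) (hS hb) (hS hc) nab nac nbc
  obtain ⟨h1, h2, h4⟩ := h.m22.triple_eq t (triple_of_base hB hp hq hrr npq npr nqr)
    (mul_right_cancel (hr.trans hsq.symm))
  obtain ⟨m1, m2, m3⟩ := Data22.mem_hex t.1 t.2.1 t.2.2.1 (D := E)
  refine Finset.eq_of_subset_of_card_le ?_ (by rw [h.m22.card_hexF t, h6])
  rw [← hU]
  simp [Finset.insert_subset_iff, mem_hexF, h1, h2, h4, m1, m2, m3]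

/-- If the sixes lift to relations, so do all relations of even size. -/
theorem even_rel (hp : ∀ a ∈ B, ∀ b ∈ B, ∀ c ∈ B, Triple E a b c → sp φ x₀ (hexF E a b c) = 1) :
    ∀ (n : ℕ) (S : Finset Y), S.card ≤ n → ↑S ⊆ B → Even S.card → φ (sp φ x₀ S) = 1 → sp φ x₀ S = 1 := by
  classical
  intro n
  induction n with
  | zero =>
    intro S hn hS _ _
    rw [Finset.card_eq_zero.1 (Nat.le_zero.1 hn), h.sp_empty hx₀ hB]
  | succ n ih =>
    intro S hn hS hev hr
    rcases S.eq_empty_or_nonempty with rfl | hne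
    · exact h.sp_empty hx₀ hB
    have h5 : 5 < S.card := by
      by_contra hle
      exact h.no_rel_small hx₀ hB hS hne (by omega) hr
    obtain ⟨a, b, c, ha, hb, hc, nab, nac, nbc⟩ := Finset.two_lt_card_iff.1 (by omega : 2 < S.card)
    rcases Nat.lt_or_ge S.card 7 with h7 | h7
    · rw [h.rel_six hx₀ hB hS (by omega) hr ha hb hc nab nac nbc]
      exact hp a (hS ha) b (hS hb) c (hS hc) (triple_of_base hB (hS ha) (hS hb) (hS hc) nab nac nbc)
    have h8 : 8 ≤ S.card := by
      rw [Nat.even_iff] at hev; omega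
    -- two of the others give one six
    set R := (S.erase a).erase b with hR
    have hRc : R.card = S.card - 2 := by
      rw [hR, Finset.card_erase_of_mem (Finset.mem_erase.2 ⟨Ne.symm nab, hb⟩), Finset.card_erase_of_mem ha]; omega
    have hRm : ∀ x ∈ R, x ∈ S ∧ x ≠ a ∧ x ≠ b := fun x hx => by
      simp only [hR, Finset.mem_erase] at hx; exact ⟨hx.2.2, hx.2.1, hx.1⟩
    have tR : ∀ x ∈ R, Triple E a b x := fun x hx =>
      triple_of_base hB (hS ha) (hS hb) (hS (hRm x hx).1) nab (Ne.symm (hRm x hx).2.1) (Ne.symm (hRm x hx).2.2)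
    by_cases hex4 : ∃ x ∈ R, ∃ y ∈ R, x ≠ y ∧ y ∈ hexF E a b x
    · obtain ⟨x, hx, y, hy, nxy, hyH⟩ := hex4
      have t := tR x hx
      have hH := h.hexF_sub hx₀ hB (hS ha) (hS hb) (hS (hRm x hx).1) (a := a) (b := b) (c := x)
      set H := hexF E a b x
      have hH6 : H.card = 6 := h.m22.card_hexF t
      have h4 : 4 ≤ (S ∩ H).card := by
        obtain ⟨m1, m2, m3⟩ := Data22.mem_hex t.1 t.2.1 t.2.2.1 (D := E)
        have : ({a, b, x, y} : Finset Y) ⊆ S ∩ H := by
          simp [Finset.insert_subset_iff, ha, hb, (hRm x hx).1, (hRm y hy).1, mem_hexF.2 m1, mem_hexF.2 m2,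
            mem_hexF.2 m3, hyH, H]
        refine le_trans ?_ (Finset.card_le_card this)
        simp [nab, Ne.symm (hRm x hx).2.1, Ne.symm (hRm x hx).2.2, Ne.symm (hRm y hy).2.1, Ne.symm (hRm y hy).2.2, nxy]
      have hsd : (S ∆ H).card + 2 * (S ∩ H).card = S.card + H.card := by
        rw [symmDiff_def, Finset.sup_eq_union, Finset.card_union_of_disjoint disjoint_sdiff_sdiff]
        have e1 := Finset.card_sdiff_add_card_inter S H
        have e2 := Finset.card_sdiff_add_card_inter H S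
        rw [Finset.inter_comm] at e2
        omega
      have hSH : ↑(S ∆ H) ⊆ B := by
        intro z hz
        rcases Finset.mem_symmDiff.1 hz with k | k
        exacts [hS k.1, hH k.1]
      have hpH := hp a (hS ha) b (hS hb) x (hS (hRm x hx).1) t
      have := ih (S ∆ H) (by omega) hSH (by rw [Nat.even_iff] at hev ⊢; omega)
        (by rw [h.sp_symmDiff hx₀ hB hS hH, hpH, mul_one]; exact hr)
      rwa [h.sp_symmDiff hx₀ hB hS hH, hpH, mul_one] at this
    exfalso
    push Not at hex4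
    set U : Y → Finset Y := fun x => ((hexF E a b x).erase a).erase b with hU
    have hU4 : ∀ x ∈ R, (U x).card = 4 := fun x hx => by
      obtain ⟨m1, m2, -⟩ := Data22.mem_hex (tR x hx).1 (tR x hx).2.1 (tR x hx).2.2.1 (D := E)
      simp only [hU]
      rw [Finset.card_erase_of_mem (Finset.mem_erase.2 ⟨Ne.symm nab, mem_hexF.2 m2⟩),
        Finset.card_erase_of_mem (mem_hexF.2 m1), h.m22.card_hexF (tR x hx)]
    have hdisj : ∀ x ∈ R, ∀ y ∈ R, x ≠ y → Disjoint (U x) (U y) := fun x hx y hy nxy => by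
      rw [Finset.disjoint_left]
      intro z hzx hzy
      simp only [hU, Finset.mem_erase, mem_hexF] at hzx hzy
      refine hex4 x hx y hy nxy (mem_hexF.2 ?_)
      rw [← h.m22.hex_exchange (tR x hx) hzx.2.2 hzx.2.1 hzx.1,
        h.m22.hex_exchange (tR y hy) hzy.2.2 hzy.2.1 hzy.1]
      exact (Data22.mem_hex (tR y hy).1 (tR y hy).2.1 (tR y hy).2.2.1).2.2
    have hB22 : (B.toFinite.toFinset).card = 22 := by
      rw [← Set.ncard_eq_toFinset_card B B.toFinite, hB.card]
    have hle : R.biUnion U ⊆ (B.toFinite.toFinset.erase a).erase b := by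
      intro z hz
      obtain ⟨x, hx, hzx⟩ := Finset.mem_biUnion.1 hz
      simp only [hU, Finset.mem_erase] at hzx ⊢
      exact ⟨hzx.1, hzx.2.1, (Set.Finite.mem_toFinset _).2
        (h.hexF_sub hx₀ hB (hS ha) (hS hb) (hS (hRm x hx).1) hzx.2.2)⟩
    have hc1 := Finset.card_le_card hle
    rw [Finset.card_biUnion hdisj, Finset.sum_congr rfl hU4, Finset.sum_const, smul_eq_mul,
      Finset.card_erase_of_mem (Finset.mem_erase.2 ⟨Ne.symm nab, (Set.Finite.mem_toFinset _).2 (hS hb)⟩),
      Finset.card_erase_of_mem ((Set.Finite.mem_toFinset _).2 (hS ha)), hB22] at hc1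
    omega

theorem sp_other {S : Finset Y} (hS : ↑S ⊆ B) :
    sp φ (x₀ * dC d) S = sp φ x₀ S * (if Even S.card then 1 else dC d) := by
  classical
  obtain ⟨hm, hl⟩ := h.other hx₀
  induction S using Finset.induction with
  | empty => simp [h.sp_empty hx₀ hB, h.sp_empty hm hB]
  | @insert a S ha ih =>
    rw [Finset.coe_insert, Set.insert_subset_iff] at hS
    rw [h.sp_insert hm hB hS.1 hS.2 ha, h.sp_insert hx₀ hB hS.1 hS.2 ha, ih hS.2, hl a (hB.sub hS.1),
      Finset.card_insert_of_notMem ha]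
    have hc := h.cen (sp φ x₀ S)
    by_cases he : Even S.card
    · rw [if_pos he, if_neg (by rw [Nat.even_add_one, not_not]; exact he), mul_one, mul_assoc, ← hc.eq,
        ← mul_assoc]
    · rw [if_neg he, if_pos (by rw [Nat.even_add_one]; exact he), mul_one, mul_assoc, ← mul_assoc (dC d),
        ← hc.eq, mul_assoc (sp φ x₀ S), h.dC_sq, mul_one]

end Cov

/-- The lifts of a six multiply to the central involution. -/
theorem Cov.hex_lift [Finite G] (h : Cov d φ E) {x₀ : Cd d} (hx₀ : φ x₀ ∈ E) {B : Set Y} (hB : IsBase22 E B) {a b c : Y}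
    (ha : a ∈ B) (hb : b ∈ B) (hc : c ∈ B) (t : Triple E a b c) : sp φ x₀ (hexF E a b c) = dC d := by
  classical
  refine (h.hex_cases hx₀ hB ha hb hc t).resolve_left fun h1 => ?_
  have hm := h.m22
  have move : ∀ {B' : Set Y}, IsBase22 E B' → ∀ {a' b' c' : Y}, a' ∈ B' → b' ∈ B' → c' ∈ B' → Triple E a' b' c' →
      sp φ x₀ (hexF E a' b' c') = 1 := by
    intro B' hB' a' b' c' ha' hb' hc' t'
    obtain ⟨g, rfl, rfl, rfl, him⟩ := hm.triples_conj hB hB' t ha hb hc t' ha' hb' hc'
    obtain ⟨k, rfl⟩ := h.surj g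
    have e : (hexF E a b c).image (cj (φ k)) = hexF E (cj (φ k) a) (cj (φ k) b) (cj (φ k) c) := by
      refine Finset.eq_of_subset_of_card_le ?_ ?_
      · intro y hy
        obtain ⟨z, hz, rfl⟩ := Finset.mem_image.1 hy
        exact mem_hexF.2 (cj_mem_hex hm.closed _ (mem_hexF.1 hz))
      · rw [Finset.card_image_of_injective _ (cj_inj _), hm.card_hexF t, hm.card_hexF t']
    rw [← e, ← h.sp_conj hx₀ hB k hB' (h.hexF_sub hx₀ hB ha hb hc) him, h1, mul_one, mul_inv_cancel]
  -- a class in which all relations lift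
  obtain ⟨x₁, hx₁, hall⟩ : ∃ x₁ : Cd d, φ x₁ ∈ E ∧ ∀ {B' : Set Y}, IsBase22 E B' → ∀ S : Finset Y, ↑S ⊆ B' →
      φ (sp φ x₁ S) = 1 → sp φ x₁ S = 1 := by
    by_cases hodd : ∀ S : Finset Y, ↑S ⊆ B → φ (sp φ x₀ S) = 1 → sp φ x₀ S = 1
    · refine ⟨x₀, hx₀, fun {B'} hB' S hS hr => ?_⟩
      obtain ⟨g, him⟩ := hm.bases_conj hB hB'
      obtain ⟨k, rfl⟩ := h.surj g
      obtain ⟨T, hT, rfl⟩ : ∃ T : Finset Y, ↑T ⊆ B ∧ T.image (cj (φ k)) = S := by
        refine ⟨S.image (cj (φ k)⁻¹), ?_, ?_⟩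
        · rw [Finset.coe_image]
          rintro _ ⟨y, hy, rfl⟩
          obtain ⟨z, hz, rfl⟩ := (him.symm ▸ hS hy : y ∈ cj (φ k) '' B)
          rw [cj_cj, inv_mul_cancel]
          simpa [cj] using hz
        · ext y
          simp [cj, mul_assoc]
      have e := h.sp_conj hx₀ hB k hB' hT him
      rw [← e, map_mul, map_mul, map_inv, conj_eq_one_iff] at hr
      rw [← e, hodd T hT hr, mul_one, mul_inv_cancel]
    · push Not at hodd
      obtain ⟨S₀, hS₀, hr₀, hne₀⟩ := hodd
      have hd0 : sp φ x₀ S₀ = dC d := (h.ker' _ hr₀).resolve_left hne₀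
      have hev : ∀ {B' : Set Y}, IsBase22 E B' → ∀ S : Finset Y, ↑S ⊆ B' → Even S.card → φ (sp φ x₀ S) = 1 →
          sp φ x₀ S = 1 := fun {B'} hB' S hS he hr =>
        h.even_rel hx₀ hB' (fun p hp q hq r hr t => move hB' hp hq hr t) S.card S le_rfl hS he hr
      have hodd0 : ¬ Even S₀.card := fun he => hne₀ (hev hB S₀ hS₀ he hr₀)
      obtain ⟨hm₁, -⟩ := h.other hx₀
      refine ⟨x₀ * dC d, hm₁, fun {B'} hB' S hS hr => ?_⟩
      have hr' : φ (sp φ x₀ S) = 1 := by
        rw [h.sp_other hx₀ hB' hS] at hr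
        split_ifs at hr
        · rwa [mul_one] at hr
        · rwa [map_mul, h.map_dC, mul_one] at hr
      rw [h.sp_other hx₀ hB' hS]
      by_cases he : Even S.card
      · rw [if_pos he, mul_one, hev hB' S hS he hr']
      rw [if_neg he]
      obtain ⟨g, him⟩ := hm.bases_conj hB hB'
      obtain ⟨k, rfl⟩ := h.surj g
      have hT : ↑(S₀.image (cj (φ k))) ⊆ B' := by
        rw [Finset.coe_image, ← him]; exact Set.image_mono hS₀
      have eT : sp φ x₀ (S₀.image (cj (φ k))) = dC d := by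
        rw [← h.sp_conj hx₀ hB k hB' hS₀ him, hd0, (h.cen k).eq, mul_inv_cancel_right]
      have hU : ↑(S ∆ S₀.image (cj (φ k))) ⊆ B' := fun z hz => by
        rcases Finset.mem_symmDiff.1 hz with k' | k'
        exacts [hS k'.1, hT k'.1]
      have hUe : Even (S ∆ S₀.image (cj (φ k))).card := by
        rw [symmDiff_def, Finset.sup_eq_union, Finset.card_union_of_disjoint disjoint_sdiff_sdiff]
        have e1 := Finset.card_sdiff_add_card_inter S (S₀.image (cj (φ k)))
        have e2 := Finset.card_sdiff_add_card_inter (S₀.image (cj (φ k))) S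
        rw [Finset.inter_comm] at e2
        rw [Finset.card_image_of_injective _ (cj_inj _)] at e2
        rw [Nat.even_iff] at hodd0 he ⊢
        omega
      have := hev hB' _ hU hUe (by rw [h.sp_symmDiff hx₀ hB' hS hT, map_mul, hr', eT, h.map_dC, mul_one])
      rwa [h.sp_symmDiff hx₀ hB' hS hT, eT] at this
  clear move h1
  -- such a class would split the cover
  obtain ⟨F, _, _, K⟩ := hm.exists_K
  obtain ⟨E', St, T⟩ := K.stage
  have himg : ∀ e ∈ E, φ (lift φ x₁ e) = e := fun e he => h.map_lift hx₁ he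
  obtain ⟨p, hp, hmem⟩ := Uniq.cover_climb (St.coverHyp K.loc.mu (by norm_num) (by norm_num)) hm.prim hm.group
    St.width (L := lift φ x₁) himg (fun e he => h.lift_sq hx₁ he) (fun g e he => h.lift_conj hx₁ g he)
    (h.closure_lifts hx₁) h.map_dC h.dC_ne h.ker'
  obtain ⟨hpH, -, hcenp⟩ := (main22 hm.group hm.prim hm.typ).2 p hp
  obtain ⟨π, M⟩ := St.base p hp
  set Lp := lift φ x₁ p with hLp
  set H := Subgroup.closure {k | ∃ b ∈ E, Commute p b ∧ lift φ x₁ b = k} with hH
  have hpM : Lp ∈ H := Subgroup.subset_closure ⟨p, hp, Commute.refl p, rfl⟩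
  have hmap : ∀ k : H, φ (k : Cd d) ∈ Hd E p := by
    intro k
    have : H ≤ (Hd E p).comap φ := by
      refine (Subgroup.closure_le _).2 ?_
      rintro _ ⟨b, hb, hc, rfl⟩
      show φ (lift φ x₁ b) ∈ Hd E p
      rw [himg b hb]
      by_cases e : b = p
      · rw [e]; exact hpH
      · exact Subgroup.subset_closure ⟨hb, e, hc⟩
    exact this k.2
  let σ : H →* Cfsg.PSU 6 F 2 := π.comp ((φ.comp H.subtype).codRestrict (Hd E p) hmap)
  have hσ : ∀ k : H, σ k = π ⟨φ k, hmap k⟩ := fun k => rfl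
  set zp : H := ⟨Lp, hpM⟩ with hzp
  let N : Subgroup H := Subgroup.zpowers zp
  have hcenzp : ∀ k : H, Commute k zp := fun k => Subtype.ext (h.commute_lift (by rw [himg p hp]; exact hp)
    (by rw [himg p hp]; exact commute_of_mem_Hd (hmap k))).eq
  haveI hN : N.Normal := ⟨fun n hn g => by
    obtain ⟨i, rfl⟩ := Subgroup.mem_zpowers_iff.1 hn
    rw [((hcenzp g).zpow_right i).eq, mul_inv_cancel_right]
    exact hn⟩
  have hσp : σ zp = 1 := by
    rw [hσ, M.base.ker, hcenp, Subgroup.mem_subgroupOf]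
    show φ Lp ∈ Subgroup.zpowers p
    rw [himg p hp]
    exact Subgroup.mem_zpowers p
  have hNker : N ≤ σ.ker := Subgroup.zpowers_le.2 (MonoidHom.mem_ker.2 hσp)
  let ρ : H ⧸ N →* Cfsg.PSU 6 F 2 := QuotientGroup.lift N σ hNker
  have hρ : ∀ k : H, ρ (k : H ⧸ N) = σ k := fun k => QuotientGroup.lift_mk' N hNker k
  have hp2 : Lp * Lp = 1 := h.lift_sq hx₁ hp
  have hNmem : ∀ k : H, k ∈ N → (k : Cd d) = 1 ∨ (k : Cd d) = Lp := by
    intro k hk
    obtain ⟨i, rfl⟩ := Subgroup.mem_zpowers_iff.1 hk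
    rw [Subgroup.coe_zpow]
    rcases Int.even_or_odd' i with ⟨j, rfl | rfl⟩
    · left; rw [zpow_mul, zpow_two, hp2, one_zpow]
    · right; rw [zpow_add, zpow_mul, zpow_two, hp2, one_zpow, one_mul, zpow_one]
  set zd : H := ⟨dC d, hmem⟩ with hzd
  have pick : ∀ e ∈ E', ∃ x : H, ∃ y ∈ Dd E p, (x : Cd d) = lift φ x₁ y ∧ phi π y = e := fun e he => by
    obtain ⟨y, hy, rfl⟩ := M.onto he
    exact ⟨⟨_, Subgroup.subset_closure ⟨y, hy.1, hy.2.2, rfl⟩⟩, y, hy, rfl, rfl⟩
  choose! ℓ t ht hℓ hte using pick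
  have hσt : ∀ e ∈ E', σ (ℓ e) = e := fun e he => by
    rw [hσ]
    have e1 : φ (ℓ e : Cd d) = t e := by rw [hℓ e he, himg _ (ht e he).1]
    rw [show (⟨φ (ℓ e : Cd d), hmap _⟩ : Hd E p) = ⟨t e, Subgroup.subset_closure (ht e he)⟩ from Subtype.ext e1,
      ← phi_of_mem π (x := ⟨t e, Subgroup.subset_closure (ht e he)⟩) (ht e he), hte e he]
  refine USix.Lifted.no_cover (E := E') (ρ := ρ) (L := fun e => (ℓ e : H ⧸ N)) K.four
    ⟨T, fun e he => (hρ _).trans (hσt e he), fun e he => ?_, ?_, ?_⟩ (z := (zd : H ⧸ N)) ?_ ?_ ?_ ?_ ?_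
  · rw [← QuotientGroup.mk_mul, show ℓ e * ℓ e = 1 from Subtype.ext (by
      rw [Subgroup.coe_mul, hℓ e he, h.lift_sq hx₁ (ht e he).1, OneMemClass.coe_one]), QuotientGroup.mk_one]
  · intro g e he
    induction g using QuotientGroup.induction_on with
    | _ g =>
      set gY : Hd E p := ⟨φ g, hmap g⟩
      have hy : φ g * t e * (φ g)⁻¹ ∈ Dd E p := M.conj_mem gY (ht e he)
      have he' : ρ (g : H ⧸ N) * e * (ρ (g : H ⧸ N))⁻¹ = phi π (φ g * t e * (φ g)⁻¹) := by
        rw [hρ, hσ]
        exact ((M.phi_conj gY (ht e he)).trans (by rw [hte e he])).symm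
      have hmem' : ρ (g : H ⧸ N) * e * (ρ (g : H ⧸ N))⁻¹ ∈ E' := he' ▸ M.mem hy
      rw [← QuotientGroup.mk_mul, ← QuotientGroup.mk_inv, ← QuotientGroup.mk_mul]
      congr 1
      refine Subtype.ext ?_
      rw [Subgroup.coe_mul, Subgroup.coe_mul, Subgroup.coe_inv, hℓ e he, h.lift_conj hx₁ _ (ht e he).1,
        hℓ _ hmem']
      congr 1
      exact M.inj hy (ht _ hmem') ((hte _ hmem').trans he').symm
  · intro l hnd hlen hl hcl hprod
    set T0 := (l.map t).toFinset with hT0
    have hinj : ∀ x ∈ l, ∀ y ∈ l, t x = t y → x = y := fun x hx y hy e => by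
      rw [← hte x (hl x hx), ← hte y (hl y hy), e]
    have hnd' : (l.map t).Nodup := hnd.map_on hinj
    have hT0E : ∀ y ∈ T0, y ∈ Dd E p := fun y hy => by
      obtain ⟨x, hx, rfl⟩ := List.mem_map.1 (List.mem_toFinset.1 hy)
      exact ht x (hl x hx)
    have hT0c : ∀ y ∈ T0, ∀ z ∈ T0, Commute y z := fun y hy z hz => by
      obtain ⟨x, hx, rfl⟩ := List.mem_map.1 (List.mem_toFinset.1 hy)
      obtain ⟨x', hx', rfl⟩ := List.mem_map.1 (List.mem_toFinset.1 hz)
      rw [← M.comm (ht x (hl x hx)) (ht x' (hl x' hx')), hte x (hl x hx), hte x' (hl x' hx')]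
      exact hcl x hx x' hx'
    have hpT : p ∉ T0 := fun hh => (hT0E p hh).2.1 rfl
    have hcard : T0.card = l.length := by rw [hT0, List.toFinset_card_of_nodup hnd', List.length_map]
    obtain ⟨B', hB', hsub⟩ := hm.exists_base_containing (S := insert p T0)
      (by
        intro y hy
        rcases Finset.mem_insert.1 hy with k | hy
        exacts [k ▸ hp, (hT0E y hy).1])
      (by
        intro y hy z hz
        rcases Finset.mem_insert.1 hy with k | hy <;> rcases Finset.mem_insert.1 hz with k' | hz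
        exacts [by rw [k, k'], k.symm ▸ (hT0E z hz).2.2, k'.symm ▸ (hT0E y hy).2.2.symm, hT0c y hy z hz])
      (by rw [Finset.card_insert_of_notMem hpT, hcard]; rcases hlen with k | k <;> omega)
    have hpB : p ∈ B' := hsub (Finset.mem_insert_self _ _)
    have hTB : ↑T0 ⊆ B' := fun y hy => hsub (Finset.mem_insert_of_mem hy)
    have hl' : ((l.map ℓ).prod : Cd d) = sp φ x₁ T0 := by
      rw [h.sp_eq hx₁ hB' hTB, Finset.noncommProd_toFinset _ _ _ hnd', List.map_map]
      rw [show ((l.map ℓ).prod : Cd d) = ((l.map ℓ).map H.subtype).prod from map_list_prod H.subtype _, List.map_map]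
      exact congrArg List.prod (List.map_congr_left fun x hx => hℓ x (hl x hx))
    have hker : φ ((l.map ℓ).prod : Cd d) = 1 ∨ φ ((l.map ℓ).prod : Cd d) = p := by
      have h1 : σ (l.map ℓ).prod = 1 := by
        rw [map_list_prod, List.map_map, ← hprod]
        exact congrArg List.prod ((List.map_congr_left fun x hx => hσt x (hl x hx)).trans (List.map_id _))
      rw [hσ, M.base.ker, hcenp, Subgroup.mem_subgroupOf] at h1
      obtain ⟨i, hi⟩ := Subgroup.mem_zpowers_iff.1 h1
      replace hi : p ^ i = φ ((l.map ℓ).prod : Cd d) := hi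
      rcases Int.even_or_odd' i with ⟨j, rfl | rfl⟩
      · left; rw [← hi, zpow_mul, zpow_two, mul_self hm.set hp, one_zpow]
      · right; rw [← hi, zpow_add, zpow_mul, zpow_two, mul_self hm.set hp, one_zpow, one_mul, zpow_one]
    rw [hl'] at hker
    have hres : ((l.map ℓ).prod : Cd d) = 1 ∨ ((l.map ℓ).prod : Cd d) = Lp := by
      rw [hl']
      rcases hker with k | k
      · exact Or.inl (hall hB' T0 hTB k)
      · right
        have e := h.sp_insert hx₁ hB' hpB hTB hpT
        have := hall hB' (insert p T0) hsub (by rw [e, map_mul, himg p hp, k, mul_self hm.set hp])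
        rw [e] at this
        exact (inv_eq_of_mul_eq_one_right this).symm.trans (inv_eq_of_mul_eq_one_right hp2)
    rw [show l.map (fun e => ((ℓ e : H) : H ⧸ N)) = (l.map ℓ).map (QuotientGroup.mk' N) by
      rw [List.map_map]; rfl, ← map_list_prod, QuotientGroup.mk'_apply, QuotientGroup.eq_one_iff]
    rcases hres with k | k
    · rw [show (l.map ℓ).prod = 1 from Subtype.ext k]; exact one_mem _
    · rw [show (l.map ℓ).prod = zp from Subtype.ext k]; exact Subgroup.mem_zpowers _
  · rw [← QuotientGroup.mk_mul, show zd * zd = 1 from Subtype.ext h.dC_sq, QuotientGroup.mk_one]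
  · rw [hρ, hσ, M.base.ker, Subgroup.mem_center_iff]
    intro g
    refine Subtype.ext ?_
    show (g : Y) * φ (dC d) = φ (dC d) * g
    rw [h.map_dC, mul_one, one_mul]
  · intro e
    rcases hNmem zd ((QuotientGroup.eq_one_iff _).1 e) with k | k
    · exact h.dC_ne k
    · have := congrArg φ k
      rw [show ((zd : H) : Cd d) = dC d from rfl, h.map_dC, himg p hp] at this
      exact ne_one hm.set hp this.symm
  · intro g hg
    induction g using QuotientGroup.induction_on with
    | _ g =>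
      rw [hρ, hσ, M.base.ker, hcenp, Subgroup.mem_subgroupOf] at hg
      obtain ⟨i, hi⟩ := Subgroup.mem_zpowers_iff.1 hg
      replace hi : p ^ i = φ (g : Cd d) := hi
      have hcase : φ (g : Cd d) = φ 1 ∨ φ (g : Cd d) = φ Lp := by
        rw [map_one, himg p hp, ← hi]
        rcases Int.even_or_odd' i with ⟨j, rfl | rfl⟩
        · left; rw [zpow_mul, zpow_two, mul_self hm.set hp, one_zpow]
        · right; rw [zpow_add, zpow_mul, zpow_two, mul_self hm.set hp, one_zpow, one_mul, zpow_one]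
      rcases hcase with k | k
      · rcases h.same k.symm with e | e
        · left; rw [show g = 1 from Subtype.ext e, QuotientGroup.mk_one]
        · right; rw [one_mul] at e; rw [show g = zd from Subtype.ext e]
      · rcases h.same k.symm with e | e
        · left; rw [show g = zp from Subtype.ext e]
          exact (QuotientGroup.eq_one_iff _).2 (Subgroup.mem_zpowers _)
        · right
          rw [show g = zp * zd from Subtype.ext e, QuotientGroup.mk_mul,
            (QuotientGroup.eq_one_iff zp).2 (Subgroup.mem_zpowers _), one_mul]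
  · have hall' : ∀ k : H, (k : H ⧸ N) ∈ Subgroup.closure ((fun e => (ℓ e : H ⧸ N)) '' E') := by
      rintro ⟨k, hk⟩
      induction hk using Subgroup.closure_induction with
      | mem y hy =>
        obtain ⟨b, hb, hc, rfl⟩ := hy
        by_cases e : b = p
        · subst e
          rw [(QuotientGroup.eq_one_iff _).2 (show (⟨lift φ x₁ b, _⟩ : H) ∈ N from Subgroup.mem_zpowers zp)]
          exact one_mem _
        · have hbD : b ∈ Dd E p := ⟨hb, e, hc⟩
          have he := M.mem hbD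
          refine Subgroup.subset_closure ⟨phi π b, he, ?_⟩
          show ((ℓ (phi π b) : H) : H ⧸ N) = _
          congr 1
          refine Subtype.ext ?_
          rw [hℓ _ he, M.inj (ht _ he) hbD (hte _ he)]
      | one => exact one_mem _
      | mul u w _ _ hu hw => exact mul_mem hu hw
      | inv u _ hu => exact inv_mem hu
    exact hall' zd

end CfsgLib.ThreeTrans.FiCent23
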