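import Mathlib
import Cfsg.Agent.Lib.ThreeTrans.FiCent23.Rels

/-! The elementary abelian subgroup over a base in the double cover: its elements fall into kinds by the size of
a set of members, its order is 2^11, and every elementary abelian subgroup of that order is conjugate to it. -/

set_option autoImplicit false
set_option linter.unusedSectionVars false

namespace CfsgLib.ThreeTrans.FiCent23

open CfsgLib.ThreeTrans CfsgLib.ThreeTrans.Tower CfsgLib.ThreeTrans.TypeTop
open scoped symmDiff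

universe u v

variable {G : Type u} [Group G] {Y : Type v} [Group Y] [Finite Y]

/-- A base in the cover, with a class of lifts. -/
structure Fr (d : G) (φ : Cd d →* Y) (E : Set Y) (x₀ : Cd d) (B : Finset Y) : Prop where
  cov : Cov d φ E
  seed : φ x₀ ∈ E
  base : IsBase22 E (↑B : Set Y)

/-- The central factor selected by a bit. -/
def bit (d : G) (e : Bool) : Cd d := if e then dC d else 1

/-- An element of the subgroup over a base, from a bit and a set of members. -/
noncomputable def el {d : G} (φ : Cd d →* Y) (x₀ : Cd d) (e : Bool) (S : Finset Y) : Cd d :=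
  sp φ x₀ S * bit d e

/-- The preimage of the subgroup generated by a base. -/
def AA {d : G} (φ : Cd d →* Y) (B : Finset Y) : Subgroup (Cd d) := (Subgroup.closure (↑B : Set Y)).comap φ

/-- The same subgroup inside the group. -/
def Agrp {d : G} (φ : Cd d →* Y) (B : Finset Y) : Subgroup G := (AA φ B).map (Cd d).subtype

variable {d : G} {φ : Cd d →* Y} {E : Set Y} {x₀ : Cd d} {B : Finset Y}

namespace Fr

variable (h : Fr d φ E x₀ B)
include h

theorem cB {S : Finset Y} (hS : S ⊆ B) : (↑S : Set Y) ⊆ ↑B := Finset.coe_subset.2 hS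

theorem subE {a : Y} (ha : a ∈ B) : a ∈ E := h.base.sub ha

theorem bit_mul (e e' : Bool) : bit d e * bit d e' = bit d (xor e e') := by
  cases e <;> cases e' <;> simp [bit, h.cov.dC_sq]

theorem map_bit (e : Bool) : φ (bit d e) = 1 := by cases e <;> simp [bit, h.cov.map_dC]

theorem bit_comm (g : Cd d) (e : Bool) : Commute g (bit d e) := by
  cases e
  · exact Commute.one_right g
  · exact h.cov.cen g

theorem map_el (e : Bool) (S : Finset Y) : φ (el φ x₀ e S) = φ (sp φ x₀ S) := by
  rw [el, map_mul, h.map_bit, mul_one]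

theorem el_mul [DecidableEq Y] {e e' : Bool} {S T : Finset Y} (hS : S ⊆ B) (hT : T ⊆ B) :
    el φ x₀ e S * el φ x₀ e' T = el φ x₀ (xor e e') (S ∆ T) := by
  simp only [el]
  rw [h.cov.sp_symmDiff h.seed h.base (h.cB hS) (h.cB hT), ← h.bit_mul e e',
    show sp φ x₀ S * bit d e * (sp φ x₀ T * bit d e') = sp φ x₀ S * (bit d e * sp φ x₀ T) * bit d e' by
      simp [mul_assoc], ← (h.bit_comm (sp φ x₀ T) e).eq]
  simp [mul_assoc]

theorem el_sq {e : Bool} {S : Finset Y} (hS : S ⊆ B) : el φ x₀ e S * el φ x₀ e S = 1 := by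
  classical
  rw [h.el_mul hS hS, symmDiff_self, Finset.bot_eq_empty, el, h.cov.sp_empty h.seed h.base, one_mul,
    Bool.xor_self]
  rfl

theorem el_comm {e e' : Bool} {S T : Finset Y} (hS : S ⊆ B) (hT : T ⊆ B) :
    Commute (el φ x₀ e S) (el φ x₀ e' T) := by
  classical
  show _ * _ = _ * _
  rw [h.el_mul hS hT, h.el_mul hT hS, symmDiff_comm, Bool.xor_comm]

theorem el_empty (e : Bool) : el φ x₀ e ∅ = bit d e := by rw [el, h.cov.sp_empty h.seed h.base, one_mul]

theorem el_one : el φ x₀ false (∅ : Finset Y) = 1 := h.el_empty false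

theorem el_dC : el φ x₀ true (∅ : Finset Y) = dC d := h.el_empty true

theorem el_single {a : Y} (ha : a ∈ B) : el φ x₀ false {a} = lift φ x₀ a := by
  rw [el, h.cov.sp_single h.seed h.base (Finset.mem_coe.2 ha)]
  exact mul_one _

theorem el_conj [DecidableEq Y] (g : Cd d) {B' : Finset Y} (hB' : IsBase22 E (↑B' : Set Y)) {e : Bool}
    {S : Finset Y} (hS : S ⊆ B) (him : cj (φ g) '' ↑B = ↑B') :
    g * el φ x₀ e S * g⁻¹ = el φ x₀ e (S.image (cj (φ g))) := by
  simp only [el]
  rw [← h.cov.sp_conj h.seed h.base g hB' (h.cB hS) him,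
    show g * (sp φ x₀ S * bit d e) * g⁻¹ = g * sp φ x₀ S * (bit d e * g⁻¹) by simp [mul_assoc],
    ← (h.bit_comm g⁻¹ e).eq]
  simp [mul_assoc]

variable [Finite G]

/-- A relation of a set in the base: it is empty, or large. -/
theorem rel_small {e e' : Bool} {S T : Finset Y} [DecidableEq Y] (hS : S ⊆ B) (hT : T ⊆ B)
    (he : φ (el φ x₀ e S) = φ (el φ x₀ e' T)) : S = T ∨ 6 ≤ (S ∆ T).card := by
  by_cases k : (S ∆ T).Nonempty
  · right
    by_contra hlt
    have hST : S ∆ T ⊆ B := fun x hx => (Finset.mem_symmDiff.1 hx).elim (fun a => hS a.1) fun a => hT a.1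
    refine h.cov.no_rel_small h.seed h.base (h.cB hST) k (by omega) ?_
    rw [h.map_el, h.map_el] at he
    rw [h.cov.sp_symmDiff h.seed h.base (h.cB hS) (h.cB hT), map_mul, he, ← map_mul,
      h.cov.sp_sq h.seed h.base (h.cB hT), map_one]
  · left
    rw [Finset.not_nonempty_iff_eq_empty, ← Finset.bot_eq_empty, symmDiff_eq_bot] at k
    exact k

/-- The product of six members with product one is the central involution. -/
theorem six_dC [DecidableEq Y] {U : Finset Y} (hU : U ⊆ B) (h6 : U.card = 6) (hr : φ (sp φ x₀ U) = 1) :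
    sp φ x₀ U = dC d := by
  obtain ⟨a, b, c, ha, hb, hc, nab, nac, nbc⟩ := Finset.two_lt_card_iff.1 (by omega : 2 < U.card)
  rw [h.cov.rel_six h.seed h.base (h.cB hU) h6 hr ha hb hc nab nac nbc]
  exact h.cov.hex_lift h.seed h.base (hU ha) (hU hb) (hU hc)
    (triple_of_base h.base (hU ha) (hU hb) (hU hc) nab nac nbc)

/-- Two short forms of one element. -/
theorem el_inj {e e' : Bool} {S T : Finset Y} (hS : S ⊆ B) (hT : T ⊆ B) (cS : S.card ≤ 3) (cT : T.card ≤ 3)
    (he : el φ x₀ e S = el φ x₀ e' T) :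
    (e = e' ∧ S = T) ∨ (e' = !e ∧ S.card = 3 ∧ T.card = 3 ∧ Disjoint S T) := by
  classical
  rcases h.rel_small hS hT (congrArg φ he) with rfl | h6
  · left
    refine ⟨?_, rfl⟩
    simp only [el] at he
    have := mul_left_cancel he
    cases e <;> cases e' <;> first | rfl | exact absurd this h.cov.dC_ne | exact absurd this.symm h.cov.dC_ne
  · right
    have hu := Finset.card_le_card (show S ∆ T ⊆ S ∪ T from fun x hx => by
      rcases Finset.mem_symmDiff.1 hx with k | k <;> simp [k.1])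
    have hi := Finset.card_union_add_card_inter S T
    have hdisj : Disjoint S T := Finset.disjoint_iff_inter_eq_empty.2 (Finset.card_eq_zero.1 (by omega))
    refine ⟨?_, by omega, by omega, hdisj⟩
    have hU : S ∆ T ⊆ B := fun x hx => (Finset.mem_symmDiff.1 hx).elim (fun a => hS a.1) fun a => hT a.1
    have h1 : el φ x₀ (xor e e') (S ∆ T) = 1 := by rw [← h.el_mul hS hT, he, h.el_sq hT]
    have hr : φ (sp φ x₀ (S ∆ T)) = 1 := by rw [← h.map_el (xor e e'), h1, map_one]
    rw [el, h.six_dC hU (by omega) hr] at h1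
    cases e <;> cases e' <;> first | rfl | (exfalso; refine h.cov.dC_ne ?_; simpa [bit] using h1)

theorem mul_self_closure {y : Y} (hy : y ∈ Subgroup.closure (↑B : Set Y)) :
    y * y = 1 ∧ ∀ b ∈ B, Commute y b := by
  induction hy using Subgroup.closure_induction with
  | mem z hz => exact ⟨mul_self h.cov.m22.set (h.base.sub hz), fun b hb => h.base.comm z hz b hb⟩
  | one => exact ⟨one_mul 1, fun b _ => Commute.one_left b⟩
  | mul p q _ hq' hp hq =>
    refine ⟨mul_sq_one hp.1 hq.1 ?_, fun b hb => (hp.2 b hb).mul_left (hq.2 b hb)⟩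
    have hle : Subgroup.closure (↑B : Set Y) ≤ Subgroup.centralizer ({p} : Set Y) :=
      (Subgroup.closure_le _).2 fun b hb => Subgroup.mem_centralizer_singleton_iff.2 (hp.2 b hb).eq.symm
    exact ((Subgroup.mem_centralizer_singleton_iff.1 (hle hq')) : q * p = p * q).symm
  | inv p _ hp => exact ⟨by rw [← mul_inv_rev, hp.1, inv_one], fun b hb => (hp.2 b hb).inv_left⟩

theorem el_mem {e : Bool} {S : Finset Y} (hS : S ⊆ B) : el φ x₀ e S ∈ AA φ B := by
  classical
  show φ (el φ x₀ e S) ∈ Subgroup.closure (↑B : Set Y)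
  rw [h.map_el, h.cov.sp_eq h.seed h.base (h.cB hS), Finset.map_noncommProd]
  exact Subgroup.noncommProd_mem _ _ fun a ha => by
    rw [h.cov.map_lift h.seed (h.subE (hS ha))]; exact Subgroup.subset_closure (hS ha)

theorem mem_AA {x : Cd d} : x ∈ AA φ B ↔ ∃ e S, S ⊆ B ∧ S.card ≤ 3 ∧ x = el φ x₀ e S := by
  classical
  constructor
  · intro hx
    obtain ⟨hsq, hcm⟩ := h.mul_self_closure hx
    obtain ⟨S, hS, hc, hφ⟩ : ∃ S, S ⊆ B ∧ S.card ≤ 3 ∧ φ x = φ (sp φ x₀ S) := by
      rcases h.cov.m22.centralizing h.base hsq (fun b hb => hcm b hb) with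
        k | k | ⟨a, ha, b, hb, nab, k⟩ | ⟨a, ha, b, hb, c, hc, nab, nac, nbc, k⟩
      · exact ⟨∅, by simp, by simp, by rw [k, h.cov.sp_empty h.seed h.base, map_one]⟩
      · exact ⟨{φ x}, by simpa using k, by simp,
          by rw [h.cov.sp_single h.seed h.base k, h.cov.map_lift h.seed (h.base.sub k)]⟩
      · refine ⟨{a, b}, by simp [Finset.insert_subset_iff, Finset.mem_coe.1 ha, Finset.mem_coe.1 hb],
          (Finset.card_le_two).trans (by norm_num), ?_⟩
        rw [k, h.cov.sp_pair h.seed h.base ha hb nab, map_mul, h.cov.map_lift h.seed (h.base.sub ha),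
          h.cov.map_lift h.seed (h.base.sub hb)]
      · exact ⟨{a, b, c},
          by simp [Finset.insert_subset_iff, Finset.mem_coe.1 ha, Finset.mem_coe.1 hb, Finset.mem_coe.1 hc],
          Finset.card_le_three, by rw [k, h.cov.map_triple h.seed h.base ha hb hc nab nac nbc]⟩
    rcases h.cov.same hφ.symm with k | k
    · exact ⟨false, S, hS, hc, k.trans (mul_one _).symm⟩
    · exact ⟨true, S, hS, hc, k⟩
  · rintro ⟨e, S, hS, -, rfl⟩
    exact h.el_mem hS

omit h in
theorem mem_Agrp {x : G} : x ∈ Agrp φ B ↔ ∃ y ∈ AA φ B, (y : G) = x := Iff.rfl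

theorem mem_A {x : G} : x ∈ Agrp φ B ↔ ∃ e S, S ⊆ B ∧ S.card ≤ 3 ∧ x = (el φ x₀ e S : G) := by
  rw [mem_Agrp]
  constructor
  · rintro ⟨y, hy, rfl⟩
    obtain ⟨e, S, hS, hc, rfl⟩ := h.mem_AA.1 hy
    exact ⟨e, S, hS, hc, rfl⟩
  · rintro ⟨e, S, hS, hc, rfl⟩
    exact ⟨_, h.el_mem hS, rfl⟩

theorem A_elementary : Cfsg.IsElementaryAbelian 2 (Agrp φ B) := by
  refine ⟨⟨⟨?_⟩⟩, fun x hx => ?_⟩
  · rintro ⟨x, hx⟩ ⟨y, hy⟩
    obtain ⟨e, S, hS, -, rfl⟩ := h.mem_A.1 hx
    obtain ⟨e', T, hT, -, rfl⟩ := h.mem_A.1 hy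
    exact Subtype.ext (congrArg (fun z : Cd d => (z : G)) (h.el_comm (e := e) (e' := e') hS hT).eq)
  · obtain ⟨e, S, hS, -, rfl⟩ := h.mem_A.1 hx
    rw [pow_two]
    exact congrArg Subtype.val (h.el_sq hS)

/-- The subgroup has order 2^11. -/
theorem card_AA : Nat.card (AA φ B) = 2 ^ 11 := by
  classical
  have := Fintype.ofFinite (Cd d)
  have hcardB : B.card = 22 := by rw [← Set.ncard_coe_finset, h.base.card]
  let K : ℕ → Bool → Finset (Cd d) := fun k e => (B.powersetCard k).image (el φ x₀ e)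
  have hK : ∀ k, k ≤ 3 → ∀ e, (K k e).card = (22).choose k := fun k hk e => by
    rw [Finset.card_image_of_injOn, Finset.card_powersetCard, hcardB]
    intro S hS T hT k'
    rw [Finset.mem_coe, Finset.mem_powersetCard] at hS hT
    rcases h.el_inj hS.1 hT.1 (by omega) (by omega) k' with ⟨-, r⟩ | ⟨r, -⟩
    · exact r
    · cases e <;> simp at r
  have hdis : ∀ k k' e e', k ≤ 3 → k' ≤ 3 → (k, e) ≠ (k', e') → k ≠ 3 ∨ k' ≠ 3 → Disjoint (K k e) (K k' e') := by
    intro k k' e e' hk hk' hne h3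
    refine Finset.disjoint_left.2 fun x hx hx' => ?_
    simp only [K, Finset.mem_image, Finset.mem_powersetCard] at hx hx'
    obtain ⟨S, ⟨hS, cS⟩, rfl⟩ := hx
    obtain ⟨T, ⟨hT, cT⟩, k''⟩ := hx'
    rcases h.el_inj hS hT (by omega) (by omega) k''.symm with ⟨rfl, rfl⟩ | ⟨-, r1, r2, -⟩
    · exact hne (by rw [← cS, cT])
    · omega
  have hT : ∀ S ∈ B.powersetCard 3, el φ x₀ true S ∈ K 3 false := by
    intro S hS
    rw [Finset.mem_powersetCard] at hS
    obtain ⟨a, b, c, nab, nac, nbc, rfl⟩ := Finset.card_eq_three.1 hS.2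
    simp only [Finset.insert_subset_iff, Finset.singleton_subset_iff] at hS
    obtain ⟨⟨ha, hb, hc⟩, -⟩ := hS
    have t := triple_of_base h.base ha hb hc nab nac nbc
    have hH : hexF E a b c ⊆ B := Finset.coe_subset.1 (h.cov.hexF_sub h.seed h.base ha hb hc)
    have hsub : ({a, b, c} : Finset Y) ⊆ B := by simp [Finset.insert_subset_iff, ha, hb, hc]
    obtain ⟨m1, m2, m3⟩ := Data22.mem_hex t.1 t.2.1 t.2.2.1 (D := E)
    have hle : ({a, b, c} : Finset Y) ⊆ hexF E a b c := by
      simp [Finset.insert_subset_iff, mem_hexF, m1, m2, m3]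
    refine Finset.mem_image.2 ⟨hexF E a b c \ {a, b, c}, Finset.mem_powersetCard.2
      ⟨Finset.sdiff_subset.trans hH, by rw [Finset.card_sdiff_of_subset hle, h.cov.m22.card_hexF t]; simp [nab, nac, nbc]⟩, ?_⟩
    rw [← symmDiff_of_le hle, el, el, h.cov.sp_symmDiff h.seed h.base (h.cB hsub) (h.cB hH),
      h.cov.hex_lift h.seed h.base ha hb hc t]
    simp [bit]
  let U := K 0 false ∪ K 0 true ∪ (K 1 false ∪ K 1 true) ∪ (K 2 false ∪ K 2 true) ∪ K 3 false
  have hU : ∀ x, x ∈ AA φ B ↔ x ∈ U := by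
    intro x
    rw [h.mem_AA]
    constructor
    · rintro ⟨e, S, hS, hc, rfl⟩
      have hm : el φ x₀ e S ∈ K S.card e :=
        Finset.mem_image_of_mem _ (Finset.mem_powersetCard.2 ⟨hS, rfl⟩)
      simp only [U, Finset.mem_union]
      rcases (by omega : S.card = 0 ∨ S.card = 1 ∨ S.card = 2 ∨ S.card = 3) with k | k | k | k <;>
        rw [k] at hm <;> cases e <;> try tauto
      exact Or.inr (hT S (Finset.mem_powersetCard.2 ⟨hS, k⟩))
    · intro hx
      obtain ⟨k, e, hk, hm⟩ : ∃ k e, k ≤ 3 ∧ x ∈ K k e := by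
        simp only [U, Finset.mem_union] at hx
        rcases hx with (((q | q) | (q | q)) | (q | q)) | q <;> exact ⟨_, _, by norm_num, q⟩
      simp only [K, Finset.mem_image, Finset.mem_powersetCard] at hm
      obtain ⟨S, ⟨hS, hc⟩, rfl⟩ := hm
      exact ⟨e, S, hS, hc ▸ hk, rfl⟩
  rw [show Nat.card (AA φ B) = U.card from by
    rw [← Set.ncard_coe_finset, ← Nat.card_coe_set_eq]
    exact Nat.card_congr (Equiv.setCongr (Set.ext hU))]
  have d0 := hdis 0 0 false true (by norm_num) (by norm_num) (by simp) (by norm_num)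
  have d1 := hdis 1 1 false true (by norm_num) (by norm_num) (by simp) (by norm_num)
  have d2 := hdis 2 2 false true (by norm_num) (by norm_num) (by simp) (by norm_num)
  simp only [U]
  rw [Finset.card_union_of_disjoint, Finset.card_union_of_disjoint, Finset.card_union_of_disjoint,
    Finset.card_union_of_disjoint d0, Finset.card_union_of_disjoint d1, Finset.card_union_of_disjoint d2]
  · simp only [hK _ (by norm_num : 0 ≤ 3), hK _ (by norm_num : 1 ≤ 3), hK _ (by norm_num : 2 ≤ 3), hK _ le_rfl]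
    norm_num [Nat.choose]
  all_goals simp only [Finset.disjoint_union_left, Finset.disjoint_union_right]
  all_goals repeat' constructor
  all_goals exact hdis _ _ _ _ (by norm_num) (by norm_num) (by simp) (by norm_num)

theorem card_A : Nat.card (Agrp φ B) = 2 ^ 11 := by
  rw [Agrp, Subgroup.card_map_of_injective (Cd d).subtype_injective, h.card_AA]

theorem card_closure : Nat.card (Subgroup.closure (↑B : Set Y)) = 2 ^ 10 := by
  have hker : Nat.card φ.ker = 2 := by
    rw [← SetLike.coe_sort_coe, Nat.card_coe_set_eq, Set.ncard_eq_two]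
    refine ⟨1, dC d, fun k => h.cov.dC_ne k.symm, Set.ext fun g => ?_⟩
    show φ g = 1 ↔ _
    rw [h.cov.ker]
    rfl
  have h1 := Subgroup.card_mul_index (AA φ B)
  have h2 := Subgroup.card_mul_index (Subgroup.closure (↑B : Set Y))
  have h3 := Subgroup.card_mul_index φ.ker
  rw [h.card_AA, AA, Subgroup.index_comap_of_surjective _ h.cov.surj, ← h3, hker, Subgroup.index_ker,
    MonoidHom.range_eq_top.2 h.cov.surj, Subgroup.card_top, ← h2] at h1
  set i := (Subgroup.closure (↑B : Set Y)).index with hi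
  have : 0 < i := Nat.pos_of_ne_zero Subgroup.index_ne_zero_of_finite
  exact Nat.eq_of_mul_eq_mul_right this (by omega)

end Fr

end CfsgLib.ThreeTrans.FiCent23
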