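import Mathlib
import Cfsg.Agent.Lib.ThreeTrans.FiCent23.Kinds
import Cfsg.Agent.Lib.TransLinear.Twist

/-! The normaliser of the subgroup over a base: it controls fusion of the given involution into the subgroup,
and its stabiliser of that involution moves the sets of members of each size transitively. -/

set_option autoImplicit false
set_option linter.unusedSectionVars false

namespace CfsgLib.ThreeTrans.FiCent23

open CfsgLib.ThreeTrans CfsgLib.ThreeTrans.Tower CfsgLib.ThreeTrans.TypeTop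
open scoped symmDiff

universe u v

variable {G : Type u} [Group G] [Finite G] {Y : Type v} [Group Y] [Finite Y]
  {d : G} {φ : Cd d →* Y} {E : Set Y} {x₀ : Cd d} {B : Finset Y}

theorem mem_normalizer_of {H : Subgroup G} {n : G} (hn : ∀ x ∈ H, cj n x ∈ H) :
    n ∈ Subgroup.normalizer (H : Set G) := by
  refine Subgroup.mem_normalizer_iff.2 fun x => ⟨hn x, fun hx => ?_⟩
  have himg : cj n '' (H : Set G) = H := Set.eq_of_subset_of_ncard_le (by rintro _ ⟨y, hy, rfl⟩; exact hn y hy)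
    (by rw [Set.ncard_image_of_injective _ (cj_inj n)]) (Set.toFinite _)
  obtain ⟨y, hy, e⟩ : n * x * n⁻¹ ∈ cj n '' (H : Set G) := by rw [himg]; exact hx
  rwa [cj_inj n (a₁ := y) (a₂ := x) e] at hy

namespace Fr

variable (h : Fr d φ E x₀ B)
include h

theorem dd_mem : d ∈ Agrp φ B := h.mem_A.2 ⟨true, ∅, by simp, by simp, by rw [h.el_dC]; rfl⟩

/-- An element of the centraliser preserving the base normalises the subgroup. -/
theorem norm_of_base {g : Cd d} (hg : cj (φ g) '' (↑B : Set Y) = ↑B) :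
    (g : G) ∈ Subgroup.normalizer (Agrp φ B : Set G) := by
  classical
  refine mem_normalizer_of fun x hx => ?_
  obtain ⟨e, S, hS, hc, rfl⟩ := h.mem_A.1 hx
  refine h.mem_A.2 ⟨e, S.image (cj (φ g)), ?_, Finset.card_image_le.trans hc, ?_⟩
  · intro y hy
    obtain ⟨z, hz, rfl⟩ := Finset.mem_image.1 hy
    exact Finset.mem_coe.1 (hg ▸ Set.mem_image_of_mem _ (Finset.mem_coe.2 (hS hz)))
  · rw [← h.el_conj g h.base hS hg]
    rfl

/-- An element of the centraliser normalising the subgroup preserves the base. -/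
theorem base_of_norm {g : Cd d} (hg : (g : G) ∈ Subgroup.normalizer (Agrp φ B : Set G)) :
    cj (φ g) '' (↑B : Set Y) = ↑B := by
  refine Set.eq_of_subset_of_ncard_le ?_ (by rw [Set.ncard_image_of_injective _ (cj_inj _)]) (Set.toFinite _)
  rintro _ ⟨b, hb, rfl⟩
  have h1 : (lift φ x₀ b : G) ∈ Agrp φ B :=
    h.mem_A.2 ⟨false, {b}, by simpa using hb, by simp, by rw [h.el_single hb]⟩
  obtain ⟨y, hy, e⟩ := mem_Agrp.1 ((Subgroup.mem_normalizer_iff.1 hg _).1 h1)
  have e' : y = g * lift φ x₀ b * g⁻¹ := Subtype.ext e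
  obtain ⟨-, hcm⟩ := h.mul_self_closure (show φ y ∈ Subgroup.closure (↑B : Set Y) from hy)
  rw [e', h.cov.surj_conj, h.cov.map_lift h.seed (h.base.sub hb)] at hcm
  exact h.base.maximal (h.cov.m22.closed.conj _ b (h.base.sub hb)) fun x hx => hcm x hx

theorem conj_el [DecidableEq Y] {g : Cd d} (hg : cj (φ g) '' (↑B : Set Y) = ↑B) {e : Bool} {S : Finset Y}
    (hS : S ⊆ B) : cj (g : G) (el φ x₀ e S : G) = (el φ x₀ e (S.image (cj (φ g))) : G) := by
  rw [← h.el_conj g h.base hS hg]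
  rfl

/-- The stabiliser of the base is transitive on ordered triples of its members. -/
theorem perm3 {a b c a' b' c' : Y} (ha : a ∈ B) (hb : b ∈ B) (hc : c ∈ B) (nab : a ≠ b) (nac : a ≠ c) (nbc : b ≠ c)
    (ha' : a' ∈ B) (hb' : b' ∈ B) (hc' : c' ∈ B) (nab' : a' ≠ b') (nac' : a' ≠ c') (nbc' : b' ≠ c') :
    ∃ g : Cd d, cj (φ g) '' (↑B : Set Y) = ↑B ∧ cj (φ g) a = a' ∧ cj (φ g) b = b' ∧ cj (φ g) c = c' := by
  obtain ⟨y, e1, e2, e3, e4⟩ := h.cov.m22.triples_conj h.base h.base (triple_of_base h.base ha hb hc nab nac nbc)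
    ha hb hc (triple_of_base h.base ha' hb' hc' nab' nac' nbc') ha' hb' hc'
  obtain ⟨g, rfl⟩ := h.cov.surj y
  exact ⟨g, e4, e1, e2, e3⟩

theorem exists_ne2 {a b : Y} : ∃ c ∈ B, a ≠ c ∧ b ≠ c := by
  classical
  obtain ⟨c, hc, hn⟩ := Finset.exists_mem_notMem_of_card_lt_card (s := ({a, b} : Finset Y)) (t := B)
    (lt_of_le_of_lt Finset.card_le_two (by rw [← Set.ncard_coe_finset B, h.base.card]; norm_num))
  simp only [Finset.mem_insert, Finset.mem_singleton, not_or] at hn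
  exact ⟨c, hc, Ne.symm hn.1, Ne.symm hn.2⟩

/-- The stabiliser of the base is transitive on ordered pairs of its members. -/
theorem perm2 {a b a' b' : Y} (ha : a ∈ B) (hb : b ∈ B) (nab : a ≠ b) (ha' : a' ∈ B) (hb' : b' ∈ B)
    (nab' : a' ≠ b') :
    ∃ g : Cd d, cj (φ g) '' (↑B : Set Y) = ↑B ∧ cj (φ g) a = a' ∧ cj (φ g) b = b' := by
  obtain ⟨c, hc, nac, nbc⟩ := h.exists_ne2 (a := a) (b := b)
  obtain ⟨c', hc', nac', nbc'⟩ := h.exists_ne2 (a := a') (b := b')
  obtain ⟨g, h0, h1, h2, -⟩ := h.perm3 ha hb hc nab nac nbc ha' hb' hc' nab' nac' nbc'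
  exact ⟨g, h0, h1, h2⟩

/-- The stabiliser of the base is transitive on its subsets of each small size. -/
theorem perm_set [DecidableEq Y] {S T : Finset Y} (hS : S ⊆ B) (hT : T ⊆ B) (hc : S.card = T.card) (h3 : S.card ≤ 3) :
    ∃ g : Cd d, cj (φ g) '' (↑B : Set Y) = ↑B ∧ S.image (cj (φ g)) = T := by
  rcases (by omega : S.card = 0 ∨ S.card = 1 ∨ S.card = 2 ∨ S.card = 3) with k | k | k | k
  · refine ⟨1, ?_, ?_⟩
    · ext y; simp [cj]
    · rw [Finset.card_eq_zero.1 k, Finset.card_eq_zero.1 (hc.symm.trans k)]; simp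
  · obtain ⟨a, rfl⟩ := Finset.card_eq_one.1 k
    obtain ⟨a', rfl⟩ := Finset.card_eq_one.1 (hc ▸ k)
    simp only [Finset.singleton_subset_iff] at hS hT
    obtain ⟨b, hb, nab, -⟩ := h.exists_ne2 (a := a) (b := a)
    obtain ⟨b', hb', nab', -⟩ := h.exists_ne2 (a := a') (b := a')
    obtain ⟨g, h0, h1, -⟩ := h.perm2 hS hb nab hT hb' nab'
    exact ⟨g, h0, by rw [Finset.image_singleton, h1]⟩
  · obtain ⟨a, b, nab, rfl⟩ := Finset.card_eq_two.1 k
    obtain ⟨a', b', nab', rfl⟩ := Finset.card_eq_two.1 (hc ▸ k)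
    simp only [Finset.insert_subset_iff, Finset.singleton_subset_iff] at hS hT
    obtain ⟨g, h0, h1, h2⟩ := h.perm2 hS.1 hS.2 nab hT.1 hT.2 nab'
    exact ⟨g, h0, by simp [Finset.image_insert, h1, h2]⟩
  · obtain ⟨a, b, c, nab, nac, nbc, rfl⟩ := Finset.card_eq_three.1 k
    obtain ⟨a', b', c', nab', nac', nbc', rfl⟩ := Finset.card_eq_three.1 (hc ▸ k)
    simp only [Finset.insert_subset_iff, Finset.singleton_subset_iff] at hS hT
    obtain ⟨g, h0, h1, h2, h3⟩ :=
      h.perm3 hS.1 hS.2.1 hS.2.2 nab nac nbc hT.1 hT.2.1 hT.2.2 nab' nac' nbc'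
    exact ⟨g, h0, by simp [Finset.image_insert, h1, h2, h3]⟩

/-- An elementary abelian subgroup of the centraliser of order 2^11 is a conjugate of the subgroup. -/
theorem elementary_conj {W : Subgroup G} (hW : W ≤ Cd d) (hel : Cfsg.IsElementaryAbelian 2 W)
    (hcard : Nat.card W = 2 ^ 11) : ∃ k : Cd d, ∀ x ∈ Agrp φ B, cj (k : G) x ∈ W := by
  classical
  set W' : Subgroup Y := (W.subgroupOf (Cd d)).map φ with hW'
  have hsq : ∀ y ∈ W', y ^ 2 = 1 := by
    rintro _ ⟨x, hx, rfl⟩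
    rw [← map_pow, show x ^ 2 = 1 from Subtype.ext (hel.2 (x : G) hx), map_one]
  have hW'el : Cfsg.IsElementaryAbelian 2 W' := by
    refine ⟨⟨⟨?_⟩⟩, hsq⟩
    rintro ⟨_, x, hx, rfl⟩ ⟨_, y, hy, rfl⟩
    have := hel.1
    exact Subtype.ext ((show Commute x y from
      Subtype.ext (setLike_mul_comm (s := W) (a := (x : G)) (b := (y : G)) hx hy)).map φ).eq
  obtain ⟨B₁, hB₁, hfix⟩ := h.cov.m22.exists_base_fixed (P := W')
    fun y => ⟨1, Subtype.ext (by rw [pow_one, SubgroupClass.coe_pow]; exact hsq y y.2)⟩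
  obtain ⟨y, hy⟩ := h.cov.m22.bases_conj h.base hB₁
  obtain ⟨k, rfl⟩ := h.cov.surj y
  set B' := B.image (cj (φ k)) with hB'
  have hcoe : (↑B' : Set Y) = B₁ := by rw [hB', Finset.coe_image, hy]
  have h' : Fr d φ E x₀ B' := ⟨h.cov, h.seed, hcoe.symm ▸ hB₁⟩
  have hle : W' ≤ Subgroup.closure B₁ := by
    by_contra hn
    have hlt := card_lt_base h.cov.m22.set hB₁ (fun x hx h1 => h.cov.m22.classify hx h1)
      (h.cov.m22.rel (by norm_num) (by norm_num)) hW'el
      (fun g hg b hb => hfix g hg ▸ Set.mem_image_of_mem (cj g) hb) hn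
    rw [← hcoe, h'.card_closure] at hlt
    have hker : Nat.card φ.ker ≤ 2 := by
      rw [← SetLike.coe_sort_coe, Nat.card_coe_set_eq]
      exact (Set.ncard_le_ncard (t := {1, dC d}) (fun g hg => (h.cov.ker g).1 hg) (Set.toFinite _)).trans
        ((Set.ncard_insert_le _ _).trans (by simp))
    have h1 : Nat.card (W.subgroupOf (Cd d)) = 2 ^ 11 := by
      rw [← hcard]; exact Nat.card_congr (Subgroup.subgroupOfEquivOfLe hW).toEquiv
    have h2 : Nat.card (W.subgroupOf (Cd d)) ≤ 2 * Nat.card W' := by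
      rw [← Subgroup.card_mul_index (φ.subgroupMap (W.subgroupOf (Cd d))).ker, Subgroup.index_ker,
        MonoidHom.range_eq_top.2 (φ.subgroupMap_surjective _), Subgroup.card_top]
      refine Nat.mul_le_mul (le_trans ?_ hker) le_rfl
      refine Nat.card_le_card_of_injective (fun x => ⟨x.1.1, congrArg Subtype.val x.2⟩) fun u v e => ?_
      exact Subtype.ext (Subtype.ext (congrArg Subtype.val e :))
    omega
  refine ⟨k, fun x hx => ?_⟩
  have hsub : W ≤ Agrp φ B' := fun w hw =>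
    mem_Agrp.2 ⟨⟨w, hW hw⟩, show φ _ ∈ _ from hcoe.symm ▸ hle ⟨⟨w, hW hw⟩, hw, rfl⟩, rfl⟩
  have heq : W = Agrp φ B' := Subgroup.eq_of_le_of_card_ge hsub (by rw [h'.card_A, hcard])
  obtain ⟨e, S, hS, hc, rfl⟩ := h.mem_A.1 hx
  rw [heq]
  refine h'.mem_A.2 ⟨e, S.image (cj (φ k)), Finset.image_subset_image hS, Finset.card_image_le.trans hc, ?_⟩
  rw [← h.el_conj k h'.base hS (by rw [hy, hcoe])]
  rfl

/-- The normaliser controls the fusion of the involution into the subgroup. -/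
theorem fusion {g : G} (hg : cj g d ∈ Agrp φ B) :
    ∃ n ∈ Subgroup.normalizer (Agrp φ B : Set G), cj n d = cj g d := by
  have := h.A_elementary.1
  set W := (Agrp φ B).map (MulAut.conj g⁻¹).toMonoidHom with hW
  have hWC : W ≤ Cd d := by
    rintro _ ⟨x, hx, rfl⟩
    refine Subgroup.mem_centralizer_singleton_iff.2 ?_
    have hc : Commute x (cj g d) := setLike_mul_comm hx hg
    have := (commute_conj_iff g⁻¹ x (cj g d)).2 hc
    rw [inv_inv, show g⁻¹ * cj g d * g = d by simp [cj, mul_assoc]] at this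
    simpa using this.eq
  have hWel : Cfsg.IsElementaryAbelian 2 W := by
    refine ⟨inferInstance, ?_⟩
    rintro _ ⟨x, hx, rfl⟩
    rw [← map_pow, h.A_elementary.2 x hx, map_one]
  obtain ⟨k, hk⟩ := h.elementary_conj hWC hWel
    (by rw [hW, Subgroup.card_map_of_injective (MulEquiv.injective _), h.card_A])
  refine ⟨g * k, mem_normalizer_of fun x hx => ?_, ?_⟩
  · obtain ⟨y, hy, e⟩ := hk x hx
    have e' : g⁻¹ * y * g = cj (k : G) x := by simpa using e
    rw [← cj_cj, ← e', show cj g (g⁻¹ * y * g) = y by simp [cj, mul_assoc]]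
    exact hy
  · rw [← cj_cj, show cj (k : G) d = d from mul_inv_eq_iff_eq_mul.2 (Subgroup.mem_centralizer_singleton_iff.1 k.2)]

/-- Every involution of the centraliser is conjugate into the subgroup. -/
theorem conj_into {x : Cd d} (hx : x * x = 1) : ∃ k : Cd d, k * x * k⁻¹ ∈ AA φ B := by
  classical
  obtain ⟨B₁, hB₁, hm⟩ : ∃ B₁, IsBase22 E B₁ ∧ φ x ∈ Subgroup.closure B₁ := by
    by_cases h1 : φ x = 1
    · exact ⟨↑B, h.base, h1 ▸ one_mem _⟩
    obtain ⟨n, hn1, hn3, hn⟩ := h.cov.m22.classify (by rw [← map_mul, hx, map_one]) h1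
    interval_cases n
    · have ha := isProd_one.1 hn
      obtain ⟨b, hb, nab, cab⟩ := h.cov.m22.exists_second ha
      obtain ⟨c, t⟩ := h.cov.m22.exists_third ha hb nab cab
      obtain ⟨B₁, hB₁, xa, -, -⟩ := h.cov.m22.exists_base_through t
      exact ⟨B₁, hB₁, Subgroup.subset_closure xa⟩
    · obtain ⟨a, ha, b, hb, e⟩ := isProd_two.1 hn
      obtain ⟨c, t⟩ := h.cov.m22.exists_third ha hb.1 (Ne.symm hb.2.1) hb.2.2
      obtain ⟨B₁, hB₁, xa, xb, -⟩ := h.cov.m22.exists_base_through t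
      exact ⟨B₁, hB₁, e.symm ▸ mul_mem (Subgroup.subset_closure xa) (Subgroup.subset_closure xb)⟩
    · obtain ⟨a, ha, b, hb, c, hc, e⟩ := isProd_three.1 hn
      obtain ⟨B₁, hB₁, xa, xb, xc⟩ := h.cov.m22.exists_base_through (a := a) (b := b) (c := c)
        ⟨ha, hb.1, hc.1.1, Ne.symm hb.2.1, Ne.symm hc.1.2.1, Ne.symm hc.2.2.1, hb.2.2, hc.1.2.2, hc.2.2.2⟩
      exact ⟨B₁, hB₁, e.symm ▸
        mul_mem (mul_mem (Subgroup.subset_closure xa) (Subgroup.subset_closure xb)) (Subgroup.subset_closure xc)⟩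
  obtain ⟨y, hy⟩ := h.cov.m22.bases_conj hB₁ h.base
  obtain ⟨k, rfl⟩ := h.cov.surj y
  refine ⟨k, ?_⟩
  show φ (k * x * k⁻¹) ∈ Subgroup.closure (↑B : Set Y)
  rw [h.cov.surj_conj, ← hy]
  exact (MonoidHom.map_closure (MulAut.conj (φ k)).toMonoidHom B₁).le ⟨_, hm, rfl⟩

end Fr

end CfsgLib.ThreeTrans.FiCent23
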