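import Mathlib
import Cfsg.Agent.Lib.ThreeTrans.FiCent23.Norm
import Cfsg.Agent.Lib.ThreeTrans.Tower.BasePairs

/-! The conjugates of the given involution in the subgroup over a base form a union of kinds and an orbit of its
normaliser; the sizes possible, and the orbital relation attached to a single member. -/

set_option autoImplicit false
set_option linter.unusedSectionVars false

namespace CfsgLib.ThreeTrans.FiCent23

open CfsgLib.ThreeTrans CfsgLib.ThreeTrans.Tower CfsgLib.ThreeTrans.TypeTop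
open scoped symmDiff

universe u v

variable {G : Type u} [Group G] {Y : Type v} [Group Y] [Finite Y]

/-- The conjugates of the involution in the subgroup over a base. -/
def Dl (d : G) (φ : Cd d →* Y) (B : Finset Y) : Set G := {x | x ∈ Agrp φ B ∧ IsConj d x}

/-- An element of the subgroup, inside the group. -/
noncomputable def eg {d : G} (φ : Cd d →* Y) (x₀ : Cd d) (e : Bool) (S : Finset Y) : G := (el φ x₀ e S : G)

/-- A kind of elements. -/
def KG {d : G} (φ : Cd d →* Y) (x₀ : Cd d) (B : Finset Y) (k : ℕ) (e : Bool) : Set G :=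
  {x | ∃ S, S ⊆ B ∧ S.card = k ∧ x = eg φ x₀ e S}

/-- The orbital of a pair through the involution, under the normaliser. -/
def Orb {d : G} (φ : Cd d →* Y) (B : Finset Y) (u x y : G) : Prop :=
  ∃ n ∈ Subgroup.normalizer (Agrp φ B : Set G), cj n d = x ∧ cj n u = y

/-- A kind consists of conjugates of the involution. -/
def Flag {d : G} (φ : Cd d →* Y) (x₀ : Cd d) (B : Finset Y) (k : ℕ) (e : Bool) : Prop :=
  ∀ S, S ⊆ B → S.card = k → eg φ x₀ e S ∈ Dl d φ B

theorem cj_mul' (n x y : G) : cj n (x * y) = cj n x * cj n y := by simp [cj, mul_assoc]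

theorem cj_one (x : G) : cj 1 x = x := by simp [cj]

variable {d : G} {φ : Cd d →* Y} {E : Set Y} {x₀ : Cd d} {B : Finset Y}

theorem cj_cd (g : Cd d) : cj (g : G) d = d :=
  mul_inv_eq_iff_eq_mul.2 (Subgroup.mem_centralizer_singleton_iff.1 g.2)

variable [Finite G]

namespace Fr

variable (h : Fr d φ E x₀ B)
include h

theorem card_B : B.card = 22 := by rw [← Set.ncard_coe_finset, h.base.card]

theorem eg_mul [DecidableEq Y] {e e' : Bool} {S T : Finset Y} (hS : S ⊆ B) (hT : T ⊆ B) :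
    eg φ x₀ e S * eg φ x₀ e' T = eg φ x₀ (xor e e') (S ∆ T) :=
  congrArg Subtype.val (h.el_mul hS hT)

theorem eg_true : eg φ x₀ true (∅ : Finset Y) = d := congrArg Subtype.val h.el_dC

theorem eg_false : eg φ x₀ false (∅ : Finset Y) = 1 := congrArg Subtype.val h.el_one

theorem eg_single {a : Y} (ha : a ∈ B) : eg φ x₀ false {a} = (lift φ x₀ a : G) :=
  congrArg Subtype.val (h.el_single ha)

theorem eg_inj {e e' : Bool} {S T : Finset Y} (hS : S ⊆ B) (hT : T ⊆ B) (cS : S.card ≤ 3) (cT : T.card ≤ 3)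
    (he : eg φ x₀ e S = eg φ x₀ e' T) :
    (e = e' ∧ S = T) ∨ (e' = !e ∧ S.card = 3 ∧ T.card = 3 ∧ Disjoint S T) :=
  h.el_inj hS hT cS cT (Subtype.ext he)

theorem eg_inj' {e e' : Bool} {S T : Finset Y} (hS : S ⊆ B) (hT : T ⊆ B) (cS : S.card ≤ 2) (cT : T.card ≤ 3)
    (he : eg φ x₀ e S = eg φ x₀ e' T) : e = e' ∧ S = T :=
  (h.eg_inj hS hT (by omega) cT he).resolve_right fun k => by omega

theorem d_mul [DecidableEq Y] {e : Bool} {S : Finset Y} (hS : S ⊆ B) : d * eg φ x₀ e S = eg φ x₀ (!e) S := by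
  have := h.eg_mul (e := true) (e' := e) (Finset.empty_subset B) hS
  rw [h.eg_true, show (∅ : Finset Y) ∆ S = S from by rw [← Finset.bot_eq_empty]; exact bot_symmDiff S] at this
  rw [this]
  simp

theorem d_mem : d ∈ Dl d φ B := ⟨h.dd_mem, IsConj.refl d⟩

theorem Dl_conj {n x : G} (hn : n ∈ Subgroup.normalizer (Agrp φ B : Set G)) (hx : x ∈ Dl d φ B) :
    cj n x ∈ Dl d φ B :=
  ⟨(Subgroup.mem_normalizer_iff.1 hn x).1 hx.1, hx.2.trans (isConj_iff.2 ⟨n, rfl⟩)⟩

theorem Dl_trans {x : G} (hx : x ∈ Dl d φ B) : ∃ n ∈ Subgroup.normalizer (Agrp φ B : Set G), cj n d = x := by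
  obtain ⟨g, rfl⟩ := isConj_iff.1 hx.2
  exact h.fusion hx.1

theorem Dl_cases {x : G} (hx : x ∈ Agrp φ B) : ∃ e S, S ⊆ B ∧ S.card ≤ 3 ∧ x = eg φ x₀ e S := h.mem_A.1 hx

theorem commA {x y : G} (hx : x ∈ Agrp φ B) (hy : y ∈ Agrp φ B) : Commute x y :=
  have := h.A_elementary.1
  setLike_mul_comm hx hy

theorem sqA {x : G} (hx : x ∈ Agrp φ B) : x * x = 1 := by rw [← pow_two]; exact h.A_elementary.2 x hx

theorem eg_mem {e : Bool} {S : Finset Y} (hS : S ⊆ B) : eg φ x₀ e S ∈ Agrp φ B :=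
  mem_Agrp.2 ⟨_, h.el_mem hS, rfl⟩

/-- A stabiliser element is the image of one of the centraliser. -/
theorem stab_lift {n : G} (hn : n ∈ Subgroup.normalizer (Agrp φ B : Set G)) (hd : cj n d = d) :
    ∃ g : Cd d, (g : G) = n ∧ cj (φ g) '' (↑B : Set Y) = ↑B := by
  have hg : n ∈ Cd d := Subgroup.mem_centralizer_singleton_iff.2 (mul_inv_eq_iff_eq_mul.1 hd)
  exact ⟨⟨n, hg⟩, rfl, h.base_of_norm (g := ⟨n, hg⟩) hn⟩

theorem flag_of {e : Bool} {S : Finset Y} (hS : S ⊆ B) (hc : S.card ≤ 3) (hx : eg φ x₀ e S ∈ Dl d φ B) :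
    Flag φ x₀ B S.card e := by
  classical
  intro T hT hTc
  obtain ⟨g, hg, hi⟩ := h.perm_set hS hT hTc.symm hc
  rw [← hi, ← show cj (g : G) (eg φ x₀ e S) = eg φ x₀ e (S.image (cj (φ g))) from h.conj_el hg hS]
  exact h.Dl_conj (h.norm_of_base hg) hx

/-- The complementary form of a triple. -/
theorem triple_flip {e : Bool} {S : Finset Y} (hS : S ⊆ B) (hc : S.card = 3) :
    ∃ T, T ⊆ B ∧ T.card = 3 ∧ eg φ x₀ e S = eg φ x₀ (!e) T := by
  classical
  obtain ⟨a, b, c, nab, nac, nbc, rfl⟩ := Finset.card_eq_three.1 hc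
  simp only [Finset.insert_subset_iff, Finset.singleton_subset_iff] at hS
  obtain ⟨ha, hb, hc'⟩ := hS
  have t := triple_of_base h.base ha hb hc' nab nac nbc
  have hH : hexF E a b c ⊆ B := Finset.coe_subset.1 (h.cov.hexF_sub h.seed h.base ha hb hc')
  have hsub : ({a, b, c} : Finset Y) ⊆ B := by simp [Finset.insert_subset_iff, ha, hb, hc']
  obtain ⟨m1, m2, m3⟩ := Data22.mem_hex t.1 t.2.1 t.2.2.1 (D := E)
  have hle : ({a, b, c} : Finset Y) ⊆ hexF E a b c := by simp [Finset.insert_subset_iff, mem_hexF, m1, m2, m3]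
  refine ⟨hexF E a b c \ {a, b, c}, Finset.sdiff_subset.trans hH,
    by rw [Finset.card_sdiff_of_subset hle, h.cov.m22.card_hexF t]; simp [nab, nac, nbc], ?_⟩
  have h1 : eg φ x₀ (!e) (hexF E a b c) = eg φ x₀ e ∅ := by
    refine congrArg Subtype.val (show el φ x₀ (!e) (hexF E a b c) = el φ x₀ e ∅ from ?_)
    rw [h.el_empty, el, h.cov.hex_lift h.seed h.base ha hb hc' t]
    cases e <;> simp [bit, h.cov.dC_sq]
  rw [← symmDiff_of_le hle]
  have h2 := h.eg_mul (e := false) (e' := !e) hsub hH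
  rw [h1, h.eg_mul hsub (Finset.empty_subset B), ← Finset.bot_eq_empty, symmDiff_bot] at h2
  simpa using h2

theorem flag_three {e : Bool} (hf : Flag φ x₀ B 3 e) : Flag φ x₀ B 3 (!e) := by
  intro S hS hc
  obtain ⟨T, hT, hTc, e1⟩ := h.triple_flip (e := !e) hS hc
  rw [e1, Bool.not_not]
  exact hf T hT hTc

theorem KG_card {k : ℕ} (hk : k ≤ 3) (e : Bool) : (KG φ x₀ B k e).ncard = (22).choose k := by
  classical
  rw [show KG φ x₀ B k e = ↑((B.powersetCard k).image (eg φ x₀ e)) from ?_, Set.ncard_coe_finset,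
    Finset.card_image_of_injOn, Finset.card_powersetCard, h.card_B]
  · intro S hS T hT k'
    rw [Finset.mem_coe, Finset.mem_powersetCard] at hS hT
    rcases h.eg_inj hS.1 hT.1 (by omega) (by omega) k' with ⟨-, r⟩ | ⟨r, -⟩
    · exact r
    · cases e <;> simp at r
  · ext x
    simp only [KG, Set.mem_ofPred_eq, Finset.coe_image, Set.mem_image, Finset.mem_coe, Finset.mem_powersetCard]
    exact ⟨fun ⟨S, h1, h2, h3⟩ => ⟨S, ⟨h1, h2⟩, h3.symm⟩, fun ⟨S, ⟨h1, h2⟩, h3⟩ => ⟨S, h1, h2, h3.symm⟩⟩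

theorem KG_disj {k k' : ℕ} {e e' : Bool} (hk : k ≤ 2) (hk' : k' ≤ 3) (hne : (k, e) ≠ (k', e')) :
    Disjoint (KG φ x₀ B k e) (KG φ x₀ B k' e') := by
  refine Set.disjoint_left.2 ?_
  rintro x ⟨S, hS, hSc, rfl⟩ ⟨T, hT, hTc, e1⟩
  obtain ⟨rfl, rfl⟩ := h.eg_inj' hS hT (by omega) (by omega) e1
  exact hne (by rw [← hSc, ← hTc])

/-- The number of conjugates of the involution in the subgroup, by flags. -/
theorem card_Dl : ∃ b c p q t : Bool,
    (b = true ↔ Flag φ x₀ B 1 false) ∧ (c = true ↔ Flag φ x₀ B 1 true) ∧ (p = true ↔ Flag φ x₀ B 2 false) ∧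
    (q = true ↔ Flag φ x₀ B 2 true) ∧ (t = true ↔ Flag φ x₀ B 3 false) ∧
    (Dl d φ B).ncard = 1 + 22 * b.toNat + 22 * c.toNat + 231 * p.toNat + 231 * q.toNat + 1540 * t.toNat := by
  classical
  refine ⟨decide (Flag φ x₀ B 1 false), decide (Flag φ x₀ B 1 true), decide (Flag φ x₀ B 2 false),
    decide (Flag φ x₀ B 2 true), decide (Flag φ x₀ B 3 false), decide_eq_true_iff, decide_eq_true_iff,
    decide_eq_true_iff, decide_eq_true_iff, decide_eq_true_iff, ?_⟩
  let P : ℕ → Bool → Set G := fun k e => if Flag φ x₀ B k e then KG φ x₀ B k e else ∅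
  have hP : ∀ k, k ≤ 3 → ∀ e, (P k e).ncard = (22).choose k * (decide (Flag φ x₀ B k e)).toNat := by
    intro k hk e
    by_cases hf : Flag φ x₀ B k e <;> simp [P, hf, h.KG_card hk e]
  have hPd : ∀ k k' e e', k ≤ 2 → k' ≤ 3 → (k, e) ≠ (k', e') → Disjoint (P k e) (P k' e') := by
    intro k k' e e' hk hk' hne
    simp only [P]
    split_ifs <;> first | exact h.KG_disj hk hk' hne | simp
  have heq : Dl d φ B = {d} ∪ P 1 false ∪ P 1 true ∪ P 2 false ∪ P 2 true ∪ P 3 false := by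
    refine Set.Subset.antisymm (fun x hx => ?_) ?_
    · obtain ⟨e, S, hS, hc, rfl⟩ := h.Dl_cases hx.1
      have hf := h.flag_of hS hc hx
      have hm : eg φ x₀ e S ∈ P S.card e := by
        simp only [P, if_pos hf]
        exact ⟨S, hS, rfl, rfl⟩
      simp only [Set.mem_union]
      rcases (by omega : S.card = 0 ∨ S.card = 1 ∨ S.card = 2 ∨ S.card = 3) with k | k | k | k
      · rw [Finset.card_eq_zero] at k
        subst k
        cases e
        · exfalso
          have := hx.2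
          rw [h.eg_false, isConj_one_left] at this
          exact h.cov.d_ne_one this
        · exact Or.inl (Or.inl (Or.inl (Or.inl (Or.inl h.eg_true))))
      all_goals rw [k] at hm
      · cases e <;> tauto
      · cases e <;> tauto
      · cases e
        · tauto
        · refine Or.inr ?_
          rw [k] at hf
          obtain ⟨T, hT, hTc, e1⟩ := h.triple_flip (e := true) hS k
          have hf3 : Flag φ x₀ B 3 false := h.flag_three hf
          simp only [P, if_pos hf3]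
          exact ⟨T, hT, hTc, e1⟩
    · have hsub : ∀ k e, P k e ⊆ Dl d φ B := by
        intro k e x hx
        by_cases hf : Flag φ x₀ B k e
        · simp only [P, if_pos hf] at hx
          obtain ⟨S, hS, hc, rfl⟩ := hx
          exact hf S hS hc
        · simp [P, if_neg hf] at hx
      simp only [Set.union_subset_iff, Set.singleton_subset_iff]
      exact ⟨⟨⟨⟨⟨h.d_mem, hsub 1 false⟩, hsub 1 true⟩, hsub 2 false⟩, hsub 2 true⟩, hsub 3 false⟩
  have hd0 : ∀ k, 1 ≤ k → k ≤ 3 → ∀ e, Disjoint ({d} : Set G) (P k e) := by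
    intro k h1 h3 e
    refine Set.disjoint_singleton_left.2 fun hd => ?_
    simp only [P] at hd
    split_ifs at hd with hf
    · obtain ⟨S, hS, hc, e1⟩ := hd
      have := (h.eg_inj' (Finset.empty_subset B) hS (by simp) (by omega) (h.eg_true.trans e1)).2
      rw [← this, Finset.card_empty] at hc
      omega
    · exact hd
  rw [heq, Set.ncard_union_eq, Set.ncard_union_eq, Set.ncard_union_eq, Set.ncard_union_eq, Set.ncard_union_eq,
    Set.ncard_singleton, hP 1 (by norm_num), hP 1 (by norm_num), hP 2 (by norm_num), hP 2 (by norm_num),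
    hP 3 le_rfl]
  · norm_num [Nat.choose]
  all_goals (try simp only [Set.disjoint_union_left])
  all_goals repeat' apply And.intro
  all_goals first
    | exact hd0 _ (by norm_num) (by norm_num) _
    | exact hPd _ _ _ _ (by norm_num) (by norm_num) (by simp)

/-- The number of conjugates times the number of ordered triples divides the order of GL(11, 2). -/
theorem card_dvd : (Dl d φ B).ncard * 9240 ∣ ∏ i : Fin 11, (2 ^ 11 - 2 ^ (i : ℕ)) := by
  classical
  let A := Agrp φ B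
  let iC : CommGroup A :=
    { (inferInstance : Group A) with mul_comm := fun x y => Subtype.ext (h.commA x.2 y.2).eq }
  rw [← CfsgLib.TransLinear.card_mulAut_elementary (W := A) (k := 11) h.card_A
    fun x => Subtype.ext (h.sqA x.2)]
  set N := Subgroup.normalizer (A : Set G) with hN
  let T : Set (Y × Y × Y) :=
    {p | p.1 ∈ (↑B : Set Y) ∧ p.2.1 ∈ (↑B : Set Y) \ {p.1} ∧ p.2.2 ∈ (↑B : Set Y) \ {p.1, p.2.1}}
  have hT : T.ncard = 9240 := ordered_triples_card h.cov.m22 h.base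
  let L : Y → A := fun a => if ha : a ∈ B then ⟨eg φ x₀ false {a}, h.eg_mem (by simpa using ha)⟩ else 1
  let pt : Y × Y × Y → Fin 4 → A := fun p => ![⟨d, h.dd_mem⟩, L p.1, L p.2.1, L p.2.2]
  obtain ⟨a, b, c, ha, hb, hc, t⟩ := h.cov.m22.exists_triple h.base
  have htT : (a, b, c) ∈ T := ⟨ha, ⟨hb, Ne.symm t.2.2.2.1⟩, hc, by
    simp [Ne.symm t.2.2.2.2.1, Ne.symm t.2.2.2.2.2.1]⟩
  let R : Subgroup (MulAut A) := A.normalizerMonoidHom.range
  let act : N → (Fin 4 → A) → (Fin 4 → A) := fun n f i => A.normalizerMonoidHom n (f i)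
  have hact : ∀ n : N, ∀ x : A, (A.normalizerMonoidHom n x : G) = cj (n : G) x := fun n x => rfl
  let O : Set (Fin 4 → A) := Set.range fun n : N => act n (pt (a, b, c))
  have hO : O.ncard = (Dl d φ B).ncard * 9240 := by
    choose n hn hnd using fun x : Dl d φ B => h.Dl_trans x.2
    let F : (Dl d φ B) × T → Fin 4 → A := fun p => act ⟨n p.1, hn p.1⟩ (pt p.2)
    have hF : Function.Injective F := by
      rintro ⟨x, p, hp⟩ ⟨y, q, hq⟩ k
      have k0 := congrArg (fun z : A => (z : G)) (congrFun k 0)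
      simp only [F, act, hact, pt, Matrix.cons_val_zero, hnd] at k0
      obtain rfl : x = y := Subtype.ext k0
      have inj : ∀ i, pt p i = pt q i := fun i => (A.normalizerMonoidHom ⟨n x, hn x⟩).injective (congrFun k i)
      have hL : ∀ u v, u ∈ B → v ∈ B → L u = L v → u = v := fun u v hu hv k' => by
        simp only [L, dif_pos hu, dif_pos hv, Subtype.mk.injEq] at k'
        simpa using (h.eg_inj' (by simpa using hu) (by simpa using hv) (by simp) (by simp) k').2
      refine Prod.ext rfl (Subtype.ext (Prod.ext (hL _ _ hp.1 hq.1 ?_) (Prod.ext (hL _ _ hp.2.1.1 hq.2.1.1 ?_)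
        (hL _ _ hp.2.2.1 hq.2.2.1 ?_))))
      exacts [inj 1, inj 2, inj 3]
    have hrange : Set.range F = O := by
      refine Set.Subset.antisymm ?_ ?_
      · rintro _ ⟨⟨x, p, hp⟩, rfl⟩
        obtain ⟨g, hg, g1, g2, g3⟩ := h.perm3 ha hb hc t.2.2.2.1 t.2.2.2.2.1 t.2.2.2.2.2.1 hp.1 hp.2.1.1 hp.2.2.1
          (Ne.symm hp.2.1.2) (Ne.symm (fun e => hp.2.2.2 (Or.inl e))) (Ne.symm (fun e => hp.2.2.2 (Or.inr e)))
        refine ⟨⟨n x * g, N.mul_mem (hn x) (h.norm_of_base hg)⟩, funext fun i => Subtype.ext ?_⟩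
        simp only [F, act, hact, ← cj_cj]
        refine congrArg (cj (n x)) ?_
        fin_cases i
        · exact cj_cd g
        all_goals
          simp only [pt, L, dif_pos (Finset.mem_coe.1 ha), dif_pos (Finset.mem_coe.1 hb),
            dif_pos (Finset.mem_coe.1 hc), dif_pos (Finset.mem_coe.1 hp.1), dif_pos (Finset.mem_coe.1 hp.2.1.1),
            dif_pos (Finset.mem_coe.1 hp.2.2.1)]
          refine (h.conj_el hg (Finset.singleton_subset_iff.2 ?_)).trans ?_
          · assumption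
          · simp [Finset.image_singleton, g1, g2, g3, eg]
      · rintro _ ⟨m, rfl⟩
        set x : Dl d φ B := ⟨cj (m : G) d, h.Dl_conj m.2 h.d_mem⟩ with hx
        obtain ⟨g, hgm, hg⟩ := h.stab_lift (n := (n x)⁻¹ * m) (N.mul_mem (N.inv_mem (hn x)) m.2) (by
          rw [← cj_cj, show cj (m : G) d = cj (n x) d from (hnd x).symm, cj_cj, inv_mul_cancel, cj_one])
        have hmem : ∀ u ∈ B, cj (φ g) u ∈ B := fun u hu =>
          Finset.mem_coe.1 (hg ▸ Set.mem_image_of_mem _ (Finset.mem_coe.2 hu))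
        have hpT : (cj (φ g) a, cj (φ g) b, cj (φ g) c) ∈ T := ⟨hmem a ha,
          ⟨hmem b hb, fun e => t.2.2.2.1 (cj_inj _ e).symm⟩, hmem c hc, by
            rintro (e | e)
            exacts [t.2.2.2.2.1 (cj_inj _ e).symm, t.2.2.2.2.2.1 (cj_inj _ e).symm]⟩
        refine ⟨(x, ⟨_, hpT⟩), funext fun i => Subtype.ext ?_⟩
        simp only [F, act, hact]
        rw [show (m : G) = n x * (g : G) by rw [hgm, mul_inv_cancel_left], ← cj_cj]
        refine congrArg (cj (n x)) ?_
        fin_cases i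
        · exact (cj_cd g).symm
        all_goals
          simp only [pt, L, dif_pos (Finset.mem_coe.1 ha), dif_pos (Finset.mem_coe.1 hb),
            dif_pos (Finset.mem_coe.1 hc), dif_pos (hmem a ha), dif_pos (hmem b hb), dif_pos (hmem c hc)]
          refine Eq.trans ?_ (h.conj_el hg (Finset.singleton_subset_iff.2 ?_)).symm
          · simp [Finset.image_singleton, eg]
          · assumption
    rw [← hrange, Set.ncard_range_of_injective hF, Nat.card_prod, Nat.card_coe_set_eq, Nat.card_coe_set_eq, hT]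
  have horb : MulAction.orbit R (pt (a, b, c)) = O := by
    ext f
    constructor
    · rintro ⟨⟨_, n, rfl⟩, rfl⟩
      exact ⟨n, rfl⟩
    · rintro ⟨n, rfl⟩
      exact ⟨⟨_, n, rfl⟩, rfl⟩
  refine dvd_trans ?_ (Subgroup.card_subgroup_dvd_card R)
  rw [← hO, ← horb, ← Nat.card_coe_set_eq, ← Nat.card_congr (MulAction.orbitProdStabilizerEquivGroup R (pt (a, b, c))),
    Nat.card_prod]
  exact dvd_mul_right _ _

theorem orb_conj {u x y n : G} (hn : n ∈ Subgroup.normalizer (Agrp φ B : Set G)) (ho : Orb φ B u x y) :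
    Orb φ B u (cj n x) (cj n y) := by
  obtain ⟨m, hm, rfl, rfl⟩ := ho
  exact ⟨n * m, mul_mem hn hm, (cj_cj n m d).symm, (cj_cj n m u).symm⟩

theorem orb_mem {u x y : G} (hu : u ∈ Dl d φ B) (ho : Orb φ B u x y) : x ∈ Dl d φ B ∧ y ∈ Dl d φ B := by
  obtain ⟨m, hm, rfl, rfl⟩ := ho
  exact ⟨h.Dl_conj hm h.d_mem, h.Dl_conj hm hu⟩

theorem orb_flip {e : Bool} {a : Y} (ha : a ∈ B) {x y : G} (ho : Orb φ B (eg φ x₀ e {a}) x y) :
    Orb φ B (eg φ x₀ (!e) {a}) x (x * y) := by
  classical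
  obtain ⟨m, hm, rfl, rfl⟩ := ho
  exact ⟨m, hm, rfl, by rw [← cj_mul', h.d_mul (by simpa using ha)]⟩

/-- The suborbit of a single member. -/
theorem orb_at_d {e : Bool} {a : Y} (ha : a ∈ B) :
    {y | Orb φ B (eg φ x₀ e {a}) d y} = KG φ x₀ B 1 e := by
  classical
  ext y
  constructor
  · rintro ⟨m, hm, hd, rfl⟩
    obtain ⟨g, rfl, hg⟩ := h.stab_lift hm hd
    refine ⟨({a} : Finset Y).image (cj (φ g)), ?_, by simp, h.conj_el hg (by simpa using ha)⟩
    simp only [Finset.image_singleton, Finset.singleton_subset_iff]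
    exact Finset.mem_coe.1 (hg ▸ Set.mem_image_of_mem _ (Finset.mem_coe.2 ha))
  · rintro ⟨S, hS, hc, rfl⟩
    obtain ⟨g, hg, hi⟩ := h.perm_set (S := ({a} : Finset Y)) (by simpa using ha) hS (by simp [hc]) (by simp)
    exact ⟨g, h.norm_of_base hg, cj_cd g, hi ▸ h.conj_el hg (by simpa using ha)⟩

theorem card_out {e : Bool} {a : Y} (ha : a ∈ B) {x : G} (hx : x ∈ Dl d φ B) :
    {y | Orb φ B (eg φ x₀ e {a}) x y}.ncard = 22 := by
  obtain ⟨n, hn, rfl⟩ := h.Dl_trans hx
  rw [show {y | Orb φ B (eg φ x₀ e {a}) (cj n d) y} = cj n '' {y | Orb φ B (eg φ x₀ e {a}) d y} from ?_,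
    Set.ncard_image_of_injective _ (cj_inj n), h.orb_at_d ha, h.KG_card (by norm_num)]
  · rfl
  ext y
  constructor
  · intro ho
    refine ⟨cj n⁻¹ y, ?_, by rw [cj_cj, mul_inv_cancel, cj_one]⟩
    have := h.orb_conj (inv_mem hn) ho
    rwa [cj_cj, inv_mul_cancel, cj_one] at this
  · rintro ⟨z, hz, rfl⟩
    exact h.orb_conj hn hz

theorem orb_disj {e : Bool} {a : Y} (ha : a ∈ B) {x y : G} (h1 : Orb φ B (eg φ x₀ e {a}) x y)
    (h2 : Orb φ B (eg φ x₀ (!e) {a}) x y) : False := by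
  obtain ⟨m, hm, rfl, rfl⟩ := h1
  have := h.orb_conj (inv_mem hm) h2
  rw [cj_cj, cj_cj, inv_mul_cancel, cj_one, cj_one] at this
  exact Set.disjoint_left.1 (h.KG_disj (k := 1) (k' := 1) (e := e) (e' := !e) (by norm_num) (by norm_num)
    (by cases e <;> simp)) ⟨{a}, by simpa using ha, by simp, rfl⟩ (h.orb_at_d ha ▸ this)

/-- The reverse suborbit of a single member is one of the kinds of single members. -/
theorem exists_in {e : Bool} {a : Y} (ha : a ∈ B) (hu : eg φ x₀ e {a} ∈ Dl d φ B) :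
    ∃ f, ∀ b ∈ B, Orb φ B (eg φ x₀ e {a}) (eg φ x₀ f {b}) d := by
  classical
  set u := eg φ x₀ e {a} with hu'
  set I := {x | x ∈ Dl d φ B ∧ Orb φ B u x d} with hI
  have hI22 : I.ncard = 22 := by
    have hq : ∀ y ∈ Dl d φ B, {x | x ∈ Dl d φ B ∧ Orb φ B u x y}.ncard = I.ncard := by
      intro y hy
      obtain ⟨n, hn, rfl⟩ := h.Dl_trans hy
      rw [show {x | x ∈ Dl d φ B ∧ Orb φ B u x (cj n d)} = cj n '' I from ?_,
        Set.ncard_image_of_injective _ (cj_inj n)]
      ext x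
      constructor
      · rintro ⟨hx, ho⟩
        refine ⟨cj n⁻¹ x, ⟨h.Dl_conj (inv_mem hn) hx, ?_⟩, by rw [cj_cj, mul_inv_cancel, cj_one]⟩
        have := h.orb_conj (inv_mem hn) ho
        rwa [cj_cj _ _ d, inv_mul_cancel, cj_one] at this
      · rintro ⟨z, ⟨hz, ho⟩, rfl⟩
        exact ⟨h.Dl_conj hn hz, h.orb_conj hn ho⟩
    have := count_eq (Dl d φ B) (Dl d φ B) (Orb φ B u) (p := 22) (fun x hx => by
      rw [show {y | y ∈ Dl d φ B ∧ Orb φ B u x y} = {y | Orb φ B u x y} from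
        Set.ext fun y => ⟨fun k => k.2, fun k => ⟨(h.orb_mem hu k).2, k⟩⟩]
      exact h.card_out ha hx) hq
    have hpos : 0 < (Dl d φ B).ncard := (Set.ncard_pos (Set.toFinite _)).2 ⟨d, h.d_mem⟩
    exact (Nat.eq_of_mul_eq_mul_left hpos this).symm
  have hcl : ∀ e' S T, S ⊆ B → T ⊆ B → S.card = T.card → S.card ≤ 3 → eg φ x₀ e' S ∈ I → eg φ x₀ e' T ∈ I := by
    intro e' S T hS hT hc h3 hx
    obtain ⟨g, hg, hi⟩ := h.perm_set hS hT hc h3
    have hn := h.norm_of_base hg
    have e1 : cj (g : G) (eg φ x₀ e' S) = eg φ x₀ e' T := hi ▸ h.conj_el hg hS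
    exact ⟨e1 ▸ h.Dl_conj hn hx.1, by have := h.orb_conj hn hx.2; rwa [e1, cj_cd] at this⟩
  obtain ⟨x, hx⟩ := Set.nonempty_of_ncard_ne_zero (by rw [hI22]; norm_num : I.ncard ≠ 0)
  obtain ⟨f, S, hS, hS3, rfl⟩ := h.Dl_cases hx.1.1
  have hle : (22).choose S.card ≤ 22 := by
    rw [← h.KG_card hS3 f, ← hI22]
    refine Set.ncard_le_ncard ?_ (Set.toFinite _)
    rintro y ⟨T, hT, hTc, rfl⟩
    exact hcl f S T hS hT hTc.symm hS3 hx
  have hS1 : S.card = 1 := by
    rcases (by omega : S.card = 0 ∨ S.card = 1 ∨ S.card = 2 ∨ S.card = 3) with k | k | k | k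
    · exfalso
      rw [Finset.card_eq_zero] at k
      subst k
      cases f
      · have := hx.1.2
        rw [h.eg_false, isConj_one_left] at this
        exact h.cov.d_ne_one this
      · obtain ⟨m, hm, m1, m2⟩ := hx.2
        rw [h.eg_true] at m1
        have := cj_inj m (m2.trans m1.symm)
        rw [← h.eg_true, hu'] at this
        exact absurd (h.eg_inj' (by simpa using ha) (Finset.empty_subset B) (by simp) (by simp) this).2 (by simp)
    · exact k
    all_goals rw [k] at hle; norm_num [Nat.choose] at hle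
  exact ⟨f, fun b hb => (hcl f S {b} hS (by simpa using hb) (by simp [hS1]) hS3 hx).2⟩

end Fr

end CfsgLib.ThreeTrans.FiCent23
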