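import Mathlib
import Cfsg.Agent.Lib.ThreeTrans.FiCent23.Orbital

/-! The conjugates of the given involution in the subgroup over a base are itself and the lifts of the members
in one of the two classes: every other union of kinds contradicts the orbital of a single member. -/

set_option autoImplicit false
set_option linter.unusedSectionVars false

namespace CfsgLib.ThreeTrans.FiCent23

open CfsgLib.ThreeTrans CfsgLib.ThreeTrans.Tower CfsgLib.ThreeTrans.TypeTop
open scoped symmDiff

universe u v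

/-- The possible flag patterns. -/
theorem flag_options : ∀ b c p q t : Bool,
    (1 + 22 * b.toNat + 22 * c.toNat + 231 * p.toNat + 231 * q.toNat + 1540 * t.toNat) * 9240 ∣
      ∏ i : Fin 11, (2 ^ 11 - 2 ^ (i : ℕ)) →
    (b = false ∧ c = false → p = false ∧ q = false ∧ t = false) ∧
    (b = true ∧ c = false → t = false ∧ (p = false ∨ q = false)) ∧
    (b = true ∧ c = true → (t = false ∧ (p = false ∨ q = false)) ∨ (p = true ∧ q = true ∧ t = true)) := by
  decide +kernel

variable {G : Type u} [Group G] [Finite G] {Y : Type v} [Group Y] [Finite Y]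
  {d : G} {φ : Cd d →* Y} {E : Set Y} {x₀ : Cd d} {B : Finset Y}

theorem pair_sdiff [DecidableEq Y] {a b : Y} (nab : a ≠ b) :
    ({a} : Finset Y) ∆ {b} = {a, b} := by
  ext x; simp only [Finset.mem_symmDiff, Finset.mem_singleton, Finset.mem_insert]; grind

namespace Fr

variable (h : Fr d φ E x₀ B)
include h

theorem sub1 {a : Y} (ha : a ∈ B) : ({a} : Finset Y) ⊆ B := Finset.singleton_subset_iff.2 ha

theorem sub2 [DecidableEq Y] {a b : Y} (ha : a ∈ B) (hb : b ∈ B) : ({a, b} : Finset Y) ⊆ B :=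
  Finset.insert_subset ha (h.sub1 hb)

theorem sub3 [DecidableEq Y] {a b c : Y} (ha : a ∈ B) (hb : b ∈ B) (hc : c ∈ B) : ({a, b, c} : Finset Y) ⊆ B :=
  Finset.insert_subset ha (h.sub2 hb hc)

theorem three_notMem (ht : ¬ Flag φ x₀ B 3 false) {e : Bool} {S : Finset Y} (hS : S ⊆ B) (hc : S.card = 3) :
    eg φ x₀ e S ∉ Dl d φ B := by
  intro hm
  have hf := h.flag_of hS hc.le hm
  rw [hc] at hf
  cases e
  · exact ht hf
  · exact ht (h.flag_three hf)

theorem one_notMem {x : G} (hx : x ∈ Dl d φ B) : x ≠ 1 := fun e => by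
  have := hx.2
  rw [e, isConj_one_left] at this
  exact h.cov.d_ne_one this

/-- Members of the class in the subgroup, when triples are absent. -/
theorem Dl_small (ht : ¬ Flag φ x₀ B 3 false) {x : G} (hx : x ∈ Dl d φ B) :
    x = d ∨ (∃ e, ∃ a ∈ B, x = eg φ x₀ e {a} ∧ Flag φ x₀ B 1 e) ∨
      ∃ e, ∃ S, S ⊆ B ∧ S.card = 2 ∧ x = eg φ x₀ e S ∧ Flag φ x₀ B 2 e := by
  obtain ⟨e, S, hS, hc, rfl⟩ := h.Dl_cases hx.1
  have hf := h.flag_of hS hc hx
  rcases (by omega : S.card = 0 ∨ S.card = 1 ∨ S.card = 2 ∨ S.card = 3) with k | k | k | k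
  · rw [Finset.card_eq_zero] at k
    subst k
    cases e
    · exact absurd h.eg_false (h.one_notMem hx)
    · exact Or.inl h.eg_true
  · obtain ⟨a, rfl⟩ := Finset.card_eq_one.1 k
    exact Or.inr (Or.inl ⟨e, a, by simpa using hS, rfl, k ▸ hf⟩)
  · exact Or.inr (Or.inr ⟨e, S, hS, k, rfl, k ▸ hf⟩)
  · exact absurd hx (h.three_notMem ht hS k)

/-- Multiplying by the involution preserves no member unless two kinds of one size are both present. -/
theorem d_mul_mem (ht : ¬ Flag φ x₀ B 3 false) {y : G} (hy : y ∈ Dl d φ B) (hdy : d * y ∈ Dl d φ B) :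
    ∃ k, ∃ e, y ∈ KG φ x₀ B k e ∧ (k = 1 ∨ k = 2) ∧ Flag φ x₀ B k false ∧ Flag φ x₀ B k true := by
  classical
  rcases h.Dl_small ht hy with rfl | ⟨e, a, ha, rfl, hf⟩ | ⟨e, S, hS, hc, rfl, hf⟩
  · exact absurd (h.sqA h.dd_mem) (h.one_notMem hdy)
  · rw [h.d_mul (h.sub1 ha)] at hdy
    have hf' := h.flag_of (h.sub1 ha) (by simp) hdy
    rw [Finset.card_singleton] at hf'
    refine ⟨1, e, ⟨_, h.sub1 ha, Finset.card_singleton a, rfl⟩, Or.inl rfl, ?_⟩
    cases e
    exacts [⟨hf, hf'⟩, ⟨hf', hf⟩]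
  · rw [h.d_mul hS] at hdy
    have hf' := h.flag_of hS (by omega) hdy
    rw [hc] at hf'
    refine ⟨2, e, ⟨_, hS, hc, rfl⟩, Or.inr rfl, ?_⟩
    cases e
    exacts [⟨hf, hf'⟩, ⟨hf', hf⟩]

theorem exists_member : ∃ a, a ∈ B := Finset.card_pos.1 (by rw [h.card_B]; norm_num)

/-- Some conjugate of the involution other than itself lies in the subgroup. -/
theorem exists_other : ∃ x ∈ Dl d φ B, x ≠ d := by
  obtain ⟨g, hgC, hgne⟩ := h.cov.nwc
  have hsq : (⟨g * d * g⁻¹, hgC⟩ : Cd d) * ⟨g * d * g⁻¹, hgC⟩ = 1 := Subtype.ext (by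
    show g * d * g⁻¹ * (g * d * g⁻¹) = 1
    rw [show g * d * g⁻¹ * (g * d * g⁻¹) = g * (d * d) * g⁻¹ by group, h.cov.dd, mul_one, mul_inv_cancel])
  obtain ⟨k, hk⟩ := h.conj_into hsq
  refine ⟨cj (k : G) (g * d * g⁻¹), ⟨mem_Agrp.2 ⟨_, hk, rfl⟩,
    (isConj_iff.2 ⟨g, rfl⟩ : IsConj d (g * d * g⁻¹)).trans (isConj_iff.2 ⟨k, rfl⟩)⟩, fun e => hgne ?_⟩
  exact cj_inj (k : G) (e.trans (cj_cd k).symm)

/-- Both single kinds with symmetric orbital are impossible. -/
theorem not_symm {a : Y} (ha : a ∈ B) (hb : Flag φ x₀ B 1 false) (hc : Flag φ x₀ B 1 true) :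
    Orb φ B (eg φ x₀ false {a}) (eg φ x₀ true {a}) d ∧ Orb φ B (eg φ x₀ true {a}) (eg φ x₀ false {a}) d := by
  classical
  obtain ⟨f, hf⟩ := h.exists_in ha (hb _ (h.sub1 ha) (by simp))
  obtain ⟨f', hf'⟩ := h.exists_in ha (hc _ (h.sub1 ha) (by simp))
  have e1 := hf a ha
  have e2 := hf' a ha
  have hne : f ≠ f' := fun e => by subst e; exact h.orb_disj ha e1 e2
  cases f <;> cases f'
  · exact absurd rfl hne
  · exfalso
    have hsym : ∀ {x y}, Orb φ B (eg φ x₀ false {a}) x y → Orb φ B (eg φ x₀ false {a}) y x := by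
      rintro x y ⟨m, hm, rfl, rfl⟩
      have := h.orb_conj hm e1
      exact this
    have e3 := h.orb_flip ha e2
    have e4 := h.orb_flip ha e1
    rw [Bool.not_true, (h.commA (h.eg_mem (h.sub1 ha)) h.dd_mem).eq, h.d_mul (h.sub1 ha), Bool.not_true] at e3
    rw [Bool.not_false, (h.commA (h.eg_mem (h.sub1 ha)) h.dd_mem).eq, h.d_mul (h.sub1 ha), Bool.not_false] at e4
    exact h.orb_disj ha (hsym e3) e4
  · exact ⟨e1, e2⟩
  · exact absurd rfl hne

/-- An orbital of a member joins distinct points. -/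
theorem out_ne {e : Bool} {a : Y} (ha : a ∈ B) {x y : G} (ho : Orb φ B (eg φ x₀ e {a}) x y) : x ≠ y := by
  obtain ⟨m, hm, rfl, rfl⟩ := ho
  intro k
  have := h.eg_true.trans (cj_inj m k)
  exact absurd (h.eg_inj' (Finset.empty_subset B) (h.sub1 ha) (by simp) (by simp) this).2 (by simp)

/-- Two lifts cannot have product in the class if only one single kind is present. -/
theorem not_pair_one (hnt : ¬ Flag φ x₀ B 3 false) (hb : Flag φ x₀ B 1 false) (hnc : ¬ Flag φ x₀ B 1 true)
    (hpP : Flag φ x₀ B 2 false) (hnq : ¬ Flag φ x₀ B 2 true) : False := by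
  classical
  have hdmul : ∀ y ∈ Dl d φ B, d * y ∉ Dl d φ B := fun y hy hdy => by
    obtain ⟨k, e, -, rfl | rfl, k1, k2⟩ := h.d_mul_mem hnt hy hdy
    exacts [hnc k2, hnq k2]
  obtain ⟨a, ha⟩ := h.exists_member
  set u := eg φ x₀ false {a} with hu
  have huD : u ∈ Dl d φ B := hb _ (h.sub1 ha) (by simp)
  obtain ⟨b', hb'', nab, -⟩ := h.exists_ne2 (a := a) (b := a)
  have hb2 : eg φ x₀ false {b'} ∈ Dl d φ B := hb _ (h.sub1 hb'') (by simp)
  obtain ⟨n, hn, e⟩ := h.Dl_trans huD
  have h2 := h.Dl_conj (inv_mem hn) hb2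
  refine hdmul _ h2 ?_
  have := h.Dl_conj (inv_mem hn) (show u * eg φ x₀ false {b'} ∈ Dl d φ B by
    rw [hu, h.eg_mul (h.sub1 ha) (h.sub1 hb''), pair_sdiff nab]
    exact hpP _ (h.sub2 ha hb'') (by simp [nab]))
  rwa [cj_mul', ← e, cj_cj, inv_mul_cancel, cj_one] at this

/-- The lifts of pairs times the involution cannot join a single kind alone. -/
theorem not_pair_one' (hnt : ¬ Flag φ x₀ B 3 false) (hb : Flag φ x₀ B 1 false) (hnc : ¬ Flag φ x₀ B 1 true)
    (hpP : ¬ Flag φ x₀ B 2 false) (hqQ : Flag φ x₀ B 2 true) : False := by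
  classical
  obtain ⟨a, ha⟩ := h.exists_member
  set u := eg φ x₀ false {a} with hu
  have huD : u ∈ Dl d φ B := hb _ (h.sub1 ha) (by simp)
  have houtd : ∀ {y}, Orb φ B u d y → y ∈ KG φ x₀ B 1 false := fun {y} ho =>
    (h.orb_at_d ha).le (show y ∈ {z | Orb φ B u d z} from ho)
  have hout22 : ∀ {x}, x ∈ Dl d φ B → {y | Orb φ B u x y}.ncard = 22 := fun hx => h.card_out ha hx
  have houtne : ∀ {x y}, Orb φ B u x y → x ≠ y := fun ho => h.out_ne ha ho
  have hrule : ∀ {x y z}, Orb φ B u x y → Orb φ B u x z → y ≠ z → x * y * z ∈ Dl d φ B := by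
    rintro x y z ⟨m, hm, rfl, rfl⟩ hz hne
    have hz' := h.orb_conj (inv_mem hm) hz
    rw [cj_cj, inv_mul_cancel, cj_one] at hz'
    obtain ⟨S, hS, hSc, e⟩ := houtd hz'
    obtain ⟨w, rfl⟩ := Finset.card_eq_one.1 hSc
    have naw : a ≠ w := fun k => hne (by
      subst k
      rw [← hu] at e
      rw [← e, cj_cj, mul_inv_cancel, cj_one])
    have key : d * u * cj m⁻¹ z ∈ Dl d φ B := by
      rw [e, mul_assoc, hu, h.eg_mul (h.sub1 ha) hS, pair_sdiff naw,
        h.d_mul (h.sub2 ha (by simpa using hS))]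
      exact hqQ _ (h.sub2 ha (by simpa using hS)) (by simp [naw])
    have := h.Dl_conj hm key
    rwa [cj_mul', cj_mul', cj_cj, mul_inv_cancel, cj_one] at this
  set Oa := {y | Orb φ B u u y} with hOa
  have hOD : ∀ {y}, y ∈ Oa → y ∈ Dl d φ B := fun hy => (h.orb_mem huD hy).2
  -- at most one of each remaining sort
  have hA1 : ∀ w ∈ B, ∀ w' ∈ B, w ≠ a → w' ≠ a → eg φ x₀ false {w} ∈ Oa → eg φ x₀ false {w'} ∈ Oa → w = w' := by
    intro w hw w' hw' na na' k k'
    by_contra hne
    have := hrule k k' fun e => hne (Finset.singleton_inj.1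
      (h.eg_inj' (h.sub1 hw) (h.sub1 hw') (by simp) (by simp) e).2)
    rw [hu, h.eg_mul (h.sub1 ha) (h.sub1 hw), pair_sdiff (Ne.symm na), h.eg_mul (h.sub2 ha hw) (h.sub1 hw'),
      show ({a, w} : Finset Y) ∆ {w'} = {a, w, w'} by
        ext x; simp only [Finset.mem_symmDiff, Finset.mem_singleton, Finset.mem_insert]; grind] at this
    exact h.three_notMem hnt (h.sub3 ha hw hw') (by simp [Ne.symm na, Ne.symm na', hne]) this
  have hQ1 : ∀ w ∈ B, ∀ w' ∈ B, w ≠ a → w' ≠ a → eg φ x₀ true {a, w} ∈ Oa → eg φ x₀ true {a, w'} ∈ Oa →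
      w = w' := by
    intro w hw w' hw' na na' k k'
    by_contra hne
    have hne2 : ({a, w} : Finset Y) ≠ {a, w'} := fun e => by
      have : w ∈ ({a, w'} : Finset Y) := e ▸ (by simp)
      simp [na, hne] at this
    have := hrule k k' fun e =>
      hne2 (h.eg_inj' (h.sub2 ha hw) (h.sub2 ha hw') Finset.card_le_two (Finset.card_le_two.trans (by norm_num)) e).2
    rw [hu, h.eg_mul (h.sub1 ha) (h.sub2 ha hw),
      show ({a} : Finset Y) ∆ {a, w} = {w} by
        ext x; simp only [Finset.mem_symmDiff, Finset.mem_singleton, Finset.mem_insert]; grind,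
      h.eg_mul (h.sub1 hw) (h.sub2 ha hw'),
      show ({w} : Finset Y) ∆ {a, w'} = {a, w, w'} by
        ext x; simp only [Finset.mem_symmDiff, Finset.mem_singleton, Finset.mem_insert]; grind] at this
    exact h.three_notMem hnt (h.sub3 ha hw hw') (by simp [Ne.symm na, Ne.symm na', hne]) this
  have hQ0 : ∀ w ∈ B, ∀ w' ∈ B, w ≠ w' → w ≠ a → w' ≠ a → eg φ x₀ true {w, w'} ∉ Oa := by
    intro w hw w' hw' nww na na' k
    have hsub : ((B.erase a).powersetCard 2).image (eg φ x₀ true) ⊆ (Set.toFinite Oa).toFinset := by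
      intro y hy
      obtain ⟨S, hS, rfl⟩ := Finset.mem_image.1 hy
      rw [Finset.mem_powersetCard] at hS
      obtain ⟨v, v', nvv, rfl⟩ := Finset.card_eq_two.1 hS.2
      simp only [Finset.insert_subset_iff, Finset.singleton_subset_iff, Finset.mem_erase] at hS
      obtain ⟨g, hg, g1, g2, g3⟩ := h.perm3 ha hw hw' (Ne.symm na) (Ne.symm na') nww ha hS.1.1.2 hS.1.2.2
        (Ne.symm hS.1.1.1) (Ne.symm hS.1.2.1) nvv
      have k1 : cj (g : G) u = u := by
        refine (h.conj_el hg (h.sub1 ha)).trans ?_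
        rw [Finset.image_singleton, g1]
        rfl
      have k2 : cj (g : G) (eg φ x₀ true {w, w'}) = eg φ x₀ true {v, v'} := by
        refine (h.conj_el hg (h.sub2 hw hw')).trans ?_
        rw [Finset.image_insert, Finset.image_singleton, g2, g3]
        rfl
      rw [Set.Finite.mem_toFinset]
      have := h.orb_conj (h.norm_of_base hg) k
      rwa [k1, k2] at this
    have := Finset.card_le_card hsub
    rw [← Set.ncard_eq_toFinset_card Oa, hout22 huD, Finset.card_image_of_injOn ?_, Finset.card_powersetCard,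
      Finset.card_erase_of_mem ha, h.card_B] at this
    · norm_num [Nat.choose] at this
    · intro S hS T hT e
      rw [Finset.mem_coe, Finset.mem_powersetCard] at hS hT
      exact (h.eg_inj' (hS.1.trans (Finset.erase_subset _ _)) (hT.1.trans (Finset.erase_subset _ _))
        (by omega) (by omega) e).2
  let SA := {y | ∃ w ∈ B, w ≠ a ∧ y = eg φ x₀ false {w} ∧ y ∈ Oa}
  let SQ := {y | ∃ w ∈ B, w ≠ a ∧ y = eg φ x₀ true {a, w} ∧ y ∈ Oa}
  have hcov : Oa ⊆ {d} ∪ SA ∪ SQ := by
    intro y hy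
    rcases h.Dl_small hnt (hOD hy) with rfl | ⟨e, w, hw, rfl, hfl⟩ | ⟨e, S, hS, hc, rfl, hfl⟩
    · exact Or.inl (Or.inl rfl)
    · cases e
      · by_cases hwa : w = a
        · subst hwa
          exact absurd rfl (houtne hy)
        · exact Or.inl (Or.inr ⟨w, hw, hwa, rfl, hy⟩)
      · exact absurd hfl hnc
    · cases e
      · exact absurd hfl hpP
      · obtain ⟨v, v', nvv, rfl⟩ := Finset.card_eq_two.1 hc
        simp only [Finset.insert_subset_iff, Finset.singleton_subset_iff] at hS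
        by_cases hva : v = a
        · subst hva
          exact Or.inr ⟨v', hS.2, Ne.symm nvv, rfl, hy⟩
        by_cases hva' : v' = a
        · subst hva'
          exact Or.inr ⟨v, hS.1, nvv, by rw [Finset.pair_comm], hy⟩
        exact absurd hy (hQ0 v hS.1 v' hS.2 nvv hva hva')
  have hSA : SA.ncard ≤ 1 := (Set.ncard_le_one (Set.toFinite _)).2 (by
    rintro _ ⟨w, hw, na, rfl, k⟩ _ ⟨w', hw', na', rfl, k'⟩
    rw [hA1 w hw w' hw' na na' k k'])
  have hSQ : SQ.ncard ≤ 1 := (Set.ncard_le_one (Set.toFinite _)).2 (by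
    rintro _ ⟨w, hw, na, rfl, k⟩ _ ⟨w', hw', na', rfl, k'⟩
    rw [hQ1 w hw w' hw' na na' k k'])
  have := (Set.ncard_le_ncard hcov (Set.toFinite _)).trans
    ((Set.ncard_union_le _ _).trans (Nat.add_le_add_right (Set.ncard_union_le _ _) _))
  rw [Set.ncard_singleton] at this
  have := hout22 huD
  simp only [hOa] at *
  omega

/-- The reverse of the orbital of one single kind is that of the other. -/
theorem cyc {a : Y} (ha : a ∈ B) (hb : Flag φ x₀ B 1 false) (hc : Flag φ x₀ B 1 true) (e : Bool) {x y : G}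
    (ho : Orb φ B (eg φ x₀ e {a}) x y) : Orb φ B (eg φ x₀ (!e) {a}) y x := by
  obtain ⟨r1, r2⟩ := h.not_symm ha hb hc
  obtain ⟨m, hm, rfl, rfl⟩ := ho
  cases e
  exacts [h.orb_conj hm r2, h.orb_conj hm r1]

/-- Pairs with product in the class are joined by one of the two orbitals. -/
theorem pure (hnt : ¬ Flag φ x₀ B 3 false) (hpq : ¬ (Flag φ x₀ B 2 false ∧ Flag φ x₀ B 2 true)) {a : Y} (ha : a ∈ B)
    {x y : G} (hx : x ∈ Dl d φ B) (hy : y ∈ Dl d φ B) (hxy : x * y ∈ Dl d φ B) :
    Orb φ B (eg φ x₀ false {a}) x y ∨ Orb φ B (eg φ x₀ true {a}) x y := by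
  obtain ⟨m, hm, rfl⟩ := h.Dl_trans hx
  have k1 := h.Dl_conj (inv_mem hm) hy
  have k2 := h.Dl_conj (inv_mem hm) hxy
  rw [cj_mul', cj_cj, inv_mul_cancel, cj_one] at k2
  have back : ∀ {v}, Orb φ B v d (cj m⁻¹ y) → Orb φ B v (cj m d) y := fun ho => by
    have := h.orb_conj hm ho
    rwa [cj_cj, mul_inv_cancel, cj_one] at this
  obtain ⟨k, e, ⟨S, hS, hSc, e1⟩, rfl | rfl, f1, f2⟩ := h.d_mul_mem hnt k1 k2
  · cases e
    · exact Or.inl (back ((h.orb_at_d (e := false) ha).ge ⟨S, hS, hSc, e1⟩))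
    · exact Or.inr (back ((h.orb_at_d (e := true) ha).ge ⟨S, hS, hSc, e1⟩))
  · exact absurd ⟨f1, f2⟩ hpq

/-- Two lifts would be joined both ways. -/
theorem not_pair_two (hnt : ¬ Flag φ x₀ B 3 false) (hb : Flag φ x₀ B 1 false) (hc : Flag φ x₀ B 1 true)
    (hp : Flag φ x₀ B 2 false) (hnq : ¬ Flag φ x₀ B 2 true) : False := by
  classical
  obtain ⟨a, ha⟩ := h.exists_member
  obtain ⟨b', hb'', nab, -⟩ := h.exists_ne2 (a := a) (b := a)
  set u := eg φ x₀ false {a} with hu
  have huD : u ∈ Dl d φ B := hb _ (h.sub1 ha) (by simp)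
  have hpure := fun {x y : G} => h.pure hnt (fun k => hnq k.2) ha (x := x) (y := y)
  have hcyc := fun {x y : G} => h.cyc ha hb hc false (x := x) (y := y)
  have hcyc' := fun {x y : G} => h.cyc ha hb hc true (x := x) (y := y)
  have hb2 : eg φ x₀ false {b'} ∈ Dl d φ B := hb _ (h.sub1 hb'') (by simp)
  obtain ⟨g, hg, g1, g2⟩ := h.perm2 ha hb'' nab hb'' ha (Ne.symm nab)
  have k1 : cj (g : G) u = eg φ x₀ false {b'} := by
    refine (h.conj_el hg (h.sub1 ha)).trans ?_
    rw [Finset.image_singleton, g1]; rfl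
  have k2 : cj (g : G) (eg φ x₀ false {b'}) = u := by
    refine (h.conj_el hg (h.sub1 hb'')).trans ?_
    rw [Finset.image_singleton, g2]; rfl
  have hprod : u * eg φ x₀ false {b'} ∈ Dl d φ B := by
    rw [hu, h.eg_mul (h.sub1 ha) (h.sub1 hb''), pair_sdiff nab]
    exact hp _ (h.sub2 ha hb'') (by simp [nab])
  rcases hpure huD hb2 hprod with k | k
  · have k' := h.orb_conj (h.norm_of_base hg) k
    rw [k1, k2] at k'
    exact h.orb_disj ha k' (hcyc k)
  · have k' := h.orb_conj (h.norm_of_base hg) k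
    rw [k1, k2] at k'
    exact h.orb_disj ha (hcyc' k) k'

/-- A pair times the involution has too few products in the class. -/
theorem not_pair_two' (hnt : ¬ Flag φ x₀ B 3 false) (hb : Flag φ x₀ B 1 false) (hc : Flag φ x₀ B 1 true)
    (hp : ¬ Flag φ x₀ B 2 false) (hq : Flag φ x₀ B 2 true) : False := by
  classical
  obtain ⟨a, ha⟩ := h.exists_member
  obtain ⟨b', hb'', nab, -⟩ := h.exists_ne2 (a := a) (b := a)
  set x := eg φ x₀ true {a, b'} with hx
  have hxD : x ∈ Dl d φ B := hq _ (h.sub2 ha hb'') (by simp [nab])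
  obtain ⟨m, hm, hmx⟩ := h.Dl_trans hxD
  let U := {y | y ∈ Dl d φ B ∧ x * y ∈ Dl d φ B}
  have hU : 44 ≤ U.ncard := by
    have hsub : cj m '' (KG φ x₀ B 1 false ∪ KG φ x₀ B 1 true) ⊆ U := by
      have hf : ∀ e, Flag φ x₀ B 1 e := fun e => by cases e; exacts [hb, hc]
      rintro _ ⟨y, hy, rfl⟩
      obtain ⟨e, S, hS, hSc, rfl⟩ : ∃ e, ∃ S, S ⊆ B ∧ S.card = 1 ∧ y = eg φ x₀ e S := by
        rcases hy with ⟨S, h1, h2, h3⟩ | ⟨S, h1, h2, h3⟩ <;> exact ⟨_, S, h1, h2, h3⟩
      refine ⟨h.Dl_conj hm (hf e S hS hSc), ?_⟩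
      rw [← hmx, ← cj_mul', h.d_mul hS]
      exact h.Dl_conj hm (hf _ S hS hSc)
    have := Set.ncard_le_ncard hsub (Set.toFinite _)
    rwa [Set.ncard_image_of_injective _ (cj_inj m), Set.ncard_union_eq
      (h.KG_disj (by norm_num) (by norm_num) (by simp)) (Set.toFinite _) (Set.toFinite _),
      h.KG_card (by norm_num), h.KG_card (by norm_num)] at this
  let L : Finset (Y × Y) :=
    ((B \ {a, b'}).biUnion fun v => ((hexF E a b' v) \ {a, b', v}).image fun w => (v, w))
  let F4 : Finset G := (({a, b'} : Finset Y).image fun w => eg φ x₀ false {w}) ∪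
    (({a, b'} : Finset Y).image fun w => eg φ x₀ true {w})
  let F2 : Finset G := (L.filter fun p => p.swap ∈ L).image fun p => eg φ x₀ true {p.1, p.2}
  have hUsub : U ⊆ ↑(F4 ∪ F2) := by
    rintro y ⟨hy, hxy⟩
    rcases h.Dl_small hnt hy with rfl | ⟨e, w, hw, rfl, hfl⟩ | ⟨e, S, hS, hSc, rfl, hfl⟩
    · exfalso
      rw [(h.commA (h.eg_mem (h.sub2 ha hb'')) h.dd_mem).eq, h.d_mul (h.sub2 ha hb'')] at hxy
      have := h.flag_of (h.sub2 ha hb'') (Finset.card_le_two.trans (by norm_num)) hxy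
      rw [show ({a, b'} : Finset Y).card = 2 by simp [nab]] at this
      exact hp this
    · by_cases hw2 : w ∈ ({a, b'} : Finset Y)
      · simp only [Finset.coe_union, Set.mem_union, Finset.mem_coe]
        left
        simp only [F4, Finset.mem_union, Finset.mem_image]
        cases e
        · exact Or.inl ⟨w, hw2, rfl⟩
        · exact Or.inr ⟨w, hw2, rfl⟩
      · exfalso
        simp only [Finset.mem_insert, Finset.mem_singleton, not_or] at hw2
        rw [hx, h.eg_mul (h.sub2 ha hb'') (h.sub1 hw),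
          show ({a, b'} : Finset Y) ∆ {w} = {a, b', w} by
            ext z; simp only [Finset.mem_symmDiff, Finset.mem_singleton, Finset.mem_insert]; grind] at hxy
        exact h.three_notMem hnt (h.sub3 ha hb'' hw) (by simp [nab, Ne.symm hw2.1, Ne.symm hw2.2]) hxy
    · cases e
      · exact absurd hfl hp
      obtain ⟨v, v', nvv, rfl⟩ := Finset.card_eq_two.1 hSc
      simp only [Finset.insert_subset_iff, Finset.singleton_subset_iff] at hS
      rw [hx, h.eg_mul (h.sub2 ha hb'') (h.sub2 hS.1 hS.2), Bool.xor_self] at hxy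
      set W := ({a, b'} : Finset Y) ∆ {v, v'} with hW
      have hWB : W ⊆ B := fun z hz => (Finset.mem_symmDiff.1 hz).elim
        (fun k => h.sub2 ha hb'' k.1) fun k => h.sub2 hS.1 hS.2 k.1
      by_cases hv : v ∈ ({a, b'} : Finset Y) ∨ v' ∈ ({a, b'} : Finset Y)
      · exfalso
        have hW2 : W.card ≤ 2 := by
          have : W ⊆ (({a, b'} : Finset Y) ∪ {v, v'}) \ (({a, b'} : Finset Y) ∩ {v, v'}) := fun z hz => by
            rcases Finset.mem_symmDiff.1 hz with k | k <;> simp_all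
          have := Finset.card_le_card this
          rw [Finset.card_sdiff_of_subset (Finset.inter_subset_left.trans Finset.subset_union_left)] at this
          have h2 := Finset.card_union_add_card_inter ({a, b'} : Finset Y) {v, v'}
          have h3 : 0 < (({a, b'} : Finset Y) ∩ {v, v'}).card := by
            refine Finset.card_pos.2 ?_
            rcases hv with k | k
            exacts [⟨v, Finset.mem_inter.2 ⟨k, by simp⟩⟩, ⟨v', Finset.mem_inter.2 ⟨k, by simp⟩⟩]
          have h4 : ({a, b'} : Finset Y).card ≤ 2 := Finset.card_le_two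
          have h5 : ({v, v'} : Finset Y).card ≤ 2 := Finset.card_le_two
          omega
        rcases (by omega : W.card = 0 ∨ W.card = 1 ∨ W.card = 2) with k | k | k
        · rw [Finset.card_eq_zero.1 k, h.eg_false] at hxy
          exact h.one_notMem hxy rfl
        · have hodd : (W.card + 2 * (({a, b'} : Finset Y) ∩ {v, v'}).card) = 4 := by
            have h2 := Finset.card_union_add_card_inter ({a, b'} : Finset Y) {v, v'}
            rw [Finset.card_pair nab, Finset.card_pair nvv] at h2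
            have h6 : W = (({a, b'} : Finset Y) ∪ {v, v'}) \ (({a, b'} : Finset Y) ∩ {v, v'}) := by
              rw [hW]; ext z; simp only [Finset.mem_symmDiff, Finset.mem_sdiff, Finset.mem_union,
                Finset.mem_inter]; tauto
            rw [h6, Finset.card_sdiff_of_subset (Finset.inter_subset_left.trans Finset.subset_union_left)]
            have h7 := Finset.card_le_card (Finset.inter_subset_left (s₁ := ({a, b'} : Finset Y)) (s₂ := {v, v'}))
            rw [Finset.card_pair nab] at h7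
            omega
          omega
        · exact hp (k ▸ h.flag_of hWB (by omega) hxy)
      · simp only [Finset.mem_insert, Finset.mem_singleton, not_or] at hv
        obtain ⟨⟨va, vb⟩, va', vb'⟩ := hv
        have hW4 : W = {a, b', v, v'} := by
          rw [hW]; ext z; simp only [Finset.mem_symmDiff, Finset.mem_singleton, Finset.mem_insert]; grind
        have hc4 : W.card = 4 := by
          rw [hW4]; simp [nab, Ne.symm va, Ne.symm va', Ne.symm vb, Ne.symm vb', nvv]
        obtain ⟨e', T, hT, hT2, heq⟩ : ∃ e', ∃ T, T ⊆ B ∧ T.card ≤ 2 ∧ eg φ x₀ false W = eg φ x₀ e' T := by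
          rcases h.Dl_small hnt hxy with k | ⟨e', w, hw, k, -⟩ | ⟨e', T, hT, hT2, k, -⟩
          · exact ⟨true, ∅, Finset.empty_subset _, by simp, k.trans h.eg_true.symm⟩
          · exact ⟨e', {w}, h.sub1 hw, by simp, k⟩
          · exact ⟨e', T, hT, hT2.le, k⟩
        have hrel : φ (el φ x₀ false W) = φ (el φ x₀ e' T) := congrArg φ (Subtype.ext heq)
        rcases h.rel_small hWB hT hrel with k | k
        · have := congrArg Finset.card k
          omega
        have hu6 := Finset.card_union_le W T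
        have hsd : W ∆ T ⊆ W ∪ T := fun z hz => by
          rcases Finset.mem_symmDiff.1 hz with k | k <;> simp [k.1]
        have h6 : (W ∆ T).card = 6 := by
          have := Finset.card_le_card hsd; omega
        have hTU : W ∆ T ⊆ B := hsd.trans (Finset.union_subset hWB hT)
        have hr : φ (sp φ x₀ (W ∆ T)) = 1 := by
          rw [h.map_el, h.map_el] at hrel
          rw [h.cov.sp_symmDiff h.seed h.base (h.cB hWB) (h.cB hT), map_mul, hrel, ← map_mul,
            h.cov.sp_sq h.seed h.base (h.cB hT), map_one]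
        have heqU : W ∆ T = W ∪ T := Finset.eq_of_subset_of_card_le hsd (by omega)
        have hmem : ∀ z ∈ W, z ∈ W ∆ T := fun z hz => heqU ▸ Finset.mem_union_left _ hz
        have hmemL : ∀ v v', v ∈ B → v' ∈ W → v ∈ W → v ≠ v' → a ≠ v → b' ≠ v → v' ≠ a → v' ≠ b' → (v, v') ∈ L := by
          intro v v' hvB hv' hv nvv va vb va' vb'
          have hhex := h.cov.rel_six h.seed h.base (h.cB hTU) h6 hr (hmem a (by simp [hW4]))
            (hmem b' (by simp [hW4])) (hmem v hv) nab va vb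
          refine Finset.mem_biUnion.2 ⟨v, by simp [hvB, Ne.symm va, Ne.symm vb], Finset.mem_image.2 ⟨v', ?_, rfl⟩⟩
          rw [Finset.mem_sdiff, ← hhex]
          exact ⟨hmem v' hv', by simp [va', vb', Ne.symm nvv]⟩
        refine Finset.mem_coe.2 (Finset.mem_union_right _ (Finset.mem_image.2 ⟨(v, v'), ?_, rfl⟩))
        exact Finset.mem_filter.2 ⟨hmemL v v' hS.1 (by simp [hW4]) (by simp [hW4]) nvv (Ne.symm va) (Ne.symm vb) va' vb',
          hmemL v' v hS.2 (by simp [hW4]) (by simp [hW4]) (Ne.symm nvv) (Ne.symm va') (Ne.symm vb') va vb⟩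
  have hL : L.card ≤ 60 := by
    refine (Finset.card_biUnion_le).trans ?_
    refine (Finset.sum_le_card_nsmul _ _ 3 fun v hv => ?_).trans ?_
    · simp only [Finset.mem_sdiff, Finset.mem_insert, Finset.mem_singleton, not_or] at hv
      have t := triple_of_base h.base ha hb'' hv.1 nab (Ne.symm hv.2.1) (Ne.symm hv.2.2)
      obtain ⟨m1, m2, m3⟩ := Data22.mem_hex t.1 t.2.1 t.2.2.1 (D := E)
      refine Finset.card_image_le.trans ?_
      rw [Finset.card_sdiff_of_subset (by simp [Finset.insert_subset_iff, mem_hexF, m1, m2, m3]),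
        h.cov.m22.card_hexF t]
      simp [nab, Ne.symm hv.2.1, Ne.symm hv.2.2]
    · rw [Finset.card_sdiff_of_subset (h.sub2 ha hb''), h.card_B, Finset.card_pair nab, smul_eq_mul]
  have hF2 : 2 * F2.card ≤ L.card := by
    refine le_trans (Finset.mul_card_image_le_card _ 2 fun y hy => ?_) (Finset.card_filter_le L fun p => p.swap ∈ L)
    obtain ⟨⟨v, w⟩, hvw, rfl⟩ := Finset.mem_image.1 hy
    obtain ⟨k1, k2⟩ := Finset.mem_filter.1 hvw
    have hne : v ≠ w := by
      obtain ⟨x, -, hm⟩ := Finset.mem_biUnion.1 k1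
      obtain ⟨z, hz, e⟩ := Finset.mem_image.1 hm
      obtain ⟨rfl, rfl⟩ := Prod.mk_inj.1 e
      simp only [Finset.mem_sdiff, Finset.mem_insert, Finset.mem_singleton, not_or] at hz
      exact Ne.symm hz.2.2.2
    refine Finset.one_lt_card.2 ⟨(v, w), ?_, (w, v), ?_, fun e => hne (Prod.mk_inj.1 e).1⟩
    · exact Finset.mem_filter.2 ⟨hvw, rfl⟩
    · refine Finset.mem_filter.2 ⟨Finset.mem_filter.2 ⟨k2, k1⟩, ?_⟩
      rw [Finset.pair_comm]
  have hF4 : F4.card ≤ 4 :=
    (Finset.card_union_le _ _).trans (Nat.add_le_add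
      (Finset.card_image_le.trans Finset.card_le_two) (Finset.card_image_le.trans Finset.card_le_two))
  have := Set.ncard_le_ncard hUsub (Set.toFinite _)
  rw [Set.ncard_coe_finset] at this
  have := Finset.card_union_le F4 F2
  omega

/-- The two single kinds alone are impossible. -/
theorem not_two (hnt : ¬ Flag φ x₀ B 3 false) (hb : Flag φ x₀ B 1 false) (hc : Flag φ x₀ B 1 true)
    (hp : ¬ Flag φ x₀ B 2 false) (hq : ¬ Flag φ x₀ B 2 true) : False := by
  classical
  obtain ⟨a, ha⟩ := h.exists_member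
  set u := eg φ x₀ false {a} with hu
  have huD : u ∈ Dl d φ B := hb _ (h.sub1 ha) (by simp)
  have hout22 : ∀ {x}, x ∈ Dl d φ B → {y | Orb φ B u x y}.ncard = 22 := fun hx => h.card_out ha hx
  have houtne : ∀ {x y}, Orb φ B u x y → x ≠ y := fun ho => h.out_ne ha ho
  have hflip : ∀ {x y}, Orb φ B u x y → Orb φ B (eg φ x₀ true {a}) x (x * y) := fun ho => h.orb_flip ha ho
  have hsub : {y | Orb φ B u u y} ⊆ {d, eg φ x₀ true {a}} := by
    intro y hy
    have hy' := (h.orb_mem huD hy).2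
    have hk := hflip hy
    have hxy : u * y ∈ Dl d φ B := (h.orb_mem (hc _ (h.sub1 ha) (by simp)) hk).2
    rcases h.Dl_small hnt hy' with rfl | ⟨e, w, hw, rfl, -⟩ | ⟨e, S, hS, hc2, rfl, hfl⟩
    · simp
    · by_cases hwa : w = a
      · subst hwa
        cases e
        · exact absurd rfl (houtne hy)
        · simp
      · exfalso
        rw [hu, h.eg_mul (h.sub1 ha) (h.sub1 hw), pair_sdiff (Ne.symm hwa), Bool.false_xor] at hxy
        have := h.flag_of (h.sub2 ha hw) (Finset.card_le_two.trans (by norm_num)) hxy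
        rw [show ({a, w} : Finset Y).card = 2 by simp [Ne.symm hwa]] at this
        cases e
        exacts [hp this, hq this]
    · cases e
      exacts [absurd hfl hp, absurd hfl hq]
  have := (Set.ncard_le_ncard hsub (Set.toFinite _)).trans (Set.ncard_insert_le _ _)
  rw [Set.ncard_singleton, hout22 huD] at this
  omega

/-- Everything at once would give a free cycle of length three. -/
theorem not_all (hb : Flag φ x₀ B 1 false) (hc : Flag φ x₀ B 1 true) (hcard : (Dl d φ B).ncard = 2047) : False := by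
  classical
  obtain ⟨a, ha⟩ := h.exists_member
  set u := eg φ x₀ false {a} with hu
  have huD : u ∈ Dl d φ B := hb _ (h.sub1 ha) (by simp)
  have hout22 : ∀ {x}, x ∈ Dl d φ B → {y | Orb φ B u x y}.ncard = 22 := fun hx => h.card_out ha hx
  have hcyc := fun {x y : G} => h.cyc ha hb hc false (x := x) (y := y)
  let P := {p : G × G | p.1 ∈ Dl d φ B ∧ p.2 ∈ {y | Orb φ B u p.1 y}}
  have hP : P.ncard = 2047 * 22 := by
    rw [ncard_fibred (Dl d φ B) (fun x => {y | Orb φ B u x y}) fun x hx => hout22 hx, hcard]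
  have hstep : ∀ {x y}, Orb φ B u x y → Orb φ B u y (y * x) := fun {x y} ho => by
    exact h.orb_flip (e := true) ha (hcyc ho)
  have hclose : ∀ {x y}, Orb φ B u x y → y * x * y = x := fun {x y} ho => by
    obtain ⟨hx, hy⟩ := h.orb_mem huD ho
    rw [mul_assoc, (h.commA hx.1 hy.1).eq, ← mul_assoc, h.sqA hy.1, one_mul]
  let f : P → P := fun p => ⟨(p.1.2, p.1.2 * p.1.1), (h.orb_mem huD p.2.2).2, hstep p.2.2⟩
  have hf3 : ∀ p, f (f (f p)) = p := by
    rintro ⟨⟨x, y⟩, hx, ho⟩
    have k1 := hclose ho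
    refine Subtype.ext (Prod.ext k1 ?_)
    show y * x * y * (y * x) = y
    rw [k1, ← mul_assoc, ← (h.commA (h.orb_mem huD ho).2.1 hx.1).eq, mul_assoc, h.sqA hx.1, mul_one]
  let σ : Equiv.Perm P :=
    { toFun := f, invFun := fun p => f (f p), left_inv := hf3, right_inv := hf3 }
  have hσ : σ ^ 3 = 1 := Equiv.ext hf3
  have : Fintype P := Fintype.ofFinite _
  have hndvd : ¬ 3 ∣ Fintype.card P := by
    rw [← Nat.card_eq_fintype_card, Nat.card_coe_set_eq, hP]; norm_num
  have : Fact (Nat.Prime 3) := ⟨Nat.prime_three⟩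
  obtain ⟨⟨⟨x, y⟩, hx, ho⟩, hfix⟩ := Equiv.Perm.exists_fixed_point_of_prime (p := 3) (n := 1) hndvd hσ
  exact h.out_ne ha ho (congrArg Prod.fst (congrArg Subtype.val hfix)).symm

/-- Only the lifts of one class occur, given that those do. -/
theorem delta_of_flag (hb : Flag φ x₀ B 1 false) : Dl d φ B = insert d (KG φ x₀ B 1 false) := by
  classical
  obtain ⟨b, c, p, q, t, hb', hc', hp', hq', ht', hcard⟩ := h.card_Dl
  have hbt := hb'.2 hb
  subst hbt
  obtain ⟨-, o2, o3⟩ := flag_options true c p q t (hcard ▸ h.card_dvd)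
  cases c
  · obtain ⟨ht, hpq⟩ := o2 ⟨rfl, rfl⟩
    have hnt : ¬ Flag φ x₀ B 3 false := fun k => by simp [ht'.2 k] at ht
    have hnc : ¬ Flag φ x₀ B 1 true := fun k => by simpa using hc'.2 k
    cases p <;> cases q
    · refine Set.Subset.antisymm (fun x hx => ?_)
          (Set.insert_subset h.d_mem (by rintro x ⟨S, hS, hc, rfl⟩; exact hb S hS hc))
      rcases h.Dl_small hnt hx with rfl | ⟨e, w, hw, rfl, hf⟩ | ⟨e, S, hS, hc, rfl, hf⟩
      · exact Set.mem_insert _ _
      · cases e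
        · exact Or.inr ⟨_, h.sub1 hw, Finset.card_singleton w, rfl⟩
        · exact absurd hf hnc
      · cases e
        · simpa using hp'.2 hf
        · simpa using hq'.2 hf
    · exact (h.not_pair_one' hnt hb hnc (fun k => by simpa using hp'.2 k) (hq'.1 rfl)).elim
    · exact (h.not_pair_one hnt hb hnc (hp'.1 rfl) (fun k => by simpa using hq'.2 k)).elim
    · simp at hpq
  · have hc : Flag φ x₀ B 1 true := hc'.1 rfl
    exfalso
    rcases o3 ⟨rfl, rfl⟩ with ⟨ht, hpq⟩ | ⟨hp, hq, ht⟩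
    · have hnt : ¬ Flag φ x₀ B 3 false := fun k => by simp [ht'.2 k] at ht
      cases p <;> cases q
      · exact h.not_two hnt hb hc (fun k => by simpa using hp'.2 k) (fun k => by simpa using hq'.2 k)
      · exact h.not_pair_two' hnt hb hc (fun k => by simpa using hp'.2 k) (hq'.1 rfl)
      · exact h.not_pair_two hnt hb hc (hp'.1 rfl) (fun k => by simpa using hq'.2 k)
      · simp at hpq
    · subst hp hq ht
      exact h.not_all hb hc (by rw [hcard]; rfl)

/-- The conjugates of the involution in the subgroup: itself and the lifts from one of the two classes. -/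
theorem exists_class : ∃ x₁ : Cd d, Fr d φ E x₁ B ∧ Dl d φ B = insert d (KG φ x₁ B 1 false) := by
  classical
  obtain ⟨b, c, p, q, t, hb', hc', hp', hq', ht', hcard⟩ := h.card_Dl
  obtain ⟨o1, -, -⟩ := flag_options b c p q t (hcard ▸ h.card_dvd)
  cases b
  · cases c
    · exfalso
      obtain ⟨hp, hq, ht⟩ := o1 ⟨rfl, rfl⟩
      subst hp hq ht
      obtain ⟨x, hx, hne⟩ := h.exists_other
      have h2 : 1 < (Dl d φ B).ncard := (Set.one_lt_ncard (Set.toFinite _)).2 ⟨x, hx, d, h.d_mem, hne⟩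
      simp [hcard] at h2
    · obtain ⟨h1, h2⟩ := h.cov.other h.seed
      have h' : Fr d φ E (x₀ * dC d) B := ⟨h.cov, h1, h.base⟩
      refine ⟨_, h', h'.delta_of_flag fun S hS hSc => ?_⟩
      obtain ⟨a, rfl⟩ := Finset.card_eq_one.1 hSc
      have ha : a ∈ B := Finset.singleton_subset_iff.1 hS
      have e : eg φ (x₀ * dC d) false {a} = eg φ x₀ true {a} := by
        rw [h'.eg_single ha, h2 a (h.subE ha), eg, el, h.cov.sp_single h.seed h.base ha]
        rfl
      rw [e]
      exact hc'.1 rfl _ hS (Finset.card_singleton a)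
  · exact ⟨x₀, h, h.delta_of_flag (hb'.1 rfl)⟩

end Fr

end CfsgLib.ThreeTrans.FiCent23
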