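import Mathlib
import Cfsg.Agent.Lib.ThreeTrans.FiCent23.Fusion

/-! The double cover and a frame from the hypotheses of the statements, and the conjugates of the given
involution in its centraliser. -/

set_option autoImplicit false
set_option linter.unusedSectionVars false

namespace CfsgLib.ThreeTrans.FiCent23

open CfsgLib.ThreeTrans CfsgLib.ThreeTrans.Tower CfsgLib.ThreeTrans.TypeTop
open scoped commutatorElement

universe u v

/-- A simple group with a class of type M(22) is primitive on it. -/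
theorem primitive_of_simple {Y : Type*} [Group Y] [Finite Y] {D : Set Y} (hD : Cfsg.IsThreeTranspositionClass D)
    (h22 : Cfsg.IsOfTypeM22 Y D) (hs : IsSimpleGroup Y) : Cfsg.IsPrimitiveUnderConj D := by
  obtain ⟨hZ, d, hd, c, hc, hdc, ⟨F, _, _, hF, ⟨iso⟩⟩, -⟩ := h22
  have hC := classTwo_of hD ⟨d, hd, c, hc, fun e => hdc (e ▸ Commute.refl d)⟩
  obtain ⟨y, hy⟩ : ∃ y, y ∈ D ∧ y ≠ d ∧ Commute d y := by
    by_contra hn
    have he : {y : Y | y ∈ D ∧ y ≠ d ∧ Commute d y} = ∅ := Set.eq_empty_of_forall_notMem fun y h => hn ⟨y, h⟩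
    have : Subsingleton ↥(Subgroup.closure {y : Y | y ∈ D ∧ y ≠ d ∧ Commute d y}) := by
      rw [he, Subgroup.closure_empty]; infer_instance
    obtain ⟨p, q, hpq⟩ := psu_six_noncomm (F := F) (by rw [hF]; norm_num)
    exact hpq (iso.symm.injective (Subsingleton.elim _ _))
  have htop : commutator Y = ⊤ := by
    refine (Subgroup.Normal.eq_bot_or_eq_top inferInstance).resolve_left fun h => hdc ?_
    have hm : ⁅d, c⁆ ∈ commutator Y := Subgroup.commutator_mem_commutator (Subgroup.mem_top d) (Subgroup.mem_top c)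
    rw [h, Subgroup.mem_bot, commutatorElement_eq_one_iff_mul_comm] at hm
    exact hm
  refine hC.primitive_of_simple_derived ⟨d, hd, y, hy.1, Ne.symm hy.2.1, hy.2.2⟩ hZ ?_
  rw [htop]
  exact Subgroup.topEquiv.isSimpleGroup


variable {G : Type u} [Group G]

/-- The cover from a quasisimple centraliser with quotient of type M(22). -/
theorem cov_of [Finite G] (d : G) (hd : orderOf d = 2) (hq : Cfsg.IsQuasisimple ↥(Cd d))
    [((Subgroup.zpowers d).subgroupOf (Cd d)).Normal]
    {E : Set (↥(Cd d) ⧸ (Subgroup.zpowers d).subgroupOf (Cd d))} (hE : Cfsg.IsThreeTranspositionClass E)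
    (h22 : Cfsg.IsOfTypeM22 _ E) (hnwc : ∃ g : G, g * d * g⁻¹ ∈ Cd d ∧ g * d * g⁻¹ ≠ d) :
    Cov d (QuotientGroup.mk' ((Subgroup.zpowers d).subgroupOf (Cd d))) E := by
  have hdd : d * d = 1 := by rw [← pow_two]; exact hd ▸ pow_orderOf_eq_one d
  set N := (Subgroup.zpowers d).subgroupOf (Cd d) with hN
  have hker : ∀ g : Cd d, QuotientGroup.mk' N g = 1 ↔ g = 1 ∨ g = dC d := fun g => by
    rw [QuotientGroup.mk'_apply, QuotientGroup.eq_one_iff]
    show (g : G) ∈ Subgroup.zpowers d ↔ _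
    constructor
    · intro hg
      obtain ⟨n, hn⟩ := Subgroup.mem_zpowers_iff.1 hg
      rcases Int.even_or_odd' n with ⟨m, rfl | rfl⟩
      · left
        refine Subtype.ext ?_
        rw [← hn, zpow_mul, zpow_two, hdd, one_zpow]
        rfl
      · right
        refine Subtype.ext ?_
        rw [← hn, zpow_add, zpow_mul, zpow_two, hdd, one_zpow, one_mul, zpow_one]
        rfl
    · rintro (rfl | rfl)
      exacts [one_mem _, Subgroup.mem_zpowers d]
  have hcenN : Subgroup.center (Cd d) = N := by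
    refine le_antisymm (fun x hx => (QuotientGroup.eq_one_iff x).1 ?_) fun x hx => ?_
    · have : QuotientGroup.mk' N x ∈ Subgroup.center (Cd d ⧸ N) := Subgroup.mem_center_iff.2 fun t => by
        obtain ⟨k, rfl⟩ := QuotientGroup.mk'_surjective N t
        rw [← map_mul, ← map_mul, Subgroup.mem_center_iff.1 hx k]
      rwa [h22.1, Subgroup.mem_bot] at this
    · refine Subgroup.mem_center_iff.2 fun k => ?_
      rcases (hker x).1 ((QuotientGroup.eq_one_iff x).2 hx) with rfl | rfl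
      exacts [(Commute.one_right k).eq, Subtype.ext (Subgroup.mem_centralizer_singleton_iff.1 k.2)]
  have := hq.2
  have hsimple : IsSimpleGroup (Cd d ⧸ N) := (QuotientGroup.quotientMulEquivOfEq hcenN.symm).isSimpleGroup
  have hperf : commutator (Cd d) = ⊤ := hq.1.commutator_eq_top
  exact ⟨hd, ⟨group_of_class hE, primitive_of_simple hE h22 hsimple, h22⟩, QuotientGroup.mk'_surjective N,
    hker, hperf, hnwc⟩

variable {Y : Type v} [Group Y] [Finite Y] {d : G} {φ : Cd d →* Y} {E : Set Y}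

theorem Cov.exists_frame (h : Cov d φ E) : ∃ x₀ B, Fr d φ E x₀ B := by
  obtain ⟨-, e, he, -⟩ := h.m22.typ
  obtain ⟨x₀, hx₀⟩ := h.surj e
  obtain ⟨B, hB⟩ := h.m22.exists_base
  exact ⟨x₀, B.toFinite.toFinset, h, hx₀ ▸ he, by simpa using hB⟩

/-- The conjugates of the involution in its centraliser: itself and the lifts of one class. -/
theorem Cov.exists_lift_class [Finite G] (h : Cov d φ E) : ∃ x₁, φ x₁ ∈ E ∧
    ∀ x : Cd d, IsConj d (x : G) ↔ x = dC d ∨ ∃ e ∈ E, x = lift φ x₁ e := by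
  classical
  obtain ⟨x₀, B, f₀⟩ := h.exists_frame
  obtain ⟨x₁, f, hΔ⟩ := f₀.exists_class
  refine ⟨x₁, f.seed, fun x => ⟨fun hx => ?_, ?_⟩⟩
  · have hsq : x * x = 1 := Subtype.ext (by
      obtain ⟨g, hg⟩ := isConj_iff.1 hx
      show (x : G) * x = 1
      rw [← hg, show g * d * g⁻¹ * (g * d * g⁻¹) = g * (d * d) * g⁻¹ by group, h.dd, mul_one, mul_inv_cancel])
    obtain ⟨k, hk⟩ := f.conj_into hsq
    have hm : ((k * x * k⁻¹ : Cd d) : G) ∈ Dl d φ B :=
      ⟨Fr.mem_Agrp.2 ⟨_, hk, rfl⟩, hx.trans (isConj_iff.2 ⟨k, rfl⟩)⟩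
    rw [hΔ] at hm
    rcases hm with e | ⟨S, hS, hc, e⟩
    · left
      have e' : k * x * k⁻¹ = dC d := Subtype.ext e
      rw [show x = k⁻¹ * (k * x * k⁻¹) * k by group, e', ((h.cen k⁻¹).eq), mul_assoc, inv_mul_cancel, mul_one]
    · right
      obtain ⟨b, rfl⟩ := Finset.card_eq_one.1 hc
      have hb : b ∈ B := Finset.singleton_subset_iff.1 hS
      rw [f.eg_single hb] at e
      have e' : k * x * k⁻¹ = lift φ x₁ b := Subtype.ext e
      refine ⟨φ k⁻¹ * b * (φ k⁻¹)⁻¹, h.m22.closed.conj _ _ (f.subE hb), ?_⟩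
      rw [← h.lift_conj f.seed k⁻¹ (f.subE hb), ← e']
      group
  · rintro (rfl | ⟨e, he, rfl⟩)
    · exact IsConj.refl d
    obtain ⟨b, hb⟩ := f.exists_member
    obtain ⟨y, hy⟩ := h.m22.prim.1 b (f.subE hb) e he
    obtain ⟨k, rfl⟩ := h.surj y
    have hm : eg φ x₁ false {b} ∈ Dl d φ B := by
      rw [hΔ]; exact Or.inr ⟨_, f.sub1 hb, Finset.card_singleton b, rfl⟩
    refine hm.2.trans (isConj_iff.2 ⟨(k : G), ?_⟩)
    rw [f.eg_single hb, ← hy, ← h.lift_conj f.seed k (f.subE hb)]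
    rfl

end CfsgLib.ThreeTrans.FiCent23
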