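import Mathlib
import Cfsg.Agent.Lib.ThreeTrans.FiCent23.Setup
import Cfsg.Agent.Lib.ThreeTrans.FiCent23.MuThreeFifty

/-! The class of the given involution seen from each of its members: the members commuting with one are carried
to the class of type M(22); two at distance two have 351 common ones, and distance three does not occur. -/

set_option autoImplicit false
set_option linter.unusedSectionVars false

namespace CfsgLib.ThreeTrans.FiCent23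

open CfsgLib.ThreeTrans CfsgLib.ThreeTrans.Classif
open CfsgLib.ThreeTrans.LocalSymThree (nbr nbr_symm)

universe u v

variable {G : Type u} [Group G] [Finite G] {Y : Type v} [Group Y] [Finite Y] {d : G} {φ : Cd d →* Y}
  {E : Set Y} {x₁ : Cd d}

/-- The conjugates of the involution. -/
def Dc (d : G) : Set G := conjugatesOf d

/-- The conjugates in the centraliser are the involution and the lifts of one class. -/
structure Hy (d : G) (φ : Cd d →* Y) (E : Set Y) (x₁ : Cd d) : Prop where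
  cov : Cov d φ E
  seed : φ x₁ ∈ E
  iff : ∀ x : Cd d, IsConj d (x : G) ↔ x = dC d ∨ ∃ e ∈ E, x = lift φ x₁ e

open Classical in
/-- The image of an element commuting with the involution. -/
noncomputable def chd (φ : Cd d →* Y) (y : G) : Y := if hy : y ∈ Cd d then φ ⟨y, hy⟩ else 1

theorem chd_of (φ : Cd d →* Y) (g : Cd d) : chd φ (g : G) = φ g := by rw [chd, dif_pos g.2]

theorem Dc_cj {x : G} (g : G) (hx : x ∈ Dc d) : cj g x ∈ Dc d :=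
  IsConj.trans hx (isConj_iff.2 ⟨g, rfl⟩)

theorem nbr_cj (g x : G) : nbr (Dc d) (cj g x) = cj g '' nbr (Dc d) x := by
  ext y
  constructor
  · rintro ⟨hy, hne, hc⟩
    refine ⟨cj g⁻¹ y, ⟨Dc_cj g⁻¹ hy, fun e => hne ?_, ?_⟩, ?_⟩
    · rw [← e, cj_cj, mul_inv_cancel, cj_one]
    · have := (commute_conj_iff g⁻¹ _ _).2 hc
      show Commute x (g⁻¹ * y * g⁻¹⁻¹)
      rwa [show g⁻¹ * cj g x * g⁻¹⁻¹ = x by simp [cj, mul_assoc]] at this
    · rw [cj_cj, mul_inv_cancel, cj_one]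
  · rintro ⟨z, ⟨hz, hne, hc⟩, rfl⟩
    exact ⟨Dc_cj g hz, fun e => hne (cj_inj g e), (commute_conj_iff g x z).2 hc⟩

theorem nbr_cj_mem {g x y u : G} (hu : u ∈ nbr (Dc d) x) (e : cj g x = y) : cj g u ∈ nbr (Dc d) y := by
  rw [← e, nbr_cj]; exact ⟨u, hu, rfl⟩

theorem cj_of_commute {g x : G} (h : Commute g x) : cj g x = x := mul_inv_eq_iff_eq_mul.2 h.eq

theorem commute_of_cj {g x : G} (h : cj g x = x) : Commute g x := mul_inv_eq_iff_eq_mul.1 h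

/-- The points at distance two. -/
def far2 (d : G) : Set G := {y | y ∈ Dc d ∧ ¬ Commute d y ∧ (nbr (Dc d) d ∩ nbr (Dc d) y).Nonempty}

namespace Hy

variable (h : Hy d φ E x₁)
include h

theorem d_mem : d ∈ Dc d := IsConj.refl d

theorem sq {x : G} (hx : x ∈ Dc d) : x * x = 1 := by
  obtain ⟨g, rfl⟩ := isConj_iff.1 hx
  rw [show g * d * g⁻¹ * (g * d * g⁻¹) = g * (d * d) * g⁻¹ by group, h.cov.dd, mul_one, mul_inv_cancel]

theorem inv {x : G} (hx : x ∈ Dc d) : x⁻¹ = x := inv_eq_of_mul_eq_one_right (h.sq hx)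

theorem mem_nbr_d {y : G} : y ∈ nbr (Dc d) d ↔ ∃ e ∈ E, y = (lift φ x₁ e : G) := by
  constructor
  · rintro ⟨hy, hne, hc⟩
    have hyC : y ∈ Cd d := Subgroup.mem_centralizer_singleton_iff.2 hc.eq.symm
    rcases (h.iff ⟨y, hyC⟩).1 hy with e | ⟨e, he, k⟩
    · exact absurd (congrArg Subtype.val e) hne
    · exact ⟨e, he, congrArg Subtype.val k⟩
  · rintro ⟨e, he, rfl⟩
    refine ⟨(h.iff _).2 (Or.inr ⟨e, he, rfl⟩), fun k => ?_,
      (Subgroup.mem_centralizer_singleton_iff.1 (lift φ x₁ e).2).symm⟩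
    have k' : lift φ x₁ e = dC d := Subtype.ext k
    have := congrArg φ k'
    rw [h.cov.map_lift h.seed he, h.cov.map_dC] at this
    exact ne_one h.cov.m22.set he this

theorem chd_lift {e : Y} (he : e ∈ E) : chd φ (lift φ x₁ e : G) = e := by
  rw [chd_of, h.cov.map_lift h.seed he]

theorem cj_lift (g : Cd d) {e : Y} (he : e ∈ E) :
    cj (g : G) (lift φ x₁ e : G) = (lift φ x₁ (cj (φ g) e) : G) := by
  show _ = ((lift φ x₁ (φ g * e * (φ g)⁻¹) : Cd d) : G)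
  rw [← h.cov.lift_conj h.seed g he]
  rfl

theorem chart_d : Chart (Dc d) d (chd φ) E := by
  have hl : ∀ {a b : Y}, a ∈ E → b ∈ E →
      (Commute (lift φ x₁ a : G) (lift φ x₁ b : G) ↔ Commute a b) := fun {a b} ha hb => by
    rw [← h.cov.lift_comm h.seed ha hb]
    exact ⟨fun k => Subtype.ext k, fun k => k.map (Cd d).subtype⟩
  refine ⟨h.d_mem, ⟨fun y hy => ?_, fun y hy z hz k => ?_, fun e he => ?_⟩, fun y hy z hz => ?_,
    fun y hy z hz => ?_⟩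
  · obtain ⟨e, he, rfl⟩ := h.mem_nbr_d.1 hy
    rwa [h.chd_lift he]
  · obtain ⟨a, ha, rfl⟩ := h.mem_nbr_d.1 hy
    obtain ⟨b, hb, rfl⟩ := h.mem_nbr_d.1 hz
    rw [h.chd_lift ha, h.chd_lift hb] at k
    rw [k]
  · exact ⟨_, h.mem_nbr_d.2 ⟨e, he, rfl⟩, h.chd_lift he⟩
  · obtain ⟨a, ha, rfl⟩ := h.mem_nbr_d.1 hy
    obtain ⟨b, hb, rfl⟩ := h.mem_nbr_d.1 hz
    rw [h.chd_lift ha, h.chd_lift hb, hl ha hb]
  · obtain ⟨a, ha, rfl⟩ := h.mem_nbr_d.1 hy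
    obtain ⟨b, hb, rfl⟩ := h.mem_nbr_d.1 hz
    rw [h.chd_lift ha, h.chd_lift hb, ← Subgroup.coe_mul, ← Subgroup.coe_mul, chd_of, map_mul, map_mul,
      h.cov.map_lift h.seed ha, h.cov.map_lift h.seed hb]

theorem exists_chart {x : G} (hx : x ∈ Dc d) :
    ∃ f, Chart (Dc d) x f E ∧ ∀ y : Y, ∃ g, Commute g x ∧ ∀ u ∈ nbr (Dc d) x, f (cj g u) = cj y (f u) := by
  obtain ⟨g₀, rfl⟩ := isConj_iff.1 hx
  change ∃ f, Chart (Dc d) (cj g₀ d) f E ∧ _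
  have C := h.chart_d
  have hback : ∀ u ∈ nbr (Dc d) (cj g₀ d), cj g₀⁻¹ u ∈ nbr (Dc d) d := fun u hu => by
    rw [nbr_cj] at hu
    obtain ⟨z, hz, rfl⟩ := hu
    rwa [cj_cj, inv_mul_cancel, cj_one]
  have hb : ∀ u v, cj g₀⁻¹ (u * v) = cj g₀⁻¹ u * cj g₀⁻¹ v := fun u v => cj_mul' _ u v
  refine ⟨fun u => chd φ (cj g₀⁻¹ u), ⟨hx, ⟨fun u hu => C.bij.mapsTo (hback u hu),
    fun u hu v hv k => cj_inj g₀⁻¹ (C.bij.injOn (hback u hu) (hback v hv) k), fun e he => ?_⟩,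
    fun u hu v hv => (C.comm _ (hback u hu) _ (hback v hv)).trans (commute_conj_iff g₀⁻¹ u v),
    fun u hu v hv => ?_⟩, fun y => ?_⟩
  · obtain ⟨z, hz, rfl⟩ := C.bij.surjOn he
    exact ⟨cj g₀ z, nbr_cj g₀ d ▸ ⟨z, hz, rfl⟩, by show chd φ _ = _; rw [cj_cj, inv_mul_cancel, cj_one]⟩
  · show chd φ (cj g₀⁻¹ (u * v * u)) = _
    rw [hb, hb]
    exact C.conj _ (hback u hu) _ (hback v hv)
  · obtain ⟨k, rfl⟩ := h.cov.surj y
    refine ⟨cj g₀ (k : G), ?_, fun u hu => ?_⟩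
    · exact (commute_conj_iff g₀ (k : G) d).2 (Subgroup.mem_centralizer_singleton_iff.1 k.2)
    · show chd φ (cj g₀⁻¹ (cj (cj g₀ (k : G)) u)) = _
      rw [cj_cj, show g₀⁻¹ * cj g₀ (k : G) = (k : G) * g₀⁻¹ by simp [cj, mul_assoc], ← cj_cj]
      obtain ⟨e, he, he'⟩ := h.mem_nbr_d.1 (hback u hu)
      show chd φ (cj (k : G) (cj g₀⁻¹ u)) = cj (φ k) (chd φ (cj g₀⁻¹ u))
      rw [he', h.cj_lift k he, h.chd_lift he]
      exact h.chd_lift (h.cov.m22.closed.conj _ e he)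

/-- Conjugating by a member commuting with the centre of a neighbourhood stays in it. -/
theorem nbr_conj_mem {z a b : G} (_hz : z ∈ Dc d) (ha : a ∈ nbr (Dc d) z) (hb : b ∈ nbr (Dc d) z) :
    a * b * a ∈ nbr (Dc d) z := by
  have e : a * b * a = cj a b := by rw [cj, h.inv ha.1]
  rw [e]
  exact nbr_cj_mem hb (cj_of_commute ha.2.2.symm)

/-- Two non-commuting members of a neighbourhood braid. -/
theorem braid_nbr {z a b : G} (hz : z ∈ Dc d) (ha : a ∈ nbr (Dc d) z) (hb : b ∈ nbr (Dc d) z) (hab : ¬ Commute a b) :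
    a * b * a = b * a * b := by
  obtain ⟨f, C, -⟩ := h.exists_chart hz
  refine C.bij.injOn (h.nbr_conj_mem hz ha hb) (h.nbr_conj_mem hz hb ha) ?_
  rw [C.conj a ha b hb, C.conj b hb a ha]
  exact braid h.cov.m22.set (C.bij.mapsTo ha) (C.bij.mapsTo hb) fun k => hab ((C.comm a ha b hb).1 k)

/-- The centraliser of the involution is transitive on the members commuting with it. -/
theorem trans_nbr {y y' : G} (hy : y ∈ nbr (Dc d) d) (hy' : y' ∈ nbr (Dc d) d) :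
    ∃ g, Commute g d ∧ cj g y = y' := by
  obtain ⟨e, he, rfl⟩ := h.mem_nbr_d.1 hy
  obtain ⟨e', he', rfl⟩ := h.mem_nbr_d.1 hy'
  obtain ⟨k, hk⟩ := h.cov.m22.prim.1 e he e' he'
  obtain ⟨g, rfl⟩ := h.cov.surj k
  refine ⟨g, Subgroup.mem_centralizer_singleton_iff.1 g.2, ?_⟩
  rw [h.cj_lift g he]
  exact congrArg (fun z => (lift φ x₁ z : G)) hk

/-- Commuting members are exchanged. -/
theorem swap {a : G} (ha : a ∈ nbr (Dc d) d) : ∃ g, cj g a = d ∧ cj g d = a := by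
  obtain ⟨g₁, hg₁⟩ := isConj_iff.1 ha.1
  have e1 : cj g₁⁻¹ a = d := by rw [← hg₁]; simp [cj, mul_assoc]
  have h2 : cj g₁⁻¹ d ∈ nbr (Dc d) d := nbr_cj_mem (nbr_symm h.d_mem ha) e1
  obtain ⟨g₂, hg₂, hg⟩ := h.trans_nbr h2 ha
  exact ⟨g₂ * g₁⁻¹, by rw [← cj_cj, e1, cj_of_commute hg₂], by rw [← cj_cj, hg]⟩

theorem mu_data {f : G} (hf : f ∈ far2 d) :
    MuData E (chd φ '' (nbr (Dc d) d ∩ nbr (Dc d) f)) (nbr (Dc d) d ∩ nbr (Dc d) f).ncard := by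
  obtain ⟨hfD, hnc, hne⟩ := hf
  have C := h.chart_d
  refine ⟨?_, hne.image _, ?_, ?_, ?_⟩
  · rintro _ ⟨y, hy, rfl⟩
    exact C.bij.mapsTo hy.1
  · exact (C.bij.injOn.mono Set.inter_subset_left).ncard_image
  · rintro _ ⟨a, ha, rfl⟩ _ ⟨b, hb, rfl⟩
    exact ⟨a * b * a, ⟨h.nbr_conj_mem h.d_mem ha.1 hb.1, h.nbr_conj_mem hfD ha.2 hb.2⟩, C.conj a ha.1 b hb.1⟩
  rintro _ ⟨a, ha, rfl⟩
  obtain ⟨g, hga, hgd⟩ := h.swap ha.1
  have hp : cj g f ∈ nbr (Dc d) d := nbr_cj_mem (nbr_symm hfD ha.2) hga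
  have hN : nbr (Dc d) d ∩ nbr (Dc d) a = cj g⁻¹ '' (nbr (Dc d) d ∩ nbr (Dc d) a) := by
    rw [Set.image_inter (cj_inj _), ← nbr_cj, ← nbr_cj]
    have k1 : cj g⁻¹ d = a := by rw [← hga, cj_cj, inv_mul_cancel, cj_one]
    have k2 : cj g⁻¹ a = d := by rw [← hgd, cj_cj, inv_mul_cancel, cj_one]
    rw [k1, k2, Set.inter_comm]
  have hNi : ∀ {y}, y ∈ nbr (Dc d) d ∩ nbr (Dc d) a → cj g⁻¹ y ∈ nbr (Dc d) d ∩ nbr (Dc d) a := fun {y} hy =>
    hN.symm ▸ Set.mem_image_of_mem _ hy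
  refine ⟨chd φ (cj g f), C.bij.mapsTo hp, fun k => ?_, ?_⟩
  · have := (C.comm a ha.1 _ hp).1 k
    rw [← hgd] at this
    exact hnc ((commute_conj_iff g d f).1 this)
  let inv := Function.invFunOn (chd φ) (nbr (Dc d) d)
  have hinv : ∀ y ∈ nbr (Dc d) d, inv (chd φ y) = y := fun y hy => C.bij.injOn.leftInvOn_invFunOn hy
  let θ : Y → Y := fun e => chd φ (cj g⁻¹ (inv e))
  have hθ : ∀ y ∈ nbr (Dc d) d, θ (chd φ y) = chd φ (cj g⁻¹ y) := fun y hy => by simp only [θ, hinv y hy]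
  have himg := C.image_nbr ha.1
  refine ⟨θ, ⟨?_, ?_, ?_⟩, ?_, ?_, ?_⟩
  · intro e he
    rw [← himg] at he ⊢
    obtain ⟨y, hy, rfl⟩ := he
    exact ⟨_, hNi hy, (hθ y hy.1).symm⟩
  · intro e he e' he' k
    rw [← himg] at he he'
    obtain ⟨y, hy, rfl⟩ := he
    obtain ⟨y', hy', rfl⟩ := he'
    rw [hθ y hy.1, hθ y' hy'.1] at k
    rw [cj_inj _ (C.bij.injOn (hNi hy).1 (hNi hy').1 k)]
  · intro e he
    rw [← himg] at he
    obtain ⟨y, hy, rfl⟩ := he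
    obtain ⟨z, hz, hzy⟩ := hN.le hy
    exact ⟨chd φ z, himg ▸ Set.mem_image_of_mem _ hz, by rw [hθ z hz.1, hzy]⟩
  · intro u hu w hw
    rw [← himg] at hu hw
    obtain ⟨y, hy, rfl⟩ := hu
    obtain ⟨z, hz, rfl⟩ := hw
    rw [hθ y hy.1, hθ z hz.1, C.comm _ (hNi hy).1 _ (hNi hz).1, C.comm y hy.1 z hz.1]
    exact commute_conj_iff g⁻¹ y z
  · intro u hu w hw
    rw [← himg] at hu hw
    obtain ⟨y, hy, rfl⟩ := hu
    obtain ⟨z, hz, rfl⟩ := hw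
    rw [← C.conj y hy.1 z hz.1, hθ _ (h.nbr_conj_mem h.d_mem hy.1 hz.1), hθ y hy.1, hθ z hz.1,
      ← C.conj _ (hNi hy).1 _ (hNi hz).1, cj_mul', cj_mul']
  · rw [← himg, ← C.image_nbr hp,
      ← C.bij.injOn.image_inter Set.inter_subset_left Set.inter_subset_left,
      ← C.bij.injOn.image_inter Set.inter_subset_left Set.inter_subset_left]
    have hset : nbr (Dc d) d ∩ nbr (Dc d) f ∩ (nbr (Dc d) d ∩ nbr (Dc d) a) =
        cj g⁻¹ '' (nbr (Dc d) d ∩ nbr (Dc d) a ∩ (nbr (Dc d) d ∩ nbr (Dc d) (cj g f))) := by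
      have k3 : cj g⁻¹ (cj g f) = f := by rw [cj_cj, inv_mul_cancel, cj_one]
      rw [Set.image_inter (cj_inj _), ← hN, Set.image_inter (cj_inj _), ← nbr_cj g⁻¹ (cj g f), k3]
      ext y
      refine ⟨fun k => ⟨k.2, ?_, k.1.2⟩, fun k => ⟨⟨k.1.1, k.2.2⟩, k.1⟩⟩
      rw [← nbr_cj, show cj g⁻¹ d = a by rw [← hga, cj_cj, inv_mul_cancel, cj_one]]
      exact k.2.2
    rw [hset, Set.image_image, Set.image_image]
    refine Set.image_congr fun y hy => ?_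
    exact (hθ y hy.1.1).symm

theorem card_mu {f : G} (hf : f ∈ far2 d) : (nbr (Dc d) d ∩ nbr (Dc d) f).ncard = 351 :=
  (h.mu_data hf).card.symm.trans (h.cov.m22.muSet_card (h.mu_data hf))

/-- A member commuting with the involution meets each point at distance two within one step. -/
theorem meet0 {f w : G} (hf : f ∈ far2 d) (hw : w ∈ nbr (Dc d) d) (hwf : ¬ Commute f w) :
    ∃ z, z ∈ nbr (Dc d) d ∧ z ∈ nbr (Dc d) f ∧ z ∈ nbr (Dc d) w := by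
  have C := h.chart_d
  have hS := h.mu_data hf
  obtain ⟨hloc, -⟩ := h.cov.m22.muSet_local hS
  obtain ⟨-, -, h63⟩ := h.cov.m22.bound hS.sub hS.ne fun a ha => (hloc a ha).1
  have hwE := C.bij.mapsTo hw
  have hwS : chd φ w ∉ chd φ '' (nbr (Dc d) d ∩ nbr (Dc d) f) := by
    rintro ⟨y, hy, e⟩
    exact hwf (C.bij.injOn hy.1 hw e ▸ hy.2.2.2)
  obtain ⟨_, ⟨z, hz, rfl⟩, hzw⟩ : (chd φ '' (nbr (Dc d) d ∩ nbr (Dc d) f) ∩ nbr E (chd φ w)).Nonempty :=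
    Set.nonempty_of_ncard_ne_zero (by rw [h63 (h.cov.m22.muSet_card hS) _ hwE hwS]; norm_num)
  exact ⟨z, hz.1, hz.2, hz.1.1, fun e => hzw.2.1 (e ▸ rfl), (C.comm w hw z hz.1).1 hzw.2.2⟩

/-- The points at distance at most two are closed under commuting. -/
theorem closed2 {f w : G} (hf : f ∈ far2 d) (hw : w ∈ nbr (Dc d) f) : w ∈ nbr (Dc d) d ∪ far2 d := by
  have hwd : w ≠ d := fun e => hf.2.1 (e ▸ hw.2.2.symm)
  by_cases hc : Commute d w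
  · exact Or.inl ⟨hw.1, hwd, hc⟩
  refine Or.inr ⟨hw.1, hc, ?_⟩
  obtain ⟨g, hg⟩ := isConj_iff.1 hf.1
  have e1 : cj g⁻¹ f = d := by rw [← hg]; simp [cj, mul_assoc]
  have hf' : cj g⁻¹ d ∈ far2 d := by
    refine ⟨Dc_cj _ h.d_mem, fun k => hf.2.1 ?_, ?_⟩
    · exact ((commute_conj_iff g⁻¹ f d).1 (show Commute (cj g⁻¹ f) (cj g⁻¹ d) by rw [e1]; exact k)).symm
    · obtain ⟨a, ha⟩ := hf.2.2
      refine ⟨cj g⁻¹ a, nbr_cj_mem ha.2 e1, ?_⟩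
      · rw [nbr_cj]
        exact ⟨a, ha.1, rfl⟩
  have hw' : cj g⁻¹ w ∈ nbr (Dc d) d := nbr_cj_mem hw e1
  obtain ⟨z, hz1, hz2, hz3⟩ := h.meet0 hf' hw' fun k => hc ((commute_conj_iff g⁻¹ d w).1 k)
  rw [nbr_cj] at hz2 hz3
  obtain ⟨z₂, hz₂, rfl⟩ := hz2
  obtain ⟨z₃, hz₃, e⟩ := hz3
  exact ⟨z₂, hz₂, cj_inj _ e ▸ hz₃⟩

theorem far_trans {f f' : G} (hf : f ∈ far2 d) (hf' : f' ∈ far2 d) : ∃ g, Commute g d ∧ cj g f = f' := by
  obtain ⟨a, ha⟩ := hf.2.2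
  obtain ⟨a', ha'⟩ := hf'.2.2
  obtain ⟨g₁, hg₁, rfl⟩ := h.trans_nbr ha.1 ha'.1
  obtain ⟨χ, C, hlift⟩ := h.exists_chart ha'.1.1
  have hd : d ∈ nbr (Dc d) (cj g₁ a) := nbr_symm h.d_mem ha'.1
  have hf1 : cj g₁ f ∈ nbr (Dc d) (cj g₁ a) := nbr_cj g₁ a ▸ ⟨f, nbr_symm hf.1 ha.2, rfl⟩
  have hf1' : f' ∈ nbr (Dc d) (cj g₁ a) := nbr_symm hf'.1 ha'.2
  have hn1 : ¬ Commute (χ d) (χ (cj g₁ f)) := fun k => hf.2.1 ((commute_conj_iff g₁ d f).1 (by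
    rw [show g₁ * d * g₁⁻¹ = d from cj_of_commute hg₁]
    exact (C.comm d hd _ hf1).1 k))
  have hn2 : ¬ Commute (χ d) (χ f') := fun k => hf'.2.1 ((C.comm d hd _ hf1').1 k)
  obtain ⟨y, hy, hyf⟩ := h.cov.m22.loc.farT _ (C.bij.mapsTo hd) _ (C.bij.mapsTo hf1) _ (C.bij.mapsTo hf1') hn1 hn2
  obtain ⟨g, hga, hgu⟩ := hlift y
  have hmem : ∀ {u}, u ∈ nbr (Dc d) (cj g₁ a) → cj g u ∈ nbr (Dc d) (cj g₁ a) := fun hu =>
    nbr_cj_mem hu (cj_of_commute hga)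
  have egd : cj g d = d := C.bij.injOn (hmem hd) hd (by rw [hgu d hd, cj_of_commute hy])
  have egf : cj g (cj g₁ f) = f' := C.bij.injOn (hmem hf1) hf1' (by rw [hgu _ hf1]; exact hyf)
  exact ⟨g * g₁, (commute_of_cj egd).mul_left hg₁, by rw [← cj_cj, egf]⟩

theorem card_nbr {x : G} (hx : x ∈ Dc d) : (nbr (Dc d) x).ncard = 3510 := by
  obtain ⟨f, C, -⟩ := h.exists_chart hx
  rw [C.ncard_eq, h.cov.m22.loc.card]

theorem lam {x y : G} (hx : x ∈ Dc d) (hy : y ∈ nbr (Dc d) x) : (nbr (Dc d) x ∩ nbr (Dc d) y).ncard = 693 := by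
  obtain ⟨f, C, -⟩ := h.exists_chart hx
  rw [C.ncard_inter hy]
  exact h.cov.m22.loc.deg _ (C.bij.mapsTo hy)

theorem card_far2 : (far2 d).ncard = 28160 := by
  have h1 : ∀ a ∈ nbr (Dc d) d, {b | b ∈ far2 d ∧ b ∈ nbr (Dc d) a}.ncard = 2816 := by
    intro a ha
    rw [show {b | b ∈ far2 d ∧ b ∈ nbr (Dc d) a} = nbr (Dc d) a \ insert d (nbr (Dc d) d ∩ nbr (Dc d) a) from ?_,
      Set.ncard_sdiff (Set.insert_subset (nbr_symm h.d_mem ha) Set.inter_subset_right) (Set.toFinite _),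
      Set.ncard_insert_of_notMem (fun k => k.1.2.1 rfl) (Set.toFinite _), h.lam h.d_mem ha, h.card_nbr ha.1]
    ext b
    constructor
    · rintro ⟨hb, hba⟩
      refine ⟨hba, ?_⟩
      rintro (rfl | k)
      exacts [hb.2.1 (Commute.refl _), hb.2.1 k.1.2.2]
    · rintro ⟨hba, hn⟩
      simp only [Set.mem_insert_iff, not_or] at hn
      exact ⟨⟨hba.1, fun k => hn.2 ⟨⟨hba.1, hn.1, k⟩, hba⟩, a, ha, nbr_symm ha.1 hba⟩, hba⟩
  have h2 : ∀ b ∈ far2 d, {a | a ∈ nbr (Dc d) d ∧ b ∈ nbr (Dc d) a}.ncard = 351 := fun b hb => by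
    rw [← h.card_mu hb]
    congr 1
    ext a
    exact ⟨fun k => ⟨k.1, nbr_symm k.1.1 k.2⟩, fun k => ⟨k.1, nbr_symm hb.1 k.2⟩⟩
  have := CfsgLib.ThreeTrans.Tower.count_eq (nbr (Dc d) d) (far2 d) (fun a b => b ∈ nbr (Dc d) a) h1 h2
  rw [h.card_nbr h.d_mem] at this
  omega

end Hy

theorem Cov.exists_hy (h : Cov d φ E) : ∃ x₁, Hy d φ E x₁ := by
  obtain ⟨x₁, hx, hiff⟩ := h.exists_lift_class
  exact ⟨x₁, h, hx, hiff⟩

end CfsgLib.ThreeTrans.FiCent23
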