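import Mathlib
import Cfsg.Agent.Lib.ThreeTrans.FiCent23.Local

/-! The 31671 conjugates within distance two of the involution: a closed set of 3-transpositions, whose
stabiliser contains their centralisers and no further conjugate. -/

set_option autoImplicit false
set_option linter.unusedSectionVars false

namespace CfsgLib.ThreeTrans.FiCent23

open CfsgLib.ThreeTrans CfsgLib.ThreeTrans.Classif
open CfsgLib.ThreeTrans.LocalSymThree (nbr nbr_symm)

universe u v

variable {G : Type u} [Group G] [Finite G] {Y : Type v} [Group Y] [Finite Y] {d : G} {φ : Cd d →* Y}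
  {E : Set Y} {x₁ : Cd d}

/-- The component of the involution. -/
def Om (d : G) : Set G := insert d (nbr (Dc d) d ∪ far2 d)

/-- Its stabiliser. -/
def St (d : G) : Subgroup G where
  carrier := {g | cj g '' Om d = Om d}
  one_mem' := by
    show cj 1 '' Om d = Om d
    ext y; simp [cj]
  mul_mem' {a b} (ha : cj a '' Om d = Om d) (hb : cj b '' Om d = Om d) := by
    show cj (a * b) '' Om d = Om d
    rw [← cj_image_comp, hb, ha]
  inv_mem' {a} (ha : cj a '' Om d = Om d) := by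
    show cj a⁻¹ '' Om d = Om d
    conv_lhs => rw [← ha, cj_image_comp, inv_mul_cancel]
    ext y; simp [cj]

namespace Hy

variable (h : Hy d φ E x₁)
include h

theorem om_sub {x : G} (hx : x ∈ Om d) : x ∈ Dc d := by
  rcases hx with rfl | hx | hx
  exacts [h.d_mem, hx.1, hx.1]

theorem om_closed {x y : G} (hx : x ∈ Om d) (hy : y ∈ nbr (Dc d) x) : y ∈ Om d := by
  rcases hx with rfl | hx | hx
  · exact Or.inr (Or.inl hy)
  · by_cases e : y = d
    · exact Or.inl e
    by_cases hc : Commute d y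
    · exact Or.inr (Or.inl ⟨hy.1, e, hc⟩)
    · exact Or.inr (Or.inr ⟨hy.1, hc, x, hx, nbr_symm hx.1 hy⟩)
  · exact Or.inr (h.closed2 hx hy)

theorem om_comm {x y : G} (hx : x ∈ Om d) (hy : y ∈ Dc d) (hc : Commute x y) : y ∈ Om d := by
  by_cases e : y = x
  · exact e ▸ hx
  · exact h.om_closed hx ⟨hy, e, hc⟩

theorem image_eq {g : G} (hg : cj g d ∈ Om d) : cj g '' Om d = Om d := by
  have hstep : ∀ {u}, u ∈ nbr (Dc d) d → cj g u ∈ Om d := fun hu => h.om_closed hg (nbr_cj_mem hu rfl)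
  refine Set.eq_of_subset_of_ncard_le ?_ (by rw [Set.ncard_image_of_injective _ (cj_inj g)]) (Set.toFinite _)
  rintro _ ⟨u, hu, rfl⟩
  rcases hu with rfl | hu | ⟨hu, -, a, ha, ha'⟩
  · exact hg
  · exact hstep hu
  · exact h.om_closed (hstep ha) (nbr_cj_mem (nbr_symm hu ha') rfl)

theorem mem_St {g : G} : g ∈ St d ↔ cj g d ∈ Om d :=
  ⟨fun k => (show cj g '' Om d = Om d from k) ▸ Set.mem_image_of_mem _ (Or.inl rfl), fun k => h.image_eq k⟩

omit h in
theorem St_maps {g x : G} (hg : g ∈ St d) (hx : x ∈ Om d) : cj g x ∈ Om d :=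
  (show cj g '' Om d = Om d from hg) ▸ Set.mem_image_of_mem _ hx

theorem exists_to {x : G} (hx : x ∈ Om d) : ∃ g ∈ St d, cj g d = x := by
  obtain ⟨g, hg⟩ := isConj_iff.1 (h.om_sub hx)
  exact ⟨g, h.mem_St.2 (show g * d * g⁻¹ ∈ Om d by rw [hg]; exact hx), hg⟩

/-- Whatever carries one point of the component into it preserves it. -/
theorem mem_St_of {g x : G} (hx : x ∈ Om d) (hgx : cj g x ∈ Om d) : g ∈ St d := by
  obtain ⟨g₀, hg₀, rfl⟩ := h.exists_to hx
  have := h.mem_St.2 (show cj (g * g₀) d ∈ Om d by rwa [← cj_cj])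
  simpa using mul_mem this (inv_mem hg₀)

theorem cent_le {g x : G} (hx : x ∈ Om d) (hg : Commute g x) : g ∈ St d :=
  h.mem_St_of hx (by rwa [cj_of_commute hg])

theorem self_mem {x : G} (hx : x ∈ Om d) : x ∈ St d := by
  rcases hx with rfl | hx | ⟨-, -, a, ha, ha'⟩
  · exact h.cent_le (Or.inl rfl) (Commute.refl _)
  · exact h.cent_le (Or.inl rfl) hx.2.2.symm
  · exact h.cent_le (Or.inr (Or.inl ha)) ha'.2.2

theorem card_om : (Om d).ncard = 31671 := by
  rw [Om, Set.ncard_insert_of_notMem ?_ (Set.toFinite _),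
    Set.ncard_union_eq ?_ (Set.toFinite _) (Set.toFinite _), h.card_nbr h.d_mem, h.card_far2]
  · exact Set.disjoint_left.2 fun y hy hy' => hy'.2.1 hy.2.2
  · rintro (k | k)
    · exact k.2.1 rfl
    · exact k.2.1 (Commute.refl _)

/-- An element of square one in the stabiliser fixes a point. -/
theorem exists_fixed {t : G} (ht : t ∈ St d) (htt : t * t = 1) : ∃ x ∈ Om d, Commute t x := by
  classical
  let σ : Equiv.Perm (Om d) :=
    { toFun := fun x => ⟨cj t x, St_maps ht x.2⟩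
      invFun := fun x => ⟨cj t x, St_maps ht x.2⟩
      left_inv := fun x => Subtype.ext (by show cj t (cj t x) = x; rw [cj_cj, htt, cj_one])
      right_inv := fun x => Subtype.ext (by show cj t (cj t x) = x; rw [cj_cj, htt, cj_one]) }
  have : Fintype (Om d) := Fintype.ofFinite _
  have hσ : σ ^ 2 ^ 1 = 1 := Equiv.ext fun x => Subtype.ext (by
    show cj t (cj t x) = x
    rw [cj_cj, htt, cj_one])
  have : Fact (Nat.Prime 2) := ⟨Nat.prime_two⟩
  have hodd : ¬ 2 ∣ Fintype.card (Om d) := by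
    rw [← Nat.card_eq_fintype_card, Nat.card_coe_set_eq, h.card_om]; norm_num
  obtain ⟨⟨x, hx⟩, hfix⟩ := Equiv.Perm.exists_fixed_point_of_prime hodd hσ
  exact ⟨x, hx, commute_of_cj (congrArg Subtype.val hfix)⟩

/-- The stabiliser contains no other conjugate. -/
theorem mem_om_of_St {y : G} (hy : y ∈ Dc d) (hyS : y ∈ St d) : y ∈ Om d := by
  obtain ⟨x, hx, hc⟩ := h.exists_fixed hyS (h.sq hy)
  exact h.om_comm hx hy hc.symm

theorem braid_om {x y : G} (hx : x ∈ Om d) (hy : y ∈ Om d) (hxy : ¬ Commute x y) : x * y * x = y * x * y := by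
  obtain ⟨g, hg, rfl⟩ := h.exists_to hx
  have hy' : cj g⁻¹ y ∈ Om d := St_maps (inv_mem hg) hy
  have hnc : ¬ Commute d (cj g⁻¹ y) := fun k => hxy (by
    have := (commute_conj_iff g d (cj g⁻¹ y)).2 k
    rwa [show g * cj g⁻¹ y * g⁻¹ = y by simp [cj, mul_assoc]] at this)
  have key : d * cj g⁻¹ y * d = cj g⁻¹ y * d * cj g⁻¹ y := by
    rcases hy' with e | k | ⟨hyD, -, a, ha, ha'⟩
    · exact absurd (e.symm ▸ Commute.refl d) hnc
    · exact absurd k.2.2 hnc
    · exact h.braid_nbr ha.1 (nbr_symm h.d_mem ha) (nbr_symm hyD ha') hnc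
  have := congrArg (cj g) key
  rwa [cj_mul', cj_mul', cj_mul', cj_mul', cj_cj g g⁻¹, mul_inv_cancel, cj_one] at this

theorem three_om {x y : G} (hx : x ∈ Om d) (hy : y ∈ Om d) (hxy : ¬ Commute x y) : (x * y) ^ 3 = 1 := by
  have e : (x * y) ^ 3 = (x * y * x) * (y * x * y) := by simp [pow_succ, mul_assoc]
  rw [e, h.braid_om hx hy hxy, mul_assoc (y * x) y, ← mul_assoc y (y * x), ← mul_assoc y y x,
    h.sq (h.om_sub hy), one_mul, ← mul_assoc (y * x), mul_assoc y x x, h.sq (h.om_sub hx), mul_one,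
    h.sq (h.om_sub hy)]

/-- A commuting pair is carried to the involution and one of its neighbours. -/
theorem pair_to {a b : G} (ha : a ∈ Om d) (hb : b ∈ Om d) (hab : Commute a b) (hne : a ≠ b) :
    ∃ g ∈ St d, cj g a = d ∧ cj g b ∈ nbr (Dc d) d := by
  obtain ⟨g, hg, rfl⟩ := h.exists_to ha
  have e : cj g⁻¹ (cj g d) = d := by rw [cj_cj, inv_mul_cancel, cj_one]
  exact ⟨g⁻¹, inv_mem hg, e, nbr_cj_mem ⟨h.om_sub hb, hne.symm, hab⟩ e⟩

end Hy

end CfsgLib.ThreeTrans.FiCent23
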