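import Mathlib
import Cfsg.Prelude.Def_CaseTheorems
import Cfsg.Agent.Lib.Involutions.BrauerSuzuki
import Cfsg.Agent.Lib.PCore.Basic
import Cfsg.Agent.Lib.ThreeTrans.FiCent23.Component

/-! The centraliser of the product of two commuting members of the component lies in its stabiliser: the
members are isolated in the quotient, and a group of odd order inverted by five involutions with trivial
product is trivial. -/

set_option autoImplicit false
set_option linter.unusedSectionVars false

namespace CfsgLib.ThreeTrans.FiCent23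

open CfsgLib.ThreeTrans CfsgLib.ThreeTrans.Tower CfsgLib.ThreeTrans.Classif CfsgLib.ThreeTrans.TypeTop
open CfsgLib.ThreeTrans.LocalSymThree (nbr nbr_symm)

universe u v

variable {G : Type u} [Group G] [Finite G] {Y : Type v} [Group Y] [Finite Y] {d : G} {φ : Cd d →* Y}
  {E : Set Y} {x₁ : Cd d}

/-- Three distinct pairwise commuting members have no relation. -/
theorem M22.no_three (h : M22 E) {a b c : Y} (t : Triple E a b c) : a * b * c ≠ 1 := by
  obtain ⟨ha, hb, hc, nab, nac, nbc, cab, cac, cbc⟩ := t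
  have := h.rel (j := 3) (by norm_num) (by norm_num) [a, b, c] (by simp [nab, nac, nbc]) rfl
    (by simp [ha, hb, hc]) (by simp [cab, cab.symm, cac, cac.symm, cbc, cbc.symm])
  simpa [mul_assoc] using this

namespace Hy

variable (h : Hy d φ E x₁)
include h

/-- A member commuting with the product of a commuting pair commutes with both. -/
theorem commute_of_prod {a b ω : G} (ha : a ∈ Om d) (hb : b ∈ Om d) (_hab : Commute a b) (hne : a ≠ b)
    (hω : ω ∈ Om d) (hc : Commute ω (a * b)) : Commute ω a ∧ Commute ω b := by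
  have hb' : Commute ω a → Commute ω b := fun k => by
    have := k.inv_right.mul_right hc
    rwa [inv_mul_cancel_left] at this
  have ha' : Commute ω b → Commute ω a := fun k => by
    have := hc.mul_right k.inv_right
    rwa [mul_inv_cancel_right] at this
  by_cases k : Commute ω a
  · exact ⟨k, hb' k⟩
  exfalso
  have k' : ¬ Commute ω b := fun q => k (ha' q)
  have e1 := h.braid_om hω ha k
  have e2 := h.braid_om hω hb k'
  have e3 : a * ω * a = b * ω * b := by
    calc a * ω * a = a * (ω * (a * b)) * b := by simp only [mul_assoc, h.sq (h.om_sub hb), mul_one]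
      _ = a * (a * b * ω) * b := by rw [hc.eq]
      _ = b * ω * b := by simp only [← mul_assoc, h.sq (h.om_sub ha), one_mul]
  rw [← e1, ← e2] at e3
  exact hne (mul_left_cancel (mul_right_cancel e3))

/-- Two commuting pairs inside four commuting members with the same product coincide. -/
theorem pair_eq {a b a' b' : G} (ha : a ∈ Om d) (hb : b ∈ Om d) (hab : Commute a b) (hne : a ≠ b)
    (ha' : a' ∈ Dc d) (hb' : b' ∈ Dc d) (h1 : Commute a a') (h2 : Commute a b') (h3 : Commute b a')
    (h4 : Commute b b') (h5 : Commute a' b') (e : a * b = a' * b') : a' = a ∨ a' = b := by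
  by_contra hn
  simp only [not_or] at hn
  obtain ⟨n1, n2⟩ := hn
  have n3 : b' ≠ a := fun k => n2 (by
    rw [k, ← h1.eq] at e
    exact (mul_left_cancel e).symm)
  have n4 : b' ≠ b := fun k => n1 (by
    rw [k] at e
    exact (mul_right_cancel e).symm)
  have n5 : a' ≠ b' := fun k => hne (by
    rw [← k, h.sq ha'] at e
    exact (eq_inv_of_mul_eq_one_left e).trans (h.inv (h.om_sub hb)))
  obtain ⟨g, -, hga, hgb⟩ := h.pair_to ha hb hab hne
  obtain ⟨e1, he1, k1⟩ := h.mem_nbr_d.1 hgb
  obtain ⟨e2, he2, k2⟩ := h.mem_nbr_d.1 (nbr_cj_mem (g := g) ⟨ha', n1, h1⟩ hga)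
  obtain ⟨e3, he3, k3⟩ := h.mem_nbr_d.1 (nbr_cj_mem (g := g) ⟨hb', n3, h2⟩ hga)
  have hrel : dC d * lift φ x₁ e1 = lift φ x₁ e2 * lift φ x₁ e3 := Subtype.ext (by
    show d * _ = _ * _
    rw [← k1, ← k2, ← k3, ← cj_mul', ← e, cj_mul', hga])
  have hrel' := congrArg φ hrel
  rw [map_mul, map_mul, h.cov.map_dC, h.cov.map_lift h.seed he1, h.cov.map_lift h.seed he2,
    h.cov.map_lift h.seed he3, one_mul] at hrel'
  have cm : ∀ {x y : G} {p q : Y}, p ∈ E → q ∈ E → cj g x = (lift φ x₁ p : G) → cj g y = (lift φ x₁ q : G) →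
      Commute x y → Commute p q := fun {x y p q} hp hq kx ky hc => by
    have hc' : Commute (lift φ x₁ p : G) (lift φ x₁ q : G) := by
      rw [← kx, ← ky]; exact (commute_conj_iff g x y).2 hc
    exact (h.cov.lift_comm h.seed hp hq).1 (Subtype.ext hc'.eq)
  have ne' : ∀ {x y : G} {p q : Y}, cj g x = (lift φ x₁ p : G) → cj g y = (lift φ x₁ q : G) → x ≠ y → p ≠ q :=
    fun {x y p q} kx ky hxy hpq => hxy (cj_inj g (by rw [kx, ky, hpq]))
  have t : Triple E e1 e2 e3 := ⟨he1, he2, he3, ne' k1 k2 (Ne.symm n2), ne' k1 k3 (Ne.symm n4), ne' k2 k3 n5,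
    cm he1 he2 k1 k2 h3, cm he1 he3 k1 k3 h4, cm he2 he3 k2 k3 h5⟩
  refine h.cov.m22.no_three t ?_
  rw [mul_assoc, ← hrel', mul_self h.cov.m22.set he1]

/-- An element preserving the component and the product preserves the pair. -/
theorem conj_pair {a b k : G} (ha : a ∈ Om d) (hb : b ∈ Om d) (hab : Commute a b) (hne : a ≠ b)
    (hk : k ∈ St d) (hc : Commute k (a * b)) : cj k a = a ∨ cj k a = b := by
  have ha' : cj k a ∈ Om d := St_maps hk ha
  have hb' : cj k b ∈ Om d := St_maps hk hb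
  have e : cj k (a * b) = a * b := cj_of_commute hc
  have s1 : Commute a (a * b) := (Commute.refl a).mul_right hab
  have s2 : Commute b (a * b) := hab.symm.mul_right (Commute.refl b)
  have q1 : Commute (cj k a) (a * b) := by rw [← e]; exact (commute_conj_iff k a (a * b)).2 s1
  have q2 : Commute (cj k b) (a * b) := by rw [← e]; exact (commute_conj_iff k b (a * b)).2 s2
  obtain ⟨c1, c2⟩ := h.commute_of_prod ha hb hab hne ha' q1
  obtain ⟨c3, c4⟩ := h.commute_of_prod ha hb hab hne hb' q2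
  exact h.pair_eq ha hb hab hne (h.om_sub ha') (h.om_sub hb') c1.symm c3.symm c2.symm c4.symm
    ((commute_conj_iff k a b).2 hab) (by rw [← cj_mul', e])

/-- A subgroup of odd order modulo `⟨d * b⟩` centralising the pair and normalised by its centraliser. -/
theorem small {b : G} (hb : b ∈ nbr (Dc d) d) (L : Subgroup G)
    (hc : ∀ k ∈ L, Commute k d ∧ Commute k b)
    (hn : ∀ g k, Commute g d → Commute g b → k ∈ L → g * k * g⁻¹ ∈ L)
    (ho : ∀ k ∈ L, ∃ m, Odd m ∧ (k ^ m = 1 ∨ k ^ m = d * b)) : ∀ k ∈ L, k = 1 ∨ k = d * b := by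
  obtain ⟨e, he, rfl⟩ := h.mem_nbr_d.1 hb
  set m22 := h.cov.m22 with hm22
  have hs := m22.set
  have hmE := h.cov.map_lift h.seed he
  let L' : Subgroup Y := (L.subgroupOf (Cd d)).map φ
  have memL : ∀ {y : Y}, y ∈ L' ↔ ∃ k : Cd d, (k : G) ∈ L ∧ φ k = y := fun {y} => by
    simp [L', Subgroup.mem_map, Subgroup.mem_subgroupOf]
  have hce : ∀ y ∈ L', Commute y e := fun y hy => by
    obtain ⟨k, hk, rfl⟩ := memL.1 hy
    have : Commute k (lift φ x₁ e) := Subtype.ext (hc _ hk).2.eq
    have := this.map φ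
    rwa [hmE] at this
  have hnY : ∀ z y, Commute z e → y ∈ L' → z * y * z⁻¹ ∈ L' := fun z y hz hy => by
    obtain ⟨k, hk, rfl⟩ := memL.1 hy
    obtain ⟨g, rfl⟩ := h.cov.surj z
    refine memL.2 ⟨g * k * g⁻¹, ?_, by rw [map_mul, map_mul, map_inv]⟩
    refine hn (g : G) (k : G) (Subgroup.mem_centralizer_singleton_iff.1 g.2) ?_ hk
    exact congrArg Subtype.val (h.cov.commute_lift (by rw [hmE]; exact he) (by rw [hmE]; exact hz)).eq
  have hoY : ∀ y ∈ L', ∃ m, Odd m ∧ (y ^ m = 1 ∨ y ^ m = e) := fun y hy => by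
    obtain ⟨k, hk, rfl⟩ := memL.1 hy
    obtain ⟨m, hm, k1 | k1⟩ := ho _ hk
    · exact ⟨m, hm, Or.inl (by rw [← map_pow, show k ^ m = 1 from Subtype.ext k1, map_one])⟩
    · refine ⟨m, hm, Or.inr ?_⟩
      rw [← map_pow, show k ^ m = dC d * lift φ x₁ e from Subtype.ext k1, map_mul, h.cov.map_dC, one_mul, hmE]
  have hinv : ∀ {y : Y}, y ∈ L' → y * y = 1 → y = 1 ∨ y = e := fun {y} hy hyy => by
    obtain ⟨m, ⟨j, rfl⟩, k1⟩ := hoY y hy
    rwa [pow_succ, pow_mul, pow_two, hyy, one_pow, one_mul] at k1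
  -- the orbit of a member commuting with `e` has no two commuting members
  have orb : ∀ f ∈ Dd E e, ∀ y ∈ L', Commute f (y * f * y⁻¹) → y * f * y⁻¹ = f := by
    intro f hf y hy hfg
    by_contra hne
    have hgE : y * f * y⁻¹ ∈ E := m22.closed.conj y f hf.1
    have hfe : Commute f e := hf.2.2.symm
    have hr : y * f * y⁻¹ * f ∈ L' := by
      rw [show y * f * y⁻¹ * f = y * (f * y⁻¹ * f⁻¹) * (f * f) by group, mul_self hs hf.1, mul_one]
      exact mul_mem hy (hnY f _ hfe (inv_mem hy))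
    have hrr := mul_sq_one (mul_self hs hgE) (mul_self hs hf.1) hfg.symm
    rcases hinv hr hrr with k1 | k1
    · exact hne ((eq_inv_of_mul_eq_one_left k1).trans (inv_eq hs hf.1))
    · have hge : y * f * y⁻¹ ≠ e := fun k => hf.2.1 (by
        rw [mul_inv_eq_iff_eq_mul, ← (hce y hy).eq] at k
        exact mul_left_cancel k)
      have cge : Commute (y * f * y⁻¹) e := ((hce y hy).mul_left hfe).mul_left (hce y hy).inv_left
      refine m22.no_three ⟨hgE, hf.1, he, hne, hge, hf.2.1, hfg.symm, cge, hfe⟩ ?_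
      rw [k1, mul_self hs he]
  have cent : ∀ f ∈ Dd E e, ∀ y ∈ L', y * f * y⁻¹ = f := by
    intro f hf y hy
    by_contra hne
    have hnc : ¬ Commute f (y * f * y⁻¹) := fun k => hne (orb f hf y hy k)
    have hgE : y * f * y⁻¹ ∈ E := m22.closed.conj y f hf.1
    obtain ⟨w, ⟨hwe, hwf⟩, hwg⟩ : ∃ w ∈ Dd E e ∩ Dd E f, ¬ Commute w (y * f * y⁻¹) := by
      by_contra hall
      simp only [not_exists, not_and, not_not] at hall
      have hsub : Dd E e ∩ Dd E f ⊆ Dd E f ∩ Dd E (y * f * y⁻¹) := fun w hw =>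
        ⟨hw.2, hw.1.1, fun k => hnc (by rw [← k]; exact hw.2.2.2), (hall w hw).symm⟩
      have := Set.ncard_le_ncard hsub (Set.toFinite _)
      rw [m22.loc.lam e he f hf, m22.loc.mu f hf.1 _ hgE hnc] at this
      omega
    have cwf : Commute w f := hwf.2.2.symm
    have cwe : Commute w e := hwe.2.2.symm
    have cfe : Commute f e := hf.2.2.symm
    have hww := mul_self hs hwe.1
    have hff := mul_self hs hf.1
    have wi := inv_eq hs hwe.1
    have fi := inv_eq hs hf.1
    -- `w g w` lies in both orbits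
    have o1 : w * (y * f * y⁻¹) * w = (w * y * w⁻¹) * f * (w * y * w⁻¹)⁻¹ := by
      rw [show (w * y * w⁻¹) * f * (w * y * w⁻¹)⁻¹ = w * y * (w⁻¹ * f * w) * y⁻¹ * w⁻¹ by group,
        show w⁻¹ * f * w = f by rw [mul_assoc, cwf.symm.eq, inv_mul_cancel_left], wi]
      simp [mul_assoc]
    have o2 : (y * f * y⁻¹) * w * (y * f * y⁻¹) =
        (y * (f * y⁻¹ * f⁻¹)) * w * (y * (f * y⁻¹ * f⁻¹))⁻¹ := by
      rw [show (y * (f * y⁻¹ * f⁻¹)) * w * (y * (f * y⁻¹ * f⁻¹))⁻¹ =
          y * f * y⁻¹ * (f⁻¹ * w * f) * (y * f⁻¹ * y⁻¹) by group,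
        show f⁻¹ * w * f = w by rw [mul_assoc, cwf.eq, inv_mul_cancel_left], fi]
    have hbr := braid hs hwe.1 hgE hwg
    rw [o1, o2] at hbr
    have hy1 : w * y * w⁻¹ ∈ L' := hnY w y cwe hy
    have hy2 : y * (f * y⁻¹ * f⁻¹) ∈ L' := mul_mem hy (hnY f _ cfe (inv_mem hy))
    set y2 := y * (f * y⁻¹ * f⁻¹)
    have hw' : w = (y2⁻¹ * (w * y * w⁻¹)) * f * (y2⁻¹ * (w * y * w⁻¹))⁻¹ := by
      calc w = y2⁻¹ * (y2 * w * y2⁻¹) * y2 := by group
        _ = _ := by rw [← hbr]; group
    have key := orb f hf _ (mul_mem (inv_mem hy2) hy1) (hw' ▸ cwf.symm)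
    rw [← hw'] at key
    exact hwf.2.1 key
  have triv : ∀ y ∈ L', y = 1 ∨ y = e := by
    intro y hy
    have hye := hce y hy
    have hsq : ∀ p ∈ E, Commute (y * y) p := by
      intro p hp
      by_cases hpe : p = e
      · rw [hpe]; exact hye.mul_left hye
      by_cases hc' : Commute e p
      · have k : Commute y p := mul_inv_eq_iff_eq_mul.1 (cent p ⟨hp, hpe, hc'⟩ y hy)
        exact k.mul_left k
      have hq : ¬ Commute e (y * p * y⁻¹) := fun k => hc' ((commute_conj_iff y e p).1 (by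
        rwa [show y * e * y⁻¹ = e from mul_inv_eq_iff_eq_mul.2 hye.eq]))
      rcases m22.loc.farTwins e he p hp _ (m22.closed.conj y p hp) hc' hq fun u hu => by
        have := commute_conj_iff y p u
        rw [cent u hu y hy] at this
        exact this.symm with k | k
      · have k' : Commute y p := mul_inv_eq_iff_eq_mul.1 k
        exact k'.mul_left k'
      · refine mul_inv_eq_iff_eq_mul.1 ?_
        rw [show y * y * p * (y * y)⁻¹ = y * (y * p * y⁻¹) * y⁻¹ by group, k,
          show y * (e * p * e) * y⁻¹ = (y * e * y⁻¹) * (y * p * y⁻¹) * (y * e * y⁻¹) by group, k,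
          show y * e * y⁻¹ = e from mul_inv_eq_iff_eq_mul.2 hye.eq]
        simp [mul_assoc, mul_self_mul hs he, mul_self hs he]
    have hcen : y * y ∈ Subgroup.center Y := Subgroup.mem_center_iff.2 fun z => by
      have : z ∈ Subgroup.closure E := by rw [m22.group.2.2]; exact Subgroup.mem_top z
      have hle : Subgroup.closure E ≤ Subgroup.centralizer {y * y} := (Subgroup.closure_le _).2 fun p hp =>
        Subgroup.mem_centralizer_singleton_iff.2 (hsq p hp).eq.symm
      exact Subgroup.mem_centralizer_singleton_iff.1 (hle this)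
    rw [m22.loc.center, Subgroup.mem_bot] at hcen
    exact hinv hy hcen
  intro k hk
  have hkC : k ∈ Cd d := Subgroup.mem_centralizer_singleton_iff.2 (hc k hk).1.eq
  obtain ⟨m, ⟨j, rfl⟩, hm⟩ := ho k hk
  have hbb : (lift φ x₁ e : G) * (lift φ x₁ e : G) = 1 := h.sq hb.1
  have hdd := h.cov.dd
  have hdb : Commute d (lift φ x₁ e : G) := hb.2.2
  have hk2 : k * k = 1 := by
    rcases triv _ (memL.2 ⟨⟨k, hkC⟩, hk, rfl⟩) with t | t
    · rcases h.cov.ker' _ t with t' | t'
      · rw [show k = 1 from congrArg Subtype.val t', one_mul]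
      · rw [show k = d from congrArg Subtype.val t', hdd]
    · rcases h.cov.same (g := lift φ x₁ e) (g' := ⟨k, hkC⟩) (hmE.trans t.symm) with t' | t'
      · rw [show k = _ from congrArg Subtype.val t', hbb]
      · rw [show k = (lift φ x₁ e : G) * d from congrArg Subtype.val t']
        exact mul_sq_one hbb hdd hdb.symm
  rwa [pow_succ, pow_mul, pow_two, hk2, one_pow, one_mul] at hm

/-- The same for any pair in the component. -/
theorem small_pair {a b : G} (ha : a ∈ Om d) (hb : b ∈ Om d) (hab : Commute a b) (hne : a ≠ b) (L : Subgroup G)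
    (hc : ∀ k ∈ L, Commute k a ∧ Commute k b)
    (hn : ∀ g k, Commute g a → Commute g b → k ∈ L → g * k * g⁻¹ ∈ L)
    (ho : ∀ k ∈ L, ∃ m, Odd m ∧ (k ^ m = 1 ∨ k ^ m = a * b)) : ∀ k ∈ L, k = 1 ∨ k = a * b := by
  obtain ⟨g, -, hga, hgb⟩ := h.pair_to ha hb hab hne
  intro k hk
  have cback : ∀ {y x : G}, Commute y (cj g x) → Commute (cj g⁻¹ y) x := fun {y x} q => by
    have q' : Commute (cj g⁻¹ y) (cj g⁻¹ (cj g x)) := (commute_conj_iff g⁻¹ _ _).2 q
    rwa [cj_cj, inv_mul_cancel, cj_one] at q'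
  let L₁ := L.map (MulAut.conj g).toMonoidHom
  have mem₁ : ∀ {y}, y ∈ L₁ ↔ ∃ k ∈ L, cj g k = y := fun {y} => Subgroup.mem_map
  have := h.small hgb L₁ (fun y hy => by
      obtain ⟨z, hz, rfl⟩ := mem₁.1 hy
      rw [← hga]
      exact ⟨(commute_conj_iff g z a).2 (hc z hz).1, (commute_conj_iff g z b).2 (hc z hz).2⟩)
    (fun t y htd htb hy => by
      obtain ⟨z, hz, rfl⟩ := mem₁.1 hy
      rw [← hga] at htd
      refine mem₁.2 ⟨_, hn (cj g⁻¹ t) z (cback htd) (cback htb) hz, ?_⟩
      simp [cj, mul_assoc])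
    (fun y hy => by
      obtain ⟨z, hz, rfl⟩ := mem₁.1 hy
      obtain ⟨m, hm, q⟩ := ho z hz
      refine ⟨m, hm, ?_⟩
      rw [show cj g z ^ m = cj g (z ^ m) from conj_pow, ← hga, ← cj_mul']
      exact q.imp (fun q => by rw [q]; simp [cj]) fun q => by rw [q])
    (cj g k) (mem₁.2 ⟨k, hk, rfl⟩)
  rw [← hga, ← cj_mul'] at this
  exact this.imp (fun q => cj_inj g (q.trans (by simp [cj]))) fun q => cj_inj g q

/-- The product of a pair is a product of five members commuting with it. -/
theorem five {a b : G} (ha : a ∈ Om d) (hb : b ∈ Om d) (hab : Commute a b) (hne : a ≠ b) :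
    ∃ l : List G, l.length = 5 ∧ (∀ y ∈ l, y ∈ Om d ∧ Commute y (a * b)) ∧ l.prod = a * b := by
  classical
  obtain ⟨g, hg, hga, hgb⟩ := h.pair_to ha hb hab hne
  obtain ⟨e, he, k1⟩ := h.mem_nbr_d.1 hgb
  obtain ⟨f, hf, nef, cef⟩ := h.cov.m22.exists_second he
  obtain ⟨c, t⟩ := h.cov.m22.exists_third he hf nef cef
  obtain ⟨B, hB, heB, hfB, hcB⟩ := h.cov.m22.exists_base_through t
  have hex := h.cov.hex_lift h.seed hB heB hfB hcB t
  have hsub := h.cov.hexF_sub h.seed hB heB hfB hcB
  have heH : e ∈ hexF E e f c := mem_hexF.2 ⟨he, fun z _ ze _ _ => ze.symm⟩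
  set S := (hexF E e f c).erase e with hS
  have hSB : ↑S ⊆ B := (Finset.coe_subset.2 (Finset.erase_subset _ _)).trans hsub
  have hcard : S.card = 5 := by rw [hS, Finset.card_erase_of_mem heH, h.cov.m22.card_hexF t]
  rw [← Finset.insert_erase heH, h.cov.sp_insert h.seed hB heB hSB (Finset.notMem_erase _ _)] at hex
  have hsp : sp φ x₁ S = dC d * lift φ x₁ e := by
    have hs2 := h.cov.lift_sq h.seed he
    rw [(h.cov.cen (lift φ x₁ e)).symm.eq, ← hex, ← mul_assoc, hs2, one_mul]
  have hlist : (S.toList.map (lift φ x₁)).prod = sp φ x₁ S := by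
    rw [h.cov.sp_eq h.seed hB hSB, ← Finset.noncommProd_toFinset S.toList (lift φ x₁)
      (fun x hx y hy _ => h.cov.lift_comm_base h.seed hB (hSB (by simpa using hx)) (hSB (by simpa using hy)))
      (Finset.nodup_toList S)]
    exact Finset.noncommProd_congr (Finset.toList_toFinset S) (fun _ _ => rfl) _
  refine ⟨((S.toList.map (lift φ x₁)).map (Cd d).subtype).map (MulAut.conj g⁻¹), by simp [hcard], ?_, ?_⟩
  · intro y hy
    simp only [List.mem_map, Finset.mem_toList] at hy
    obtain ⟨_, ⟨_, ⟨z, hz, rfl⟩, rfl⟩, rfl⟩ := hy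
    have hzE : z ∈ E := hB.sub (hSB hz)
    have hzn : (lift φ x₁ z : G) ∈ nbr (Dc d) d := h.mem_nbr_d.2 ⟨z, hzE, rfl⟩
    refine ⟨St_maps (inv_mem hg) (Or.inr (Or.inl hzn)), ?_⟩
    have q : Commute (lift φ x₁ z : G) (cj g (a * b)) := by
      rw [cj_mul', hga, k1]
      exact hzn.2.2.symm.mul_right
        (congrArg Subtype.val (h.cov.lift_comm_base h.seed hB (hSB hz) heB).eq : Commute (lift φ x₁ z : G) _)
    have q' : Commute (cj g⁻¹ (lift φ x₁ z : G)) (cj g⁻¹ (cj g (a * b))) := (commute_conj_iff g⁻¹ _ _).2 q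
    rwa [cj_cj, inv_mul_cancel, cj_one] at q'
  · rw [← map_list_prod, ← map_list_prod, hlist, hsp]
    show cj g⁻¹ (d * (lift φ x₁ e : G)) = a * b
    rw [← k1, ← hga, ← cj_mul', cj_cj, inv_mul_cancel, cj_one]

end Hy

/-- A list of elements each inverting an element acts by the sign of its length. -/
theorem conj_list_inv {Q : Type*} [Group Q] {x : Q} :
    ∀ l : List Q, (∀ w ∈ l, w * x * w⁻¹ = x⁻¹) → l.prod * x * l.prod⁻¹ = if Even l.length then x else x⁻¹
  | [], _ => by simp
  | w :: l, hl => by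
    have ih := conj_list_inv l fun z hz => hl z (List.mem_cons_of_mem w hz)
    rw [List.prod_cons, show w * l.prod * x * (w * l.prod)⁻¹ = w * (l.prod * x * l.prod⁻¹) * w⁻¹ by group, ih,
      List.length_cons]
    have hw := hl w List.mem_cons_self
    by_cases he : Even l.length
    · rw [if_pos he, if_neg (by rw [Nat.even_add_one, not_not]; exact he), hw]
    · rw [if_neg he, if_pos (by rw [Nat.even_add_one]; exact he)]
      have := congrArg (fun t => t⁻¹) hw
      simpa [mul_assoc] using this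

namespace Hy

variable (h : Hy d φ E x₁)
include h

/-- The centraliser of the product of a commuting pair preserves the component. -/
theorem cent_pair {a b : G} (ha : a ∈ Om d) (hb : b ∈ Om d) (hab : Commute a b) (hne : a ≠ b) {g : G}
    (hg : Commute g (a * b)) : g ∈ St d := by
  classical
  have haa := h.sq (h.om_sub ha)
  have hbb := h.sq (h.om_sub hb)
  set s := a * b with hs
  have hss : s * s = 1 := mul_sq_one haa hbb hab
  have hs1 : s ≠ 1 := fun k => hne ((eq_inv_of_mul_eq_one_left k).trans (h.inv (h.om_sub hb)))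
  have has : Commute a s := (Commute.refl a).mul_right hab
  have hbs : Commute b s := hab.symm.mul_right (Commute.refl b)
  let C := Subgroup.centralizer ({s} : Set G)
  have memC : ∀ {x : G}, x ∈ C ↔ Commute x s := fun {x} =>
    ⟨fun k => Subgroup.mem_centralizer_singleton_iff.1 k, fun k => Subgroup.mem_centralizer_singleton_iff.2 k.eq⟩
  let N : Subgroup C := (Subgroup.zpowers s).subgroupOf C
  have hN : ∀ x : C, x ∈ N ↔ (x : G) = 1 ∨ (x : G) = s := by
    intro x
    show (x : G) ∈ Subgroup.zpowers s ↔ _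
    constructor
    · intro hx
      obtain ⟨n, hn⟩ := Subgroup.mem_zpowers_iff.1 hx
      rw [← hn]
      rcases Int.even_or_odd' n with ⟨m, rfl | rfl⟩
      · left; rw [zpow_mul, zpow_two, hss, one_zpow]
      · right; rw [zpow_add, zpow_mul, zpow_two, hss, one_zpow, one_mul, zpow_one]
    · rintro (k | k) <;> rw [k]
      exacts [one_mem _, Subgroup.mem_zpowers s]
  have : N.Normal := ⟨fun n hn x => by
    have hn' := (hN n).1 hn
    refine (hN _).2 (hn'.imp (fun k => ?_) fun k => ?_) <;>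
      simp only [Subgroup.coe_mul, Subgroup.coe_inv, k]
    · rw [mul_one, mul_inv_cancel]
    · rw [(memC.1 x.2).eq, mul_inv_cancel_right]⟩
  have : Finite C := inferInstance
  let aC : C := ⟨a, memC.2 has⟩
  have hiso : Cfsg.IsIsolatedInvolution (aC : C ⧸ N) := by
    refine ⟨orderOf_eq_prime ?_ ?_, ?_⟩
    · rw [pow_two, ← QuotientGroup.mk_mul, show aC * aC = 1 from Subtype.ext haa, QuotientGroup.mk_one]
    · intro k
      rcases (hN aC).1 ((QuotientGroup.eq_one_iff _).1 k) with k' | k'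
      · exact h.cov.d_ne_one (by
          obtain ⟨t, ht⟩ := isConj_iff.1 (h.om_sub ha)
          rw [show d = t⁻¹ * (t * d * t⁻¹) * t by group, ht, show a = 1 from k']; group)
      · have k'' : a * b = a * 1 := by rw [mul_one]; exact k'.symm
        obtain ⟨t, ht⟩ := isConj_iff.1 (h.om_sub hb)
        exact h.cov.d_ne_one (by
          rw [show d = t⁻¹ * (t * d * t⁻¹) * t by group, ht, mul_left_cancel k'']; group)
    intro x
    induction x using QuotientGroup.induction_on with
    | _ x =>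
      intro hcm
      have hxs : Commute (x : G) s := memC.1 x.2
      set a' := cj (x : G) a with ha'
      have ha'D : a' ∈ Dc d := Dc_cj _ (h.om_sub ha)
      have ha's : Commute a' s := by
        rw [← cj_of_commute hxs, ha']; exact (commute_conj_iff (x : G) a s).2 has
      rw [← QuotientGroup.mk_inv, ← QuotientGroup.mk_mul, ← QuotientGroup.mk_mul] at hcm ⊢
      have hcm' := QuotientGroup.eq.1 (hcm.eq : ((aC * (x * aC * x⁻¹) : C) : C ⧸ N) = ((x * aC * x⁻¹ * aC : C) : C ⧸ N))
      rw [hN] at hcm'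
      change (a * a')⁻¹ * (a' * a) = 1 ∨ (a * a')⁻¹ * (a' * a) = s at hcm'
      rw [mul_inv_rev, h.inv ha'D, h.inv (h.om_sub ha)] at hcm'
      suffices a' = a ∨ a' = b by
        symm
        rw [QuotientGroup.eq, hN]
        show a⁻¹ * a' = 1 ∨ a⁻¹ * a' = s
        rcases this with k | k <;> rw [k]
        · exact Or.inl (inv_mul_cancel a)
        · exact Or.inr (by rw [h.inv (h.om_sub ha)])
      rcases hcm' with k | k
      · have hca : Commute a a' := by
          show a * a' = a' * a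
          calc a * a' = a * a' * (a' * a * (a' * a)) := by
                rw [show a' * a * (a' * a) = 1 by simpa [mul_assoc] using k, mul_one]
            _ = a' * a := by simp [mul_assoc, ← mul_assoc a' a', h.sq ha'D, ← mul_assoc a a, haa]
        have ha'O : a' ∈ Om d := h.om_comm ha ha'D hca
        have hb'e : a' * cj (x : G) b = s := by rw [ha', ← cj_mul', cj_of_commute hxs]
        have hb' : cj (x : G) b ∈ Dc d := Dc_cj _ (h.om_sub hb)
        have hab' : Commute a' (cj (x : G) b) := (commute_conj_iff (x : G) a b).2 hab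
        have hb'O : cj (x : G) b ∈ Om d := h.om_comm ha'O hb' hab'
        have hb's : Commute (cj (x : G) b) s := by
          rw [← cj_of_commute hxs]; exact (commute_conj_iff (x : G) b s).2 hbs
        obtain ⟨c1, c2⟩ := h.commute_of_prod ha hb hab hne ha'O ha's
        obtain ⟨c3, c4⟩ := h.commute_of_prod ha hb hab hne hb'O hb's
        exact h.pair_eq ha hb hab hne ha'D hb' c1.symm c3.symm c2.symm c4.symm hab' hb'e.symm
      · exfalso
        have e1 : cj a' a = b := by
          rw [cj, h.inv ha'D]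
          calc a' * a * a' = a' * a * (a' * a) * a := by simp [mul_assoc, haa]
            _ = b := by
              rw [show a' * a * (a' * a) = s by simpa [mul_assoc] using k, hs, hab.eq, mul_assoc, haa, mul_one]
        have ha'O : a' ∈ Om d := h.mem_om_of_St ha'D (h.mem_St_of ha (e1 ▸ hb))
        have c1 := (h.commute_of_prod ha hb hab hne ha'O ha's).1
        exact hne (by rw [← e1, cj_of_commute c1])
  have hz := CfsgLib.Involutions.zstar (C ⧸ N) (aC : C ⧸ N) hiso
  have : Fact (Nat.Prime 2) := ⟨Nat.prime_two⟩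
  set O := Cfsg.pPrimeCore 2 (C ⧸ N) with hO
  have hOodd : Odd (Nat.card O) := by
    rw [Nat.odd_iff, ← Nat.two_dvd_ne_zero]
    exact CfsgLib.PCore.not_dvd_card_pPrimeCore
  let K : Subgroup C := O.comap (QuotientGroup.mk' N)
  have hKpow : ∀ k : C, (k : C ⧸ N) ∈ O → (k : C ⧸ N) ^ Nat.card O = 1 := fun k hk => by
    have := congrArg Subtype.val (pow_card_eq_one' (x := (⟨_, hk⟩ : O)))
    rwa [Subgroup.coe_pow, OneMemClass.coe_one] at this
  have hKm : ∀ k : C, (k : C ⧸ N) ∈ O →
      ((k : G) ^ Nat.card O = 1 ∨ (k : G) ^ Nat.card O = s) := fun k hk => by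
    have := hKpow k hk
    rw [← QuotientGroup.mk_pow, QuotientGroup.eq_one_iff, hN, Subgroup.coe_pow] at this
    exact this
  -- the part centralising the pair is trivial
  have hL : ∀ k : C, (k : C ⧸ N) ∈ O → Commute (k : G) a → Commute (k : G) b → k ∈ N := by
    intro k hk hka hkb
    let L : Subgroup G := K.map C.subtype ⊓ Subgroup.centralizer {a} ⊓ Subgroup.centralizer {b}
    have memL : ∀ {y}, y ∈ L ↔ (∃ k : C, (k : C ⧸ N) ∈ O ∧ (k : G) = y) ∧ Commute y a ∧ Commute y b := by
      intro y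
      simp only [L, Subgroup.mem_inf, Subgroup.mem_map, Subgroup.mem_centralizer_singleton_iff, and_assoc]
      exact Iff.rfl
    rw [hN]
    refine h.small_pair ha hb hab hne L (fun y hy => (memL.1 hy).2) ?_ ?_ (k : G) (memL.2 ⟨⟨k, hk, rfl⟩, hka, hkb⟩)
    · intro t y hta htb hy
      obtain ⟨⟨j, hj, rfl⟩, hya, hyb⟩ := memL.1 hy
      refine memL.2 ⟨⟨⟨t, memC.2 (hta.mul_right htb)⟩ * j * ⟨t, memC.2 (hta.mul_right htb)⟩⁻¹, ?_, rfl⟩, ?_, ?_⟩
      · rw [QuotientGroup.mk_mul, QuotientGroup.mk_mul, QuotientGroup.mk_inv]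
        exact (inferInstance : O.Normal).conj_mem _ hj _
      · exact (hta.mul_left hya).mul_left hta.inv_left
      · exact (htb.mul_left hyb).mul_left htb.inv_left
    · intro y hy
      obtain ⟨⟨j, hj, rfl⟩, -, -⟩ := memL.1 hy
      exact ⟨_, hOodd, hKm j hj⟩
  -- and so is the part preserving the component
  have hSt : ∀ k : C, (k : C ⧸ N) ∈ O → (k : G) ∈ St d → (k : C ⧸ N) = 1 := by
    intro k hk hkS
    have hks : Commute (k : G) s := memC.1 k.2
    have q : cj (k : G) a * cj (k : G) b = s := by rw [← cj_mul', cj_of_commute hks]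
    have h2 : cj ((k : G) * k) a = a ∧ cj ((k : G) * k) b = b := by
      rcases h.conj_pair ha hb hab hne hkS hks with e | e
      · have e' : cj (k : G) b = b := by rw [e] at q; exact mul_left_cancel q
        exact ⟨by rw [← cj_cj, e, e], by rw [← cj_cj, e', e']⟩
      · have e' : cj (k : G) b = a := by rw [e, hs, hab.eq] at q; exact mul_left_cancel q
        exact ⟨by rw [← cj_cj, e, e'], by rw [← cj_cj, e', e]⟩
    have hk2 : ((k * k : C) : C ⧸ N) ∈ O := by rw [QuotientGroup.mk_mul]; exact mul_mem hk hk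
    have := (QuotientGroup.eq_one_iff _).2 (hL (k * k) hk2 (commute_of_cj h2.1) (commute_of_cj h2.2))
    rw [QuotientGroup.mk_mul] at this
    obtain ⟨j, hj⟩ := hOodd
    have hp := hKpow k hk
    rwa [hj, pow_succ, pow_mul, pow_two, this, one_pow, one_mul] at hp
  have hinvert : ∀ ω (hω : ω ∈ Om d) (hc : Commute ω s), ∀ x ∈ O,
      ((⟨ω, memC.2 hc⟩ : C) : C ⧸ N) * x * ((⟨ω, memC.2 hc⟩ : C) : C ⧸ N)⁻¹ = x⁻¹ := by
    intro ω hω hc x hx
    set w : C ⧸ N := ((⟨ω, memC.2 hc⟩ : C) : C ⧸ N) with hw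
    have hww : w * w = 1 := by
      rw [hw, ← QuotientGroup.mk_mul, show (⟨ω, memC.2 hc⟩ : C) * ⟨ω, memC.2 hc⟩ = 1 from
        Subtype.ext (h.sq (h.om_sub hω)), QuotientGroup.mk_one]
    let σ : O →* O := (MulAut.conjNormal w : MulAut O).toMonoidHom
    have hσ : ∀ z : O, (σ z : C ⧸ N) = w * z * w⁻¹ := fun z => MulAut.conjNormal_apply w z
    have hfp : MonoidHom.FixedPointFree σ := by
      intro z hz
      have hz' : w * (z : C ⧸ N) * w⁻¹ = z := by rw [← hσ, hz]
      obtain ⟨k, hk⟩ := QuotientGroup.mk_surjective (z : C ⧸ N)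
      have hkO : (k : C ⧸ N) ∈ O := hk ▸ z.2
      rw [← hk, hw, ← QuotientGroup.mk_inv, ← QuotientGroup.mk_mul, ← QuotientGroup.mk_mul] at hz'
      have hz'' := QuotientGroup.eq.1 hz'.symm
      rw [hN, Subgroup.coe_mul, Subgroup.coe_mul, Subgroup.coe_mul, Subgroup.coe_inv, Subgroup.coe_inv] at hz''
      change ((k : G)⁻¹ * cj ω (k : G) = 1 ∨ (k : G)⁻¹ * cj ω (k : G) = s) at hz''
      refine Subtype.ext ?_
      show (z : C ⧸ N) = 1
      rw [← hk]
      refine hSt k hkO ?_
      rcases hz'' with q | q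
      · exact h.cent_le hω (commute_of_cj (inv_mul_eq_one.1 q).symm).symm
      · exfalso
        have q' : cj ω (k : G) = (k : G) * s := inv_mul_eq_iff_eq_mul.1 q
        obtain ⟨j, hj⟩ := hOodd
        have hp : cj ω ((k : G) ^ Nat.card O) = (k : G) ^ Nat.card O * s := by
          have e1 : cj ω ((k : G) ^ Nat.card O) = (cj ω (k : G)) ^ Nat.card O := conj_pow.symm
          rw [e1, q', (memC.1 k.2).mul_pow]
          congr 1
          rw [hj, pow_succ, pow_mul, pow_two, hss, one_pow, one_mul]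
        have hfix : cj ω ((k : G) ^ Nat.card O) = (k : G) ^ Nat.card O := by
          rcases hKm k hkO with e | e <;> rw [e]
          · simp [cj]
          · exact cj_of_commute hc
        rw [hfix] at hp
        exact hs1 (mul_eq_left.1 hp.symm)
    have h2 : Function.Involutive σ := fun z => Subtype.ext (by
      rw [hσ, hσ, show w * (w * (z : C ⧸ N) * w⁻¹) * w⁻¹ = (w * w) * z * (w * w)⁻¹ by group, hww]; simp)
    have := congrArg Subtype.val (congrFun (hfp.coe_eq_inv_of_involutive h2) ⟨x, hx⟩)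
    rw [hσ] at this
    simpa using this
  obtain ⟨l, hlen, hlm, hlp⟩ := h.five ha hb hab hne
  have hOtriv : ∀ x ∈ O, x = 1 := by
    intro x hx
    let f : C →* C ⧸ N := QuotientGroup.mk' N
    let lC : List C := l.pmap (fun y hy => (⟨y, memC.2 hy⟩ : C)) fun y hy => (hlm y hy).2
    have hall : ∀ w ∈ lC.map f, w * x * w⁻¹ = x⁻¹ := by
      intro w hw
      obtain ⟨y, hy, rfl⟩ := List.mem_map.1 hw
      obtain ⟨z, hz, rfl⟩ := List.mem_pmap.1 hy
      exact hinvert z (hlm z hz).1 (hlm z hz).2 x hx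
    have hkey := conj_list_inv _ hall
    have hprod : (lC.map f).prod = 1 := by
      rw [← map_list_prod]
      refine (QuotientGroup.eq_one_iff _).2 ((hN _).2 (Or.inr ?_))
      rw [show ((lC.prod : C) : G) = (lC.map C.subtype).prod from map_list_prod C.subtype lC]
      have : lC.map C.subtype = l := by simp [lC]
      rw [this, hlp]
    rw [hprod, one_mul, inv_one, mul_one, List.length_map, List.length_pmap, hlen,
      if_neg (by decide)] at hkey
    obtain ⟨k, rfl⟩ := QuotientGroup.mk_surjective x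
    obtain ⟨j, hj⟩ := hOodd
    have hp := hKpow k hx
    rwa [hj, pow_succ, pow_mul, pow_two, eq_inv_iff_mul_eq_one.1 hkey, one_pow, one_mul] at hp
  have hg' : g ∈ C := memC.2 hg
  have hfin := hOtriv _ (hz ((⟨g, hg'⟩ : C) : C ⧸ N))
  rw [mul_inv_eq_one, ← QuotientGroup.mk_inv, ← QuotientGroup.mk_mul, ← QuotientGroup.mk_mul] at hfin
  have hfin' := QuotientGroup.eq.1 hfin.symm
  rw [hN, Subgroup.coe_mul, Subgroup.coe_inv] at hfin'
  change a⁻¹ * cj g a = 1 ∨ a⁻¹ * cj g a = s at hfin'
  refine h.mem_St_of ha ?_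
  rcases hfin' with q | q
  · rw [← inv_mul_eq_one.1 q]; exact ha
  · rw [inv_mul_eq_iff_eq_mul.1 q, hs, ← mul_assoc, haa, one_mul]; exact hb

end Hy

end CfsgLib.ThreeTrans.FiCent23
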