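import Mathlib
import Cfsg.Agent.Lib.ThreeTrans.FiCent23.Pair

/-! The component is the whole class: an involution commuting with a conjugate outside it and with the
product of a pair would be the product of a triple, and then two of its factors would be conjugate within its
centraliser to a member with a shorter expression. -/

set_option autoImplicit false
set_option linter.unusedSectionVars false

namespace CfsgLib.ThreeTrans.FiCent23

open CfsgLib.ThreeTrans CfsgLib.ThreeTrans.Tower CfsgLib.ThreeTrans.Classif CfsgLib.ThreeTrans.TypeTop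
open CfsgLib.ThreeTrans.LocalSymThree (nbr nbr_symm)

universe u v

/-- Both involutions invert the powers of their product. -/
theorem swap_pow {G : Type*} [Group G] {x y w : G} (hx : x * x = 1) (hy : y * y = 1) (hw : w = x ∨ w = y) (j : ℕ) :
    w * ((x * y) ^ j)⁻¹ = (x * y) ^ j * w := by
  induction j with
  | zero => simp
  | succ j ih =>
    have h1 : w * (x * y)⁻¹ = (x * y) * w := by
      rw [mul_inv_rev, inv_eq_of_mul_eq_one_right hx, inv_eq_of_mul_eq_one_right hy]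
      rcases hw with e | e <;> rw [e] <;> simp [mul_assoc, ← mul_assoc y y, hy]
    rw [pow_succ', mul_inv_rev, ← mul_assoc, ih, mul_assoc, h1, ← mul_assoc, pow_mul_comm']

/-- Two involutions with product of odd order are conjugate by a power of it. -/
theorem conj_of_odd {G : Type*} [Group G] {x y : G} (hx : x * x = 1) (hy : y * y = 1) {j : ℕ}
    (h : (x * y) ^ (2 * j + 1) = 1) : cj ((x * y) ^ (j + 1)) y = x := by
  rw [cj, mul_assoc, swap_pow hx hy (Or.inr rfl), ← mul_assoc, ← pow_add,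
    show j + 1 + (j + 1) = 2 * j + 1 + 1 by omega, pow_succ, h, one_mul, mul_assoc, hy, mul_one]

/-- The middle power of two involutions times one of them is conjugate to one of them. -/
theorem mid_conj {G : Type*} [Group G] {x y : G} (hx : x * x = 1) (hy : y * y = 1) (k : ℕ) :
    ∃ g, (x * y) ^ k * y = cj g y ∨ (x * y) ^ k * y = cj g x := by
  rcases Nat.even_or_odd' k with ⟨j, rfl | rfl⟩
  · refine ⟨(x * y) ^ j, Or.inl ?_⟩
    rw [cj, mul_assoc ((x * y) ^ j), swap_pow hx hy (Or.inr rfl), ← mul_assoc, ← pow_add, two_mul]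
  · refine ⟨(x * y) ^ j, Or.inr ?_⟩
    rw [cj, mul_assoc ((x * y) ^ j), swap_pow hx hy (Or.inl rfl), ← mul_assoc, ← pow_add, two_mul, pow_succ]
    simp [mul_assoc, hy]

variable {G : Type u} [Group G] [Finite G] {Y : Type v} [Group Y] [Finite Y] {d : G} {φ : Cd d →* Y}
  {E : Set Y} {x₁ : Cd d}

namespace Hy

variable (h : Hy d φ E x₁)
include h

/-- A member outside the component has product of odd order with every member inside. -/
theorem odd_prod {x y : G} (hx : x ∈ Dc d) (hxO : x ∉ Om d) (hy : y ∈ Om d) :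
    ∃ j, (x * y) ^ (2 * j + 1) = 1 := by
  rcases Nat.even_or_odd' (orderOf (x * y)) with ⟨k, hk | hk⟩
  swap
  · exact ⟨k, hk ▸ pow_orderOf_eq_one _⟩
  exfalso
  have hxx := h.sq hx
  have hyy := h.sq (h.om_sub hy)
  set z := (x * y) ^ k with hz
  have hpos := orderOf_pos (x * y)
  have hz1 : z ≠ 1 := fun e => by
    have := Nat.le_of_dvd (by omega) (orderOf_dvd_of_pow_eq_one e)
    omega
  have hzz : z * z = 1 := by rw [hz, ← pow_add, ← two_mul, ← hk, pow_orderOf_eq_one]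
  have hzi : z⁻¹ = z := inv_eq_of_mul_eq_one_right hzz
  have hczy : Commute z y := by
    show z * y = y * z
    have hyc : y * (x * y) * y⁻¹ = (x * y)⁻¹ := by
      rw [inv_eq_of_mul_eq_one_right hyy, mul_inv_rev, inv_eq_of_mul_eq_one_right hyy,
        inv_eq_of_mul_eq_one_right hxx]
      simp [mul_assoc, hyy]
    have : y * z * y⁻¹ = z := by rw [hz, ← conj_pow, hyc, inv_pow]; exact hzi
    exact (mul_inv_eq_iff_eq_mul.1 this).symm
  have hczx : Commute z x := by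
    have : Commute z (x * y) := Commute.pow_self _ _
    have h2 := this.mul_right hczy
    rwa [mul_assoc, hyy, mul_one] at h2
  have hw : z * y ∈ Dc d := by
    obtain ⟨g, e | e⟩ := mid_conj hxx hyy k
    · rw [hz, e]; exact Dc_cj g (h.om_sub hy)
    · rw [hz, e]; exact Dc_cj g hx
  have hcw : Commute y (z * y) := (hczy.symm).mul_right (Commute.refl y)
  have hwO : z * y ∈ Om d := h.om_comm hy hw hcw
  have := h.cent_pair hwO hy hcw.symm (fun e => hz1 (mul_eq_right.1 e)) (g := x)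
    (by rw [mul_assoc, hyy, mul_one]; exact hczx.symm)
  exact hxO (h.mem_om_of_St hx this)

/-- The product of a pair is not conjugate to the involution. -/
theorem pair_not_mem {a b : G} (ha : a ∈ Om d) (hb : b ∈ Om d) (hab : Commute a b) (hne : a ≠ b) :
    a * b ∉ Dc d := by
  intro hD
  obtain ⟨g, -, hga, hgb⟩ := h.pair_to ha hb hab hne
  obtain ⟨e, he, k1⟩ := h.mem_nbr_d.1 hgb
  have hba : a * b ≠ a := fun k => by
    have k' : a * b = a * 1 := by rw [mul_one]; exact k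
    obtain ⟨t, ht⟩ := isConj_iff.1 (h.om_sub hb)
    exact h.cov.d_ne_one (conj_eq_one_iff.1 (ht.trans (mul_left_cancel k')))
  obtain ⟨e', he', k2⟩ := h.mem_nbr_d.1 (nbr_cj_mem (g := g) ⟨hD, hba, (Commute.refl a).mul_right hab⟩ hga)
  rw [cj_mul', hga, k1] at k2
  have k3 : dC d * lift φ x₁ e = lift φ x₁ e' := Subtype.ext k2
  have k4 := congrArg φ k3
  rw [map_mul, h.cov.map_dC, one_mul, h.cov.map_lift h.seed he, h.cov.map_lift h.seed he'] at k4
  rw [← k4] at k3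
  exact h.cov.dC_ne (mul_eq_right.1 k3)

/-- An involution of the centraliser of the involution is short. -/
theorem short {t : G} (hc : Commute t d) (htt : t * t = 1) (ht1 : t ≠ 1) :
    t ∈ Om d ∨ (∃ a ∈ Om d, ∃ b ∈ Om d, Commute a b ∧ a ≠ b ∧ t = a * b) ∨
      ∃ a ∈ Om d, ∃ b ∈ Om d, ∃ c ∈ Om d, (Commute a b ∧ Commute a c ∧ Commute b c) ∧
        (a ≠ b ∧ a ≠ c ∧ b ≠ c) ∧ t = a * b * c := by
  classical
  have hC : t ∈ Cd d := Subgroup.mem_centralizer_singleton_iff.2 hc.eq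
  set tC : Cd d := ⟨t, hC⟩
  have onb : ∀ {e : Y}, e ∈ E → (lift φ x₁ e : G) ∈ nbr (Dc d) d := fun he => h.mem_nbr_d.2 ⟨_, he, rfl⟩
  have om : ∀ {e : Y}, e ∈ E → (lift φ x₁ e : G) ∈ Om d := fun he => Or.inr (Or.inl (onb he))
  have cm : ∀ {e f : Y}, e ∈ E → f ∈ E → Commute e f → Commute (lift φ x₁ e : G) (lift φ x₁ f : G) :=
    fun he hf k => congrArg Subtype.val ((h.cov.lift_comm h.seed he hf).2 k).eq
  have ne' : ∀ {e f : Y}, e ∈ E → f ∈ E → e ≠ f → (lift φ x₁ e : G) ≠ (lift φ x₁ f : G) :=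
    fun he hf k q => k (h.cov.lift_inj h.seed he hf (Subtype.ext q))
  by_cases h1 : φ tC = 1
  · rcases h.cov.ker' _ h1 with k | k
    · exact absurd (congrArg Subtype.val k) ht1
    · rw [show t = d from congrArg Subtype.val k]; exact Or.inl (Or.inl rfl)
  obtain ⟨n, hn1, hn3, hn⟩ := h.cov.m22.classify
    (x := φ tC) (by rw [← map_mul, show tC * tC = 1 from Subtype.ext htt, map_one]) h1
  interval_cases n
  · have he := isProd_one.1 hn
    rcases h.cov.lift_cases h.seed (x := tC) he with k | k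
    · rw [show t = _ from congrArg Subtype.val k]; exact Or.inl (om he)
    · exact Or.inr (Or.inl ⟨_, om he, d, Or.inl rfl, (onb he).2.2.symm, (onb he).2.1,
        congrArg Subtype.val k⟩)
  · obtain ⟨e, he, f, hf, k0⟩ := isProd_two.1 hn
    rcases h.cov.same (g := lift φ x₁ e * lift φ x₁ f) (g' := tC)
      (by rw [map_mul, h.cov.map_lift h.seed he, h.cov.map_lift h.seed hf.1, k0]) with k | k
    · exact Or.inr (Or.inl ⟨_, om he, _, om hf.1, cm he hf.1 hf.2.2, ne' he hf.1 (Ne.symm hf.2.1),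
        congrArg Subtype.val k⟩)
    · exact Or.inr (Or.inr ⟨_, om he, _, om hf.1, d, Or.inl rfl,
        ⟨cm he hf.1 hf.2.2, (onb he).2.2.symm, (onb hf.1).2.2.symm⟩,
        ⟨ne' he hf.1 (Ne.symm hf.2.1), (onb he).2.1, (onb hf.1).2.1⟩, congrArg Subtype.val k⟩)
  · obtain ⟨e, he, f, hf, c, ⟨hce, hcf⟩, k0⟩ := isProd_three.1 hn
    have nef : e ≠ f := Ne.symm hf.2.1
    have nec : e ≠ c := Ne.symm hce.2.1
    have nfc : f ≠ c := Ne.symm hcf.2.1
    rcases h.cov.same (g := lift φ x₁ e * lift φ x₁ f * lift φ x₁ c) (g' := tC)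
      (by rw [map_mul, map_mul, h.cov.map_lift h.seed he, h.cov.map_lift h.seed hf.1,
        h.cov.map_lift h.seed hce.1, k0]) with k | k
    · exact Or.inr (Or.inr ⟨_, om he, _, om hf.1, _, om hce.1,
        ⟨cm he hf.1 hf.2.2, cm he hce.1 hce.2.2, cm hf.1 hce.1 hcf.2.2⟩,
        ⟨ne' he hf.1 nef, ne' he hce.1 nec, ne' hf.1 hce.1 nfc⟩, congrArg Subtype.val k⟩)
    have t3 : Triple E e f c := ⟨he, hf.1, hce.1, nef, nec, nfc, hf.2.2, hce.2.2, hcf.2.2⟩
    obtain ⟨B, hB, heB, hfB, hcB⟩ := h.cov.m22.exists_base_through t3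
    have hex := h.cov.hex_lift h.seed hB heB hfB hcB t3
    have hsub := h.cov.hexF_sub h.seed hB heB hfB hcB
    have hin : ({e, f, c} : Finset Y) ⊆ hexF E e f c := by
      intro z hz
      simp only [Finset.mem_insert, Finset.mem_singleton] at hz
      rcases hz with rfl | rfl | rfl
      · exact mem_hexF.2 ⟨he, fun _ _ q _ _ => q.symm⟩
      · exact mem_hexF.2 ⟨hf.1, fun _ _ _ q _ => q.symm⟩
      · exact mem_hexF.2 ⟨hce.1, fun _ _ _ _ q => q.symm⟩
    set R := hexF E e f c \ {e, f, c} with hR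
    have hRB : ↑R ⊆ B := (Finset.coe_subset.2 Finset.sdiff_subset).trans hsub
    have hR3 : R.card = 3 := by
      rw [hR, Finset.card_sdiff_of_subset hin, h.cov.m22.card_hexF t3,
        Finset.card_eq_three.2 ⟨e, f, c, nef, nec, nfc, rfl⟩]
    obtain ⟨u, v, w, nuv, nuw, nvw, hRe⟩ := Finset.card_eq_three.1 hR3
    have hu : u ∈ B := hRB (by simp [hRe])
    have hv : v ∈ B := hRB (by simp [hRe])
    have hw : w ∈ B := hRB (by simp [hRe])
    have hTB : ↑({e, f, c} : Finset Y) ⊆ B := (Finset.coe_subset.2 hin).trans hsub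
    rw [← Finset.union_sdiff_of_subset hin, ← hR, h.cov.sp_union h.seed hB hTB hRB Finset.disjoint_sdiff,
      h.cov.sp_triple h.seed hB heB hfB hcB nef nec nfc, hRe, h.cov.sp_triple h.seed hB hu hv hw nuv nuw nvw] at hex
    have hsq : sp φ x₁ ({e, f, c} : Finset Y) * sp φ x₁ ({e, f, c} : Finset Y) = 1 := h.cov.sp_sq h.seed hB hTB
    rw [h.cov.sp_triple h.seed hB heB hfB hcB nef nec nfc] at hsq
    rw [← hex, ← mul_assoc, hsq, one_mul] at k
    exact Or.inr (Or.inr ⟨_, om (hB.sub hu), _, om (hB.sub hv), _, om (hB.sub hw),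
      ⟨cm (hB.sub hu) (hB.sub hv) (hB.comm u hu v hv), cm (hB.sub hu) (hB.sub hw) (hB.comm u hu w hw),
        cm (hB.sub hv) (hB.sub hw) (hB.comm v hv w hw)⟩,
      ⟨ne' (hB.sub hu) (hB.sub hv) nuv, ne' (hB.sub hu) (hB.sub hw) nuw, ne' (hB.sub hv) (hB.sub hw) nvw⟩,
      congrArg Subtype.val k⟩)

/-- No member outside the component commutes with the product of a triple inside. -/
theorem no_triple {a b c x : G} (ha : a ∈ Om d) (hb : b ∈ Om d) (hc : c ∈ Om d) (hab : Commute a b)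
    (hac : Commute a c) (hbc : Commute b c) (nab : a ≠ b) (nac : a ≠ c) (nbc : b ≠ c) (hx : x ∈ Dc d)
    (hxO : x ∉ Om d) : ¬ Commute x (a * b * c) := by
  intro hxt
  obtain ⟨g, hg, hga, hgb⟩ := h.pair_to ha hb hab nab
  have hgc : cj g c ∈ nbr (Dc d) d := nbr_cj_mem ⟨h.om_sub hc, nac.symm, hac⟩ hga
  obtain ⟨e1, he1, k1⟩ := h.mem_nbr_d.1 hgb
  obtain ⟨e2, he2, k2⟩ := h.mem_nbr_d.1 hgc
  have c12 : Commute e1 e2 := (h.cov.lift_comm h.seed he1 he2).1 (Subtype.ext (show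
    Commute (lift φ x₁ e1 : G) (lift φ x₁ e2 : G) by rw [← k1, ← k2]; exact (commute_conj_iff g b c).2 hbc).eq)
  have n12 : e1 ≠ e2 := fun e => nbc (cj_inj g (by rw [k1, k2, e]))
  obtain ⟨e3, -, -, he3, -, n13, n23, -, c13, c23⟩ := h.cov.m22.exists_third he1 he2 n12 c12
  set p₁ := (lift φ x₁ e1 : G) with hp₁
  set p₂ := (lift φ x₁ e2 : G) with hp₂
  set ω := (lift φ x₁ e3 : G) with hω
  have hωn : ω ∈ nbr (Dc d) d := h.mem_nbr_d.2 ⟨e3, he3, rfl⟩
  have hp₁n : p₁ ∈ nbr (Dc d) d := h.mem_nbr_d.2 ⟨e1, he1, rfl⟩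
  have hp₂n : p₂ ∈ nbr (Dc d) d := h.mem_nbr_d.2 ⟨e2, he2, rfl⟩
  have c1ω : Commute p₁ ω := congrArg Subtype.val ((h.cov.lift_comm h.seed he1 he3).2 c13).eq
  have c2ω : Commute p₂ ω := congrArg Subtype.val ((h.cov.lift_comm h.seed he2 he3).2 c23).eq
  have n1ω : p₁ ≠ ω := fun e => n13 (h.cov.lift_inj h.seed he1 he3 (Subtype.ext e))
  have n2ω : p₂ ≠ ω := fun e => n23 (h.cov.lift_inj h.seed he2 he3 (Subtype.ext e))
  set X := cj g x with hX
  have hXD : X ∈ Dc d := Dc_cj g hx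
  have hXO : X ∉ Om d := fun q => hxO (by
    have := St_maps (inv_mem hg) q
    rwa [hX, cj_cj, inv_mul_cancel, cj_one] at this)
  set t := d * p₁ * p₂ with ht
  have hXt : Commute X t := by
    rw [ht, hX, ← hga, ← k1, ← k2, ← cj_mul', ← cj_mul']
    exact (commute_conj_iff g x _).2 hxt
  have hdt : Commute d t := ((Commute.refl d).mul_right hp₁n.2.2).mul_right hp₂n.2.2
  have hωt : Commute ω t := (hωn.2.2.symm.mul_right c1ω.symm).mul_right c2ω.symm
  have hωO : ω ∈ Om d := Or.inr (Or.inl hωn)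
  obtain ⟨i, hi⟩ := h.odd_prod hXD hXO (y := d) (Or.inl rfl)
  obtain ⟨j, hj⟩ := h.odd_prod hXD hXO hωO
  have g1 := conj_of_odd (h.sq hXD) h.cov.dd hi
  have g2 := conj_of_odd (h.sq hXD) (h.sq hωn.1) hj
  set k := ((X * ω) ^ (j + 1))⁻¹ * (X * d) ^ (i + 1) with hk
  have hkd : cj k d = ω := by
    rw [hk, ← cj_cj, g1]
    exact (congrArg (cj _) g2.symm).trans (by rw [cj_cj, inv_mul_cancel, cj_one])
  have hkt : Commute k t :=
    ((hXt.mul_left hωt).pow_left _).inv_left.mul_left ((hXt.mul_left hdt).pow_left _)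
  have hkS : k ∈ St d := h.mem_St.2 (hkd.symm ▸ hωO)
  -- relabel so that `ω` becomes the involution
  obtain ⟨m, -, hmω⟩ : ∃ m ∈ St d, cj m ω = d := by
    obtain ⟨r, hr, e⟩ := h.exists_to hωO
    exact ⟨r⁻¹, inv_mem hr, by rw [← e, cj_cj, inv_mul_cancel, cj_one]⟩
  obtain ⟨f0, hf0, q0⟩ := h.mem_nbr_d.1 (nbr_cj_mem (g := m) (nbr_symm h.d_mem hωn) hmω)
  obtain ⟨f1, hf1, q1⟩ := h.mem_nbr_d.1 (nbr_cj_mem (g := m) (x := ω) ⟨hp₁n.1, n1ω, c1ω.symm⟩ hmω)
  obtain ⟨f2, hf2, q2⟩ := h.mem_nbr_d.1 (nbr_cj_mem (g := m) (x := ω) ⟨hp₂n.1, n2ω, c2ω.symm⟩ hmω)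
  obtain ⟨r1, hr1, s1⟩ := h.mem_nbr_d.1 (nbr_cj_mem (g := m) (nbr_cj_mem (g := k) hp₁n hkd) hmω)
  obtain ⟨r2, hr2, s2⟩ := h.mem_nbr_d.1 (nbr_cj_mem (g := m) (nbr_cj_mem (g := k) hp₂n hkd) hmω)
  have heq : ω * (d * p₁ * p₂) = cj k p₁ * cj k p₂ := by
    have : ω * t = cj k (d * t) := by rw [cj_mul', hkd, cj_of_commute hkt]
    rw [← ht, this, ← cj_mul', ht, show d * (d * p₁ * p₂) = p₁ * p₂ by simp [← mul_assoc, h.cov.dd]]
  have h2 := congrArg (cj m) heq
  simp only [cj_mul', hmω, q0, q1, q2, s1, s2] at h2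
  have h3 : dC d * (lift φ x₁ f0 * lift φ x₁ f1 * lift φ x₁ f2) = lift φ x₁ r1 * lift φ x₁ r2 := Subtype.ext h2
  have h4 := congrArg φ h3
  simp only [map_mul, h.cov.map_dC, h.cov.map_lift h.seed hf0, h.cov.map_lift h.seed hf1,
    h.cov.map_lift h.seed hf2, h.cov.map_lift h.seed hr1, h.cov.map_lift h.seed hr2, one_mul] at h4
  have cmE : ∀ {u v : G} {p q : Y}, p ∈ E → q ∈ E → cj m u = (lift φ x₁ p : G) → cj m v = (lift φ x₁ q : G) →
      Commute u v → u ≠ v → q ∈ Dd E p := fun {u v p q} hp hq ku kv hc hne =>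
    ⟨hq, fun e => hne (cj_inj m (by rw [ku, kv, e])), (h.cov.lift_comm h.seed hp hq).1 (Subtype.ext (show
      Commute (lift φ x₁ p : G) (lift φ x₁ q : G) by rw [← ku, ← kv]; exact (commute_conj_iff m u v).2 hc).eq)⟩
  have hd3 : IsProd E 3 (f0 * f1 * f2) := isProd_three.2 ⟨f0, hf0, f1,
    cmE hf0 hf1 q0 q1 hp₁n.2.2 (Ne.symm hp₁n.2.1), f2,
    ⟨cmE hf0 hf2 q0 q2 hp₂n.2.2 (Ne.symm hp₂n.2.1),
      cmE hf1 hf2 q1 q2 (congrArg Subtype.val ((h.cov.lift_comm h.seed he1 he2).2 c12).eq)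
        (fun e => n12 (h.cov.lift_inj h.seed he1 he2 (Subtype.ext e)))⟩, rfl⟩
  have hd2 : IsProd E 2 (f0 * f1 * f2) := isProd_two.2 ⟨r1, hr1, r2,
    cmE hr1 hr2 s1 s2 ((commute_conj_iff k p₁ p₂).2 (congrArg Subtype.val ((h.cov.lift_comm h.seed he1 he2).2 c12).eq))
      (fun e => n12 (h.cov.lift_inj h.seed he1 he2 (Subtype.ext (cj_inj k e)))), h4⟩
  have := h.cov.m22.len_unique (by norm_num) (by norm_num) (by norm_num) (by norm_num) hd3 hd2
  omega

/-- The component is the whole class. -/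
theorem mem_om {x : G} (hx : x ∈ Dc d) : x ∈ Om d := by
  by_contra hxO
  obtain ⟨b, hb⟩ : (nbr (Dc d) d).Nonempty :=
    Set.nonempty_of_ncard_ne_zero (by rw [h.card_nbr h.d_mem]; norm_num)
  have hbO : b ∈ Om d := Or.inr (Or.inl hb)
  have hdO : d ∈ Om d := Or.inl rfl
  set z := d * b with hz
  have hzz : z * z = 1 := mul_sq_one h.cov.dd (h.sq hb.1) hb.2.2
  have hxx := h.sq hx
  rcases Nat.even_or_odd' (orderOf (x * z)) with ⟨k, hk | hk⟩
  swap
  · have := conj_of_odd hxx hzz (hk ▸ pow_orderOf_eq_one (x * z))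
    refine h.pair_not_mem hdO hbO hb.2.2 (Ne.symm hb.2.1) (?_ : z ∈ Dc d)
    have e : cj ((x * z) ^ (k + 1))⁻¹ x = z :=
      (congrArg (cj _) this.symm).trans (by rw [cj_cj, inv_mul_cancel, cj_one])
    exact e ▸ Dc_cj _ hx
  set t := (x * z) ^ k with ht
  have hpos := orderOf_pos (x * z)
  have ht1 : t ≠ 1 := fun e => by
    have := Nat.le_of_dvd (by omega) (orderOf_dvd_of_pow_eq_one e)
    omega
  have htt : t * t = 1 := by rw [ht, ← pow_add, ← two_mul, ← hk, pow_orderOf_eq_one]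
  have hctz : Commute t z := by
    have hzc : z * (x * z) * z⁻¹ = (x * z)⁻¹ := by
      rw [inv_eq_of_mul_eq_one_right hzz, mul_inv_rev, inv_eq_of_mul_eq_one_right hzz,
        inv_eq_of_mul_eq_one_right hxx]
      simp [mul_assoc, hzz]
    have : z * t * z⁻¹ = t := by rw [ht, ← conj_pow, hzc, inv_pow]; exact inv_eq_of_mul_eq_one_right htt
    exact (mul_inv_eq_iff_eq_mul.1 this).symm
  have hctx : Commute t x := by
    have := (Commute.pow_self (x * z) k).mul_right hctz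
    rwa [← ht, mul_assoc, hzz, mul_one] at this
  have htS : t ∈ St d := h.cent_pair hdO hbO hb.2.2 (Ne.symm hb.2.1) hctz
  obtain ⟨w, hw, htw⟩ := h.exists_fixed htS htt
  obtain ⟨r, hr, hrw⟩ := h.exists_to hw
  have e0 : cj r⁻¹ w = d := by rw [← hrw, cj_cj, inv_mul_cancel, cj_one]
  have hTd : Commute (cj r⁻¹ t) d := by rw [← e0]; exact (commute_conj_iff r⁻¹ t w).2 htw
  have hTT : cj r⁻¹ t * cj r⁻¹ t = 1 := by rw [← cj_mul', htt]; simp [cj]
  have hT1 : cj r⁻¹ t ≠ 1 := fun e => ht1 (cj_inj r⁻¹ (by rw [e]; simp [cj]))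
  have hXD : cj r⁻¹ x ∈ Dc d := Dc_cj _ hx
  have hXO : cj r⁻¹ x ∉ Om d := fun q => hxO (by
    have := St_maps hr q
    rwa [cj_cj, mul_inv_cancel, cj_one] at this)
  have hTX : Commute (cj r⁻¹ x) (cj r⁻¹ t) := (commute_conj_iff r⁻¹ x t).2 hctx.symm
  rcases h.short hTd hTT hT1 with q | ⟨a, ha, b', hb', c1, n1, q⟩ | ⟨a, ha, b', hb', c, hc, ⟨c1, c2, c3⟩, ⟨n1, n2, n3⟩, q⟩
  · exact hXO (h.om_comm q hXD hTX.symm)
  · exact hXO (h.mem_om_of_St hXD (h.cent_pair ha hb' c1 n1 (q ▸ hTX)))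
  · exact h.no_triple ha hb' hc c1 c2 c3 n1 n2 n3 hXD hXO (q ▸ hTX)

theorem dc_eq : Dc d = Om d := Set.Subset.antisymm (fun _ hx => h.mem_om hx) fun _ hx => h.om_sub hx

end Hy

end CfsgLib.ThreeTrans.FiCent23
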