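import Mathlib
import Cfsg.Agent.Lib.ThreeTrans.Inst.TypeTransport
import Cfsg.Agent.Lib.ThreeTrans.FiCent23.LevelE
import Cfsg.Agent.Lib.ThreeTrans.FiCent23.Connect

/-! The class of the involution is a good class of 3-transpositions generating the group, with type M(22)
on the members commuting with one: the group is of type M(23). -/

set_option autoImplicit false
set_option linter.unusedSectionVars false

namespace CfsgLib.ThreeTrans.FiCent23

open CfsgLib.ThreeTrans CfsgLib.ThreeTrans.Tower CfsgLib.ThreeTrans.Classif CfsgLib.ThreeTrans.TypeTop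
open CfsgLib.ThreeTrans.LocalSymThree (nbr nbr_symm)

universe u v

/-- Type M(22) on a primitive class passes along an isomorphism. -/
theorem M22.map {Y : Type u} [Group Y] {Y' : Type v} [Group Y'] (e : Y ≃* Y') {E : Set Y} {E' : Set Y'}
    (himg : e '' E = E') (h : M22 E) : M22 E' := by
  subst himg
  refine ⟨⟨⟨?_, ?_⟩, ?_, ?_⟩, ⟨?_, ?_, ?_⟩, Inst.typeM22_map e rfl h.typ⟩
  · rintro _ ⟨a, ha, rfl⟩
    exact (orderOf_injective e.toMonoidHom e.injective a).trans (h.group.1.1 a ha)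
  · rintro _ ⟨a, ha, rfl⟩ _ ⟨b, hb, rfl⟩
    refine (h.group.1.2 a ha b hb).imp (fun k => ?_) fun k => ?_ <;>
      rw [← map_mul, ← map_pow, k, map_one]
  · rintro g _ ⟨a, ha, rfl⟩
    obtain ⟨k, rfl⟩ := e.surjective g
    exact ⟨k * a * k⁻¹, h.group.2.1 k a ha, by rw [map_mul, map_mul, map_inv]⟩
  · rw [show (e '' E) = (e.toMonoidHom : Y → Y') '' E from rfl, ← MonoidHom.map_closure, h.group.2.2]
    exact Subgroup.map_top_of_surjective _ e.surjective
  · rintro _ ⟨a, ha, rfl⟩ _ ⟨b, hb, rfl⟩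
    obtain ⟨g, hg⟩ := h.prim.1 a ha b hb
    exact ⟨e g, by rw [← hg, map_mul, map_mul, map_inv]⟩
  · obtain ⟨a, ha, b, hb, hne⟩ := h.prim.2.1
    exact ⟨e a, ⟨a, ha, rfl⟩, e b, ⟨b, hb, rfl⟩, fun k => hne (e.injective k)⟩
  · intro B hB hblk
    have hsub : e ⁻¹' B ⊆ E := fun x hx => by
      obtain ⟨a, ha, k⟩ := hB hx
      exact e.injective k ▸ ha
    have himg' : ∀ g : Y, e '' ((fun x => g * x * g⁻¹) '' (e ⁻¹' B)) = (fun x => e g * x * (e g)⁻¹) '' B := by
      intro g
      conv_rhs => rw [← Set.image_preimage_eq B e.surjective]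
      rw [Set.image_image, Set.image_image]
      simp only [map_mul, map_inv]
    have hblk' : ∀ g : Y, (fun x => g * x * g⁻¹) '' (e ⁻¹' B) = e ⁻¹' B ∨
        Disjoint ((fun x => g * x * g⁻¹) '' (e ⁻¹' B)) (e ⁻¹' B) := fun g => by
      rcases hblk (e g) with q | q
      · left
        refine e.injective.image_injective ?_
        rw [himg' g, q, Set.image_preimage_eq B e.surjective]
      · right
        refine (Set.disjoint_image_iff e.injective).1 ?_
        rw [himg' g, Set.image_preimage_eq B e.surjective]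
        exact q
    rcases h.prim.2.2 (e ⁻¹' B) hsub hblk' with k | k
    · left
      intro x hx y hy
      obtain ⟨a, rfl⟩ := e.surjective x
      obtain ⟨b, rfl⟩ := e.surjective y
      rw [k hx hy]
    · right
      rw [← k, Set.image_preimage_eq B e.surjective]

variable {G : Type u} [Group G] [Finite G] {Y : Type v} [Group Y] [Finite Y] {d : G} {φ : Cd d →* Y}
  {E : Set Y} {x₁ : Cd d}

namespace Hy

variable (h : Hy d φ E x₁)
include h

theorem set_Dc : Cfsg.IsThreeTranspositionSet (Dc d) := by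
  refine ⟨fun x hx => ?_, fun x hx y hy => ?_⟩
  · obtain ⟨g, rfl⟩ := isConj_iff.1 hx
    rw [← MulAut.conj_apply, MulEquiv.orderOf_eq]
    exact h.cov.ord
  · by_cases hc : Commute x y
    · exact Or.inl (by rw [pow_two]; exact mul_sq_one (h.sq hx) (h.sq hy) hc)
    · exact Or.inr (h.three_om (h.mem_om hx) (h.mem_om hy) hc)

theorem exists_far : ∃ f, f ∈ far2 d :=
  Set.nonempty_of_ncard_ne_zero (by rw [h.card_far2]; norm_num)

theorem exists_nbr : ∃ b, b ∈ nbr (Dc d) d :=
  Set.nonempty_of_ncard_ne_zero (by rw [h.card_nbr h.d_mem]; norm_num)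

theorem gen_Dc : Subgroup.closure (Dc d) = ⊤ := by
  set H := Subgroup.closure (Dc d) with hH
  have hCd : Cd d ≤ H := by
    intro g hg
    have : (⟨g, hg⟩ : Cd d) ∈ Subgroup.closure (lift φ x₁ '' E) := by
      rw [h.cov.closure_lifts h.seed]; exact Subgroup.mem_top _
    have hle : Subgroup.closure (lift φ x₁ '' E) ≤ H.comap (Cd d).subtype := (Subgroup.closure_le _).2 (by
      rintro _ ⟨e, he, rfl⟩
      exact Subgroup.subset_closure (h.mem_nbr_d.2 ⟨e, he, rfl⟩).1)
    exact hle this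
  have step : ∀ {p q : G}, p ∈ Dc d → q ∈ Dc d → ¬ Commute p q → ∃ g ∈ H, cj g p = q := fun {p q} hp hq hpq => by
    refine ⟨p * q, mul_mem (Subgroup.subset_closure hp) (Subgroup.subset_closure hq), ?_⟩
    rw [cj, mul_inv_rev, h.inv hp, h.inv hq]
    calc p * q * p * (q * p) = p * q * (p * q * p) := by simp [mul_assoc]
      _ = p * q * (q * p * q) := by rw [h.braid_om (h.mem_om hp) (h.mem_om hq) hpq]
      _ = q := by simp [mul_assoc, ← mul_assoc q q, ← mul_assoc p p, h.sq hp, h.sq hq]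
  obtain ⟨a, ha⟩ := h.exists_nbr
  obtain ⟨z, hz, hza⟩ : ∃ z ∈ far2 d, z ∉ nbr (Dc d) a := Set.exists_mem_notMem_of_ncard_lt_ncard
    (by rw [h.card_nbr ha.1, h.card_far2]; norm_num) (Set.toFinite _)
  have hzane : z ≠ a := fun e => hz.2.1 (e ▸ ha.2.2)
  obtain ⟨g₁, hg₁, e₁⟩ := step h.d_mem hz.1 hz.2.1
  obtain ⟨g₂, hg₂, e₂⟩ := step hz.1 ha.1 fun k => hza ⟨hz.1, hzane, k.symm⟩
  have hall : ∀ y ∈ Dc d, ∃ g ∈ H, cj g d = y := by
    intro y hy
    by_cases hc : Commute d y
    · by_cases e : y = d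
      · exact ⟨1, one_mem _, by rw [cj_one, e]⟩
      obtain ⟨k, hk, ek⟩ := h.trans_nbr ha ⟨hy, e, hc⟩
      exact ⟨k * (g₂ * g₁), mul_mem (hCd (Subgroup.mem_centralizer_singleton_iff.2 hk.eq)) (mul_mem hg₂ hg₁),
        by rw [← cj_cj, ← cj_cj, e₁, e₂, ek]⟩
    · exact step h.d_mem hy hc
  refine (Subgroup.eq_top_iff' H).2 fun g => ?_
  obtain ⟨k, hk, ek⟩ := hall _ (Dc_cj g h.d_mem)
  have hc : Commute (k⁻¹ * g) d := commute_of_cj (by rw [← cj_cj, ← ek, cj_cj, inv_mul_cancel, cj_one])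
  have := mul_mem hk (hCd (Subgroup.mem_centralizer_singleton_iff.2 hc.eq))
  rwa [mul_inv_cancel_left] at this

theorem class_Dc : Cfsg.IsThreeTranspositionClass (Dc d) := ⟨h.set_Dc, ⟨d, h.d_mem, rfl⟩, h.gen_Dc⟩

theorem center_bot : Subgroup.center G = ⊥ := by
  refine (Subgroup.eq_bot_iff_forall _).2 fun z hz => ?_
  have hC : z ∈ Cd d := Subgroup.mem_centralizer_singleton_iff.2 (Subgroup.mem_center_iff.1 hz d).symm
  have h1 : φ ⟨z, hC⟩ = 1 := by
    have : φ ⟨z, hC⟩ ∈ Subgroup.center Y := Subgroup.mem_center_iff.2 fun y => by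
      obtain ⟨k, rfl⟩ := h.cov.surj y
      rw [← map_mul, ← map_mul]
      exact congrArg φ (Subtype.ext (Subgroup.mem_center_iff.1 hz k))
    rwa [h.cov.m22.loc.center, Subgroup.mem_bot] at this
  rcases h.cov.ker' _ h1 with k | k
  · exact congrArg Subtype.val k
  · exfalso
    obtain ⟨f, hf⟩ := h.exists_far
    refine hf.2.1 ?_
    rw [← show z = d from congrArg Subtype.val k]
    exact (Subgroup.mem_center_iff.1 hz f).symm

theorem core_bot {p : ℕ} [Fact p.Prime] (hY : Cfsg.pCore p Y = ⊥) : Cfsg.pCore p G = ⊥ := by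
  classical
  set N := Cfsg.pCore p G with hN
  have hp : IsPGroup p N := CfsgLib.PCore.pCore_isPGroup
  have : N.Normal := inferInstance
  have hfixed : ∀ x ∈ N, Commute x d → x = 1 := by
    intro x hx hxd
    have hC : x ∈ Cd d := Subgroup.mem_centralizer_singleton_iff.2 hxd.eq
    have hM : ((N.subgroupOf (Cd d)).map φ).Normal :=
      (inferInstance : (N.subgroupOf (Cd d)).Normal).map φ h.cov.surj
    have hMp : IsPGroup p ((N.subgroupOf (Cd d)).map φ) :=
      (hp.comap_of_injective (Cd d).subtype (Subgroup.subtype_injective _)).map φ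
    have h1 : φ ⟨x, hC⟩ ∈ Cfsg.pCore p Y := CfsgLib.PCore.le_pCore hM hMp ⟨⟨x, hC⟩, hx, rfl⟩
    rw [hY, Subgroup.mem_bot] at h1
    rcases h.cov.ker' _ h1 with k | k
    · exact congrArg Subtype.val k
    exfalso
    have hdN : d ∈ N := by rw [← show x = d from congrArg Subtype.val k]; exact hx
    have hle : Dc d ⊆ (N : Set G) := fun y hy => by
      obtain ⟨g, rfl⟩ := isConj_iff.1 hy
      exact (inferInstance : N.Normal).conj_mem d hdN g
    have htop : N = ⊤ := top_unique (h.gen_Dc ▸ (Subgroup.closure_le _).2 hle)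
    obtain ⟨f, hf⟩ := h.exists_far
    have h3 : orderOf (d * f) = 3 := orderOf_eq_prime (h.three_om (Or.inl rfl) (h.mem_om hf.1) hf.2.1) fun e => by
      refine hf.2.1 ?_
      rw [eq_inv_of_mul_eq_one_left e, h.inv hf.1]
    have hmem : ∀ g : G, g ∈ N := fun g => htop ▸ Subgroup.mem_top g
    obtain ⟨i, hi⟩ := (IsPGroup.iff_orderOf.1 hp) ⟨d, hmem d⟩
    obtain ⟨j, hj⟩ := (IsPGroup.iff_orderOf.1 hp) ⟨d * f, hmem _⟩
    rw [← Subgroup.orderOf_coe] at hi hj
    rw [show orderOf ((⟨d, hmem d⟩ : N) : G) = 2 from h.cov.ord] at hi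
    rw [show orderOf ((⟨d * f, hmem _⟩ : N) : G) = 3 from h3] at hj
    have e2 := (Nat.prime_dvd_prime_iff_eq Nat.prime_two (Fact.out : p.Prime)).1
      (Nat.prime_two.dvd_of_dvd_pow (dvd_of_eq hi))
    have e3 := (Nat.prime_dvd_prime_iff_eq Nat.prime_three (Fact.out : p.Prime)).1
      (Nat.prime_three.dvd_of_dvd_pow (dvd_of_eq hj))
    omega
  have hinvert : ∀ y ∈ Dc d, ∀ x ∈ N, y * x * y⁻¹ = x⁻¹ := by
    have hd : ∀ x ∈ N, d * x * d⁻¹ = x⁻¹ := by
      intro x hx
      let σ : N →* N := (MulAut.conjNormal d : MulAut N).toMonoidHom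
      have hσ : ∀ z : N, (σ z : G) = d * z * d⁻¹ := fun z => MulAut.conjNormal_apply d z
      have hfp : MonoidHom.FixedPointFree σ := fun z hz => Subtype.ext (hfixed z z.2
        (mul_inv_eq_iff_eq_mul.1 (show d * (z : G) * d⁻¹ = z by rw [← hσ, hz]) : Commute d (z : G)).symm)
      have h2 : Function.Involutive σ := fun z => Subtype.ext (by
        rw [hσ, hσ, show d * (d * (z : G) * d⁻¹) * d⁻¹ = (d * d) * z * (d * d)⁻¹ by group, h.cov.dd]; simp)
      have := congrArg Subtype.val (congrFun (hfp.coe_eq_inv_of_involutive h2) ⟨x, hx⟩)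
      rw [hσ] at this
      simpa using this
    intro y hy x hx
    obtain ⟨g, rfl⟩ := isConj_iff.1 hy
    have := hd (g⁻¹ * x * g) (by simpa using (inferInstance : N.Normal).conj_mem x hx g⁻¹)
    calc g * d * g⁻¹ * x * (g * d * g⁻¹)⁻¹ = g * (d * (g⁻¹ * x * g) * d⁻¹) * g⁻¹ := by group
      _ = x⁻¹ := by rw [this]; group
  refine (Subgroup.eq_bot_iff_forall _).2 fun x hx => hfixed x hx ?_
  obtain ⟨b, hb⟩ := h.exists_nbr
  obtain ⟨l, hlen, hlm, hlp⟩ := h.five (Or.inl rfl) (Or.inr (Or.inl hb)) hb.2.2 (Ne.symm hb.2.1)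
  have key := conj_list_inv l fun y hy => hinvert y (h.om_sub (hlm y hy).1) x hx
  rw [hlp, hlen, if_neg (by decide)] at key
  have h2 : d * b * x * (d * b)⁻¹ = x := by
    rw [show d * b * x * (d * b)⁻¹ = d * (b * x * b⁻¹) * d⁻¹ by group, hinvert b hb.1 x hx,
      hinvert d h.d_mem x⁻¹ (inv_mem hx), inv_inv]
  rw [h2] at key
  refine ((mul_inv_eq_iff_eq_mul.1 ?_ : Commute d x)).symm
  rw [hinvert d h.d_mem x hx, ← key]

theorem good_Dc : Classif.Good (Dc d) := by
  obtain ⟨b, hb⟩ := h.exists_nbr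
  have hY := h.cov.m22.good.semi
  have : Fact (Nat.Prime 2) := ⟨Nat.prime_two⟩
  have : Fact (Nat.Prime 3) := ⟨Nat.prime_three⟩
  refine Semi.good ⟨classTwo_of h.class_Dc ⟨d, h.d_mem, b, hb.1, Ne.symm hb.2.1⟩, h.center_bot,
    h.core_bot hY.two, h.core_bot hY.three, ⟨d, h.d_mem, b, hb.1, Ne.symm hb.2.1, hb.2.2⟩⟩ ?_
  have adj : ∀ {p q : G} (hp : p ∈ Dc d) (hq : q ∈ nbr (Dc d) p),
      (Cfsg.commutingGraph (Dc d)).Reachable ⟨p, hp⟩ ⟨q, hq.1⟩ := fun hp hq =>
    SimpleGraph.Adj.reachable (G := Cfsg.commutingGraph (Dc d))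
      ⟨fun e => hq.2.1 (congrArg Subtype.val e).symm, Or.inl hq.2.2⟩
  have hall : ∀ x : Dc d, (Cfsg.commutingGraph (Dc d)).Reachable ⟨d, h.d_mem⟩ x := by
    rintro ⟨x, hx⟩
    rcases h.mem_om hx with e | k | ⟨-, -, a, ha, ha'⟩
    · subst e; exact SimpleGraph.Reachable.refl _
    · exact adj h.d_mem k
    · exact (adj h.d_mem ha).trans (adj hx ha').symm
  have : Nonempty (Dc d) := ⟨⟨d, h.d_mem⟩⟩
  exact ⟨fun x y => (hall x).symm.trans (hall y)⟩

/-- What the class passes on to the level of type M(24). -/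
theorem level_Dc : LevelTwentyThree (Dc d) := by
  classical
  have hG := h.good_Dc
  have hd := h.d_mem
  have hHC : Hd (Dc d) d ≤ Cd d := fun g hg =>
    Subgroup.mem_centralizer_singleton_iff.2 (commute_of_mem_Hd hg).eq
  have hCH : Cd d ≤ Hd (Dc d) d := by
    intro g hg
    have : (⟨g, hg⟩ : Cd d) ∈ Subgroup.closure (lift φ x₁ '' E) := by
      rw [h.cov.closure_lifts h.seed]; exact Subgroup.mem_top _
    have hle : Subgroup.closure (lift φ x₁ '' E) ≤ (Hd (Dc d) d).comap (Cd d).subtype :=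
      (Subgroup.closure_le _).2 (by
        rintro _ ⟨e, he, rfl⟩
        exact Subgroup.subset_closure (h.mem_nbr_d.2 ⟨e, he, rfl⟩))
    exact hle this
  let θ : Hd (Dc d) d →* Y := φ.comp (Subgroup.inclusion hHC)
  have hθs : Function.Surjective θ := fun y => by
    obtain ⟨k, rfl⟩ := h.cov.surj y
    exact ⟨⟨k, hCH k.2⟩, rfl⟩
  have hθk : Subgroup.center (Hd (Dc d) d) = θ.ker := by
    refine le_antisymm (fun x hx => MonoidHom.mem_ker.2 ?_) fun x hx => ?_
    · have : θ x ∈ Subgroup.center Y := Subgroup.mem_center_iff.2 fun y => by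
        obtain ⟨k, rfl⟩ := hθs y
        rw [← map_mul, ← map_mul, Subgroup.mem_center_iff.1 hx k]
      rwa [h.cov.m22.loc.center, Subgroup.mem_bot] at this
    · refine Subgroup.mem_center_iff.2 fun z => ?_
      rcases h.cov.ker' _ (MonoidHom.mem_ker.1 hx) with k | k
      · rw [show x = 1 from Subtype.ext (congrArg Subtype.val k :)]; simp
      · refine Subtype.ext ?_
        show (z : G) * x = x * z
        rw [show (x : G) = d from (congrArg Subtype.val k :)]
        exact (commute_of_mem_Hd z.2).eq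
  set π := QuotientGroup.mk' (Subgroup.center (Hd (Dc d) d)) with hπ
  let ee : Hd (Dc d) d ⧸ Subgroup.center (Hd (Dc d) d) ≃* Y :=
    (QuotientGroup.quotientMulEquivOfEq hθk).trans (QuotientGroup.quotientKerEquivOfSurjective θ hθs)
  have hee : ∀ x, ee (π x) = θ x := fun x => rfl
  have himg : ee.symm '' E = imgSet (Dc d) d π := by
    ext y
    constructor
    · rintro ⟨e, he, rfl⟩
      refine ⟨fun k => ne_one h.cov.m22.set he ?_, ⟨_, Subgroup.subset_closure (h.mem_nbr_d.2 ⟨e, he, rfl⟩)⟩,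
        h.mem_nbr_d.2 ⟨e, he, rfl⟩, ee.injective ?_⟩
      · simpa using congrArg ee k
      · rw [hee, MulEquiv.apply_symm_apply]
        exact h.cov.map_lift h.seed he
    · rintro ⟨-, x, hx, rfl⟩
      obtain ⟨e, he, k⟩ := h.mem_nbr_d.1 hx
      refine ⟨e, he, ee.injective ?_⟩
      rw [MulEquiv.apply_symm_apply, hee]
      exact (h.cov.map_lift h.seed he).symm.trans (congrArg φ (Subtype.ext k.symm))
  have h22 := M22.map ee.symm himg h.cov.m22
  have hB := isBase_mk hG.group hd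
  have hcls := hG.set.prim.1
  have hNT := hG.noTwins
  have hphi : ∀ a (ha : a ∈ nbr (Dc d) d), Tower.phi π a = π ⟨a, Subgroup.subset_closure ha⟩ :=
    fun a ha => Tower.phi_of_mem π (x := ⟨a, Subgroup.subset_closure ha⟩) ha
  have C : Classif.Chart (Dc d) d (Tower.phi π) (imgSet (Dc d) d π) := by
    refine ⟨hd, ⟨fun a ha => ?_, fun a ha b hb k => ?_, ?_⟩, fun a ha b hb => ?_, fun a ha b hb => ?_⟩
    · rw [hphi a ha]; exact hB.img_mem hcls hNT ha
    · rw [hphi a ha, hphi b hb] at k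
      exact congrArg Subtype.val (hB.img_injective hcls hNT (x := ⟨a, Subgroup.subset_closure ha⟩)
        (y := ⟨b, Subgroup.subset_closure hb⟩) ha hb k)
    · rintro _ ⟨-, y, hy, rfl⟩
      exact ⟨y, hy, hphi _ hy⟩
    · rw [hphi a ha, hphi b hb]
      exact hB.commute_img (x := ⟨a, Subgroup.subset_closure ha⟩) (y := ⟨b, Subgroup.subset_closure hb⟩) ha hb
    · rw [hphi a ha, hphi b hb, hphi _ (Classif.nbr_closed hG.set.hD.closed ha hb), ← map_mul, ← map_mul]
      rfl
  exact level_twentyThree (FromRefl.lift_refl (by norm_num)) hG hπ C h22.good h22.level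

/-- The group is of type M(23). -/
theorem typeM23 : Cfsg.IsOfTypeM23 G (Dc d) := h.level_Dc.1

end Hy

end CfsgLib.ThreeTrans.FiCent23
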