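import Mathlib
import Cfsg.Agent.Lib.ThreeTrans.FiCent23.Setup

/-! The Thompson subgroup of a Sylow 2-subgroup of the centraliser is the subgroup over the base it fixes. -/

set_option autoImplicit false
set_option linter.unusedSectionVars false

namespace CfsgLib.ThreeTrans.FiCent23

open CfsgLib.ThreeTrans CfsgLib.ThreeTrans.Tower CfsgLib.ThreeTrans.TypeTop

universe u v

variable {G : Type u} [Group G] [Finite G] {Y : Type v} [Group Y] [Finite Y]
  {d : G} {φ : Cd d →* Y} {E : Set Y}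

theorem Cov.thompson (h : Cov d φ E) {x₀ : Cd d} (hx₀ : φ x₀ ∈ E) (S : Sylow 2 (Cd d)) :
    ∃ B, Fr d φ E x₀ B ∧ Cfsg.thompsonSubgroupOf 2 (S : Subgroup (Cd d)) = AA φ B := by
  classical
  have : Fact (Nat.Prime 2) := ⟨Nat.prime_two⟩
  obtain ⟨B₁, hB₁, hfix⟩ := h.m22.exists_base_fixed (P := (S : Subgroup (Cd d)).map φ) (S.2.map φ)
  let B := B₁.toFinite.toFinset
  have f : Fr d φ E x₀ B := ⟨h, hx₀, by simpa [B] using hB₁⟩
  refine ⟨B, f, ?_⟩
  have hB : (↑B : Set Y) = B₁ := by simp [B]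
  have hAp : IsPGroup 2 (AA φ B) := IsPGroup.of_card f.card_AA
  have hAS : AA φ B ≤ S := by
    have hnorm : (S : Subgroup (Cd d)) ≤ Subgroup.normalizer (AA φ B : Set (Cd d)) := by
      intro s hs
      refine mem_normalizer_of fun x hx => ?_
      have hg : cj (φ s) '' (↑B : Set Y) = ↑B := by rw [hB]; exact hfix _ ⟨s, hs, rfl⟩
      show φ (s * x * s⁻¹) ∈ Subgroup.closure (↑B : Set Y)
      rw [h.surj_conj, ← hg]
      exact (MonoidHom.map_closure (MulAut.conj (φ s)).toMonoidHom (↑B : Set Y)).le ⟨_, hx, rfl⟩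
    have hsup := S.2.to_sup_of_normal_right' hAp hnorm
    exact le_sup_right.trans (S.3 hsup le_sup_left).le
  have hW : ∀ W : Subgroup (Cd d), W ≤ S → Cfsg.IsElementaryAbelian 2 W → 2 ^ 11 ≤ Nat.card W → W = AA φ B := by
    intro W hWS hW hcard
    have := hW.1
    have hle : W.map φ ≤ Subgroup.closure (↑B : Set Y) := by
      by_contra hn
      have hel : Cfsg.IsElementaryAbelian 2 (W.map φ) := ⟨inferInstance, by
        rintro _ ⟨x, hx, rfl⟩
        rw [← map_pow, hW.2 x hx, map_one]⟩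
      have hlt := card_lt_base h.m22.set f.base (fun x hx h1 => h.m22.classify hx h1)
        (h.m22.rel (by norm_num) (by norm_num)) hel (fun g hg b hb => by
          obtain ⟨s, hs, rfl⟩ := hg
          rw [hB] at hb ⊢
          exact hfix _ ⟨s, hWS hs, rfl⟩ ▸ Set.mem_image_of_mem (cj (φ s)) hb) hn
      rw [f.card_closure] at hlt
      have hker : Nat.card φ.ker ≤ 2 := by
        rw [← SetLike.coe_sort_coe, Nat.card_coe_set_eq]
        exact (Set.ncard_le_ncard (t := {1, dC d}) (fun g hg => (h.ker g).1 hg) (Set.toFinite _)).trans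
          ((Set.ncard_insert_le _ _).trans (by simp))
      have h2 : Nat.card W ≤ 2 * Nat.card (W.map φ) := by
        rw [← Subgroup.card_mul_index (φ.subgroupMap W).ker, Subgroup.index_ker,
          MonoidHom.range_eq_top.2 (φ.subgroupMap_surjective W), Subgroup.card_top]
        refine Nat.mul_le_mul (le_trans ?_ hker) le_rfl
        exact Nat.card_le_card_of_injective (fun x => ⟨x.1.1, congrArg Subtype.val x.2⟩) fun u v e =>
          Subtype.ext (Subtype.ext (congrArg Subtype.val e :))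
      omega
    exact Subgroup.eq_of_le_of_card_ge (fun x hx => hle ⟨x, hx, rfl⟩) (by rw [f.card_AA]; exact hcard)
  have hAel : Cfsg.IsElementaryAbelian 2 ((AA φ B).subgroupOf (S : Subgroup (Cd d))) := by
    refine ⟨⟨⟨fun a b => Subtype.ext (Subtype.ext (Subtype.ext ?_))⟩⟩, fun a ha => Subtype.ext (Subtype.ext ?_)⟩
    · exact congrArg (fun z : Cd d => (z : G)) (Subtype.ext ((f.commA (Fr.mem_Agrp.2 ⟨_, a.2, rfl⟩)
        (Fr.mem_Agrp.2 ⟨_, b.2, rfl⟩)).eq) : ((a : (S : Subgroup (Cd d))) : Cd d) * b = b * a)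
    · exact f.A_elementary.2 _ (Fr.mem_Agrp.2 ⟨_, ha, rfl⟩)
  have hcardA : Nat.card ((AA φ B).subgroupOf (S : Subgroup (Cd d))) = 2 ^ 11 := by
    rw [Nat.card_congr (Subgroup.subgroupOfEquivOfLe hAS).toEquiv, f.card_AA]
  have hto : ∀ W : Subgroup (S : Subgroup (Cd d)), Cfsg.IsElementaryAbelian 2 W → 2 ^ 11 ≤ Nat.card W →
      W = (AA φ B).subgroupOf (S : Subgroup (Cd d)) := by
    intro W hW' hc
    have := hW'.1
    have e := hW (W.map (S : Subgroup (Cd d)).subtype) (Subgroup.map_subtype_le W) ⟨inferInstance, by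
        rintro _ ⟨x, hx, rfl⟩
        rw [← map_pow, hW'.2 x hx, map_one]⟩
      (by rw [Subgroup.card_map_of_injective (S : Subgroup (Cd d)).subtype_injective]; exact hc)
    rw [← e]
    exact (Subgroup.comap_map_eq_self_of_injective (Subgroup.subtype_injective _) W).symm
  have hmax : Cfsg.maxElementaryAbelianSubgroups 2 (S : Subgroup (Cd d)) =
      {(AA φ B).subgroupOf (S : Subgroup (Cd d))} := by
    ext W
    constructor
    · rintro ⟨h1, h2⟩
      exact hto W h1 (hcardA ▸ h2 _ hAel)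
    · rintro rfl
      refine ⟨hAel, fun W hW' => ?_⟩
      rcases lt_or_ge (Nat.card W) (2 ^ 11) with k | k
      · rw [hcardA]; exact k.le
      · rw [hto W hW' k]
  rw [Cfsg.thompsonSubgroupOf, Cfsg.thompsonSubgroup, hmax, sSup_singleton, Subgroup.subgroupOf_map_subtype,
    inf_eq_left.2 hAS]

end CfsgLib.ThreeTrans.FiCent23
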